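import Groth.Agent.Lib.Lead.XS.Shift
import Groth.Agent.Lib.Lead.CohLES.H0Lin
import Groth.Agent.Lib.Lead.CohLES.Basic
import Groth.Agent.Lib.Lead.HF.Sheaf
import Groth.Prelude.Def_KLin

/-! # The sheaf Hom and twisting; global sections of the sheaf Hom

* `homShTwistNatIso`: `𝓗om(K, G ⊗ L) ≅ 𝓗om(K, G) ⊗ L` for `L` invertible, `K` quasi-coherent.
* `homHH`: `Hom(K, G) ≃ₗ[A] H⁰(X, 𝓗om(K, G))`, natural in `K`.
-/

set_option autoImplicit false
set_option linter.style.haveILetI false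
noncomputable section
universe u
open CategoryTheory Limits AlgebraicGeometry TopologicalSpace Opposite

namespace Groth.Agent.LD.XS

open Groth.Agent.H2.HomSh Groth.Agent.LD Groth.Agent.LD.PD.HA

attribute [-instance] Groth.Agent.LD.QC.stalkModule

variable {X : Scheme.{u}}

/-- `𝓗om(K, - ⊗ L) ≅ 𝓗om(K, -) ⊗ L` for an invertible module `L` with inverse `L'`. -/
def homShTwistNatIso (K L L' : X.Modules) [K.IsQuasicoherent]
    (e : CohB1.tensorMod L L' ≅ QC.unitMod X) :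
    QC.twF L ⋙ homShF K ≅ homShF K ⋙ QC.twF L :=
  let adjL : QC.twF L' ⊣ QC.twF L := (QC.twEquiv L L' e).symm.toAdjunction
  let adj₁ : QC.twF K ⋙ QC.twF L' ⊣ QC.twF L ⋙ homShF K := (adjR K).comp adjL
  let adj₂ : QC.twF L' ⋙ QC.twF K ⊣ homShF K ⋙ QC.twF L := adjL.comp (adjR K)
  let c : QC.twF L' ⋙ QC.twF K ≅ QC.twF K ⋙ QC.twF L' :=
    (QC.twFComp L' K).symm ≪≫ QC.twFCongr (QC.tensorCommGen L' K) ≪≫ QC.twFComp K L'
  adj₁.rightAdjointUniq (adj₂.ofNatIsoLeft c)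

/-- `𝓗om(K, G ⊗ L) ≅ 𝓗om(K, G) ⊗ L`. -/
def homShTwistIso (K L L' : X.Modules) [K.IsQuasicoherent]
    (e : CohB1.tensorMod L L' ≅ QC.unitMod X) (G : X.Modules) :
    RefHull.homSh K (CohB1.tensorMod G L) ≅ CohB1.tensorMod (RefHull.homSh K G) L :=
  (homShTwistNatIso K L L' e).app G

section Tau
variable {K E G : X.Modules}

/-- sections of the sheaf Hom are determined by their action on sections. -/
lemma sec_ext_app {U : X.Opens} (g g' : Γ(RefHull.homSh K G, U))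
    (h : ∀ (V : X.Opens) (hVU : V ≤ U) (m : Γ(K, V)), app g hVU m = app g' hVU m) : g = g' := by
  apply hom_ext
  intro x hx
  apply LinearMap.ext
  intro v
  obtain ⟨W, hxW, m, rfl⟩ := TopCat.Presheaf.exists_germ_eq K.presheaf v
  have hV : W ⊓ U ≤ U := inf_le_right
  have hx' : x ∈ W ⊓ U := ⟨hxW, hx⟩
  have h1 := TopCat.Presheaf.germ_res_apply K.presheaf (homOfLE (inf_le_left : W ⊓ U ≤ W)) x hx' m
  rw [← h1]
  have h2 := germ_app g hV (K.presheaf.map (homOfLE (inf_le_left : W ⊓ U ≤ W)).op m) x hx'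
  have h3 := germ_app g' hV (K.presheaf.map (homOfLE (inf_le_left : W ⊓ U ≤ W)).op m) x hx'
  exact h2.symm.trans ((congrArg (fun z => G.presheaf.germ (W ⊓ U) x hx' z) (h _ hV _)).trans h3)

lemma ofHom_add (φ ψ : K ⟶ G) :
    RefHull.ofHom (φ + ψ) ⊤ = RefHull.ofHom φ ⊤ + RefHull.ofHom ψ ⊤ := by
  apply sec_ext_app
  intro V hVU m
  rw [app_ofHom, app_add_hom, app_ofHom, app_ofHom]
  rfl

lemma preSec_ofHom (u : K ⟶ E) (φ : E ⟶ G) :
    preSec u (RefHull.ofHom φ ⊤) = RefHull.ofHom (u ≫ φ) ⊤ := by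
  apply sec_ext_app
  intro V hVU m
  rw [app_preSec, app_ofHom, app_ofHom]
  rfl

variable (A : Type u) [CommRing A] [X.Over (Spec (CommRingCat.of A))]

lemma ofHom_smul (a : A) (φ : K ⟶ G) :
    RefHull.ofHom (a • φ) ⊤ =
      (show Γ(X, ⊤) from Coh.toGlobal (X ↘ Spec (CommRingCat.of A)) a) • RefHull.ofHom φ ⊤ := by
  apply sec_ext_app
  intro V hVU m
  rw [app_ofHom, app_smul_hom, app_ofHom, KLin.smul_app_apply]

/-- `Hom(K, G) ≃ₗ[A] H⁰(X, 𝓗om(K, G))`. -/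
def homHH (K G : X.Modules) : (K ⟶ G) ≃ₗ[A] Coh.HH X (RefHull.homSh K G) 0 where
  toFun φ := (CL.HH0Equiv (RefHull.homSh K G)).symm (RefHull.ofHom φ ⊤)
  map_add' φ ψ := by rw [ofHom_add, map_add]
  map_smul' a φ := by
    apply (CL.HH0Equiv (RefHull.homSh K G)).injective
    refine Eq.trans ?_ (CL.HH0Equiv_smul (RefHull.homSh K G)
      (Coh.toGlobal (X ↘ Spec (CommRingCat.of A)) a)
      ((CL.HH0Equiv (RefHull.homSh K G)).symm (RefHull.ofHom φ ⊤))).symm
    rw [AddEquiv.apply_symm_apply, AddEquiv.apply_symm_apply]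
    exact ofHom_smul A a φ
  invFun x := HF.homOfSec (CL.HH0Equiv (RefHull.homSh K G) x)
  left_inv φ := by
    change HF.homOfSec (CL.HH0Equiv (RefHull.homSh K G)
      ((CL.HH0Equiv (RefHull.homSh K G)).symm (RefHull.ofHom φ ⊤))) = φ
    rw [AddEquiv.apply_symm_apply, HF.homOfSec_ofHom]
  right_inv x := by
    change (CL.HH0Equiv (RefHull.homSh K G)).symm
      (RefHull.ofHom (HF.homOfSec (CL.HH0Equiv (RefHull.homSh K G) x)) ⊤) = x
    rw [HF.ofHom_homOfSec, AddEquiv.symm_apply_apply]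

lemma homHH_apply (φ : K ⟶ G) :
    homHH A K G φ = (CL.HH0Equiv (RefHull.homSh K G)).symm (RefHull.ofHom φ ⊤) := rfl

/-- naturality of `homHH` in the first variable. -/
lemma homHH_natural (u : K ⟶ E) (φ : E ⟶ G) :
    CL.HHmap A (preHom u G) 0 (homHH A E G φ) = homHH A K G (u ≫ φ) := by
  apply (CL.HH0Equiv (RefHull.homSh K G)).injective
  rw [CL.HHmap_apply, ← CL.HHmapZ_apply, CL.HH0Equiv_map, homHH_apply, homHH_apply,
    AddEquiv.apply_symm_apply, AddEquiv.apply_symm_apply, preHom_app]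
  exact preSec_ofHom u φ

end Tau

end Groth.Agent.LD.XS
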