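import Groth.Agent.Lib.Lead.XS.Shift
import Groth.Agent.Lib.Lead.QC.TwistExt
import Groth.Agent.Lib.Lead.QC.SubExt
import Groth.Agent.Lib.Lead.QC.IdealMod
import Groth.Agent.Lib.Lead.QC.TensorPow
import Groth.Agent.Lib.Lead.QC.FiniteFree
import Groth.Agent.Lib.Lead.QC.ProjFormulaLF
import Groth.Agent.Lib.Lead.PD.LefCoh

/-! # `𝓔xt¹(O_D, ω) ≅ O_D ⊗ (L ⊗ ω)` for an invertible ideal with inverse `L`

For a quasi-coherent ideal `J` whose ideal module `I` has a tensor inverse `L`, the sequence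
`0 → I → O → O/J → 0` computes `𝓔xt¹(O/J, ω)` as the cokernel of `𝓗om(O, ω) → 𝓗om(I, ω)`.  Since
`- ⊗ I` is an equivalence, its right adjoint `𝓗om(I, -)` is `- ⊗ L`, and `𝓗om(ι, ω)` is the conjugate
of `- ⊗ ι`; hence the cokernel is `(ω ⊗ O/J) ⊗ L`.
-/

set_option autoImplicit false
set_option linter.style.haveILetI false
noncomputable section
universe u
open CategoryTheory Limits AlgebraicGeometry TopologicalSpace Opposite

namespace Groth.Agent.LD.XS

open Groth.Agent.H2.HomSh Groth.Agent.LD Groth.Agent.LD.PD.HA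

attribute [-instance] Groth.Agent.LD.QC.stalkModule
attribute [local instance] Groth.Agent.LD.MS.hasSheafHom

section Abstract

universe v₁ v₂ u₁ u₂
variable {C : Type u₁} [Category.{v₁} C] {D : Type u₂} [Category.{v₂} D]
  [HasZeroMorphisms C] [HasZeroMorphisms D] [HasCokernels C] [HasCokernels D]

/-- the cokernel of a component of a conjugate natural transformation, when the relevant unit and
counit are invertible. -/
theorem nonempty_coker_conj_iso {L₁ L₂ : C ⥤ D} {R₁ R₂ : D ⥤ C} (adj₁ : L₁ ⊣ R₁) (adj₂ : L₂ ⊣ R₂)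
    (α : L₂ ⟶ L₁) (d : D) [IsIso (adj₂.unit.app (R₁.obj d))] [IsIso (adj₁.counit.app d)]
    [R₂.PreservesZeroMorphisms] [PreservesColimit (parallelPair (α.app (R₁.obj d)) 0) R₂] :
    Nonempty (cokernel ((conjugateEquiv adj₁ adj₂ α).app d) ≅
      R₂.obj (cokernel (α.app (R₁.obj d)))) := by
  have h := conjugateEquiv_apply_app adj₁ adj₂ α d
  let p : R₁.obj d ≅ R₂.obj (L₂.obj (R₁.obj d)) := asIso (adj₂.unit.app (R₁.obj d))
  let q : R₂.obj (L₁.obj (R₁.obj d)) ≅ R₂.obj d := R₂.mapIso (asIso (adj₁.counit.app d))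
  have w : (conjugateEquiv adj₁ adj₂ α).app d ≫ q.symm.hom =
      p.hom ≫ R₂.map (α.app (R₁.obj d)) := by
    change (conjugateEquiv adj₁ adj₂ α).app d ≫ q.inv = p.hom ≫ R₂.map (α.app (R₁.obj d))
    rw [Iso.comp_inv_eq, h]
    simp [p, q]
  exact ⟨cokernel.mapIso _ _ p q.symm w ≪≫ (PreservesCokernel.iso R₂ _).symm⟩

end Abstract

/-- the unit-to-pushforward map of an isomorphism is an isomorphism. -/
lemma isIso_unitToPush_of_isIso {D D' : Scheme.{u}} (e : D ⟶ D') [IsIso e] :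
    IsIso (ClSub.unitToPush e) := by
  apply QC.isIso_of_bijective_app
  intro W
  have hb := ConcreteCategory.bijective_of_isIso (e.app W)
  exact ⟨fun a b h => hb.1 h, fun y => hb.2 y⟩

/-- `O_X / ker i ≅ i_* O_D` for a closed immersion `i : D ⟶ X`. -/
def quotModIso {X D : Scheme.{u}} (i : D ⟶ X) [IsClosedImmersion i] :
    ClSub.quotMod i.ker ≅ (Scheme.Modules.pushforward i).obj (Coh.structureModule D) :=
  haveI : IsIso (ClSub.unitToPush i.toImage) := isIso_unitToPush_of_isIso i.toImage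
  (Scheme.Modules.pushforward i.ker.subschemeι).mapIso (asIso (ClSub.unitToPush i.toImage)) ≪≫
    (Scheme.Modules.pushforwardComp i.toImage i.ker.subschemeι).app (Coh.structureModule D) ≪≫
    (Scheme.Modules.pushforwardCongr i.toImage_imageι).app (Coh.structureModule D)

variable {X : Scheme.{u}} [HasInjectiveResolutions (ModSite.Mod X.sheaf)]

/-- **`𝓔xt¹(O/J, ω) ≅ O/J ⊗ (L ⊗ ω)`** when `L ⊗ I ≅ O` for the ideal module `I` of `J`. -/
theorem nonempty_ext1_iso (J : X.IdealSheafData) (Q : X.Modules) (φ : ClSub.quotMod J ≅ Q)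
    (L : X.Modules) (e : CohB1.tensorMod L (ClSub.idealMod J) ≅ QC.unitMod X) (ω : X.Modules) :
    Nonempty ((ModSite.extSh (O := X.sheaf) Q 1).obj ω ≅
      CohB1.tensorMod Q (CohB1.tensorMod L ω)) := by
  classical
  let I : X.Modules := ClSub.idealMod J
  let O : X.Modules := QC.unitMod X
  let ι : I ⟶ O := ClSub.idealModι J
  let S : ShortComplex X.Modules := ShortComplex.mk (ClSub.idealModι J)
    (ClSub.toSubscheme J ≫ φ.hom)
    ((Category.assoc _ _ _).symm.trans
      ((congrArg (fun t => t ≫ φ.hom) (kernel.condition (ClSub.toSubscheme J))).trans zero_comp))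
  have hS : S.ShortExact :=
    ShortComplex.shortExact_of_iso
      (ShortComplex.isoMk
        (S₁ := ShortComplex.mk (ClSub.idealModι J) (ClSub.toSubscheme J)
          (kernel.condition (ClSub.toSubscheme J))) (S₂ := S)
        (Iso.refl _) (Iso.refl _) φ (by simp [S]) (by simp [S]))
      (PD.shortExact_idealMod J)
  haveI : S.X₁.IsQuasicoherent := (inferInstance : (ClSub.idealMod J).IsQuasicoherent)
  haveI : S.X₂.IsQuasicoherent := (inferInstance : (QC.unitMod X).IsQuasicoherent)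
  haveI : I.IsQuasicoherent := (inferInstance : (ClSub.idealMod J).IsQuasicoherent)
  haveI : O.IsQuasicoherent := (inferInstance : (QC.unitMod X).IsQuasicoherent)
  obtain ⟨a⟩ := nonempty_cokernel_iso hS
    (QC.isFinLocFree_of_isInvertible _ (QC.isInvertible_unit X)) ω
  -- the equivalence `- ⊗ I`
  let e' : CohB1.tensorMod I L ≅ QC.unitMod X := QC.tensorCommGen I L ≪≫ e
  let E : X.Modules ≌ X.Modules := QC.twEquiv I L e'
  let adjE : QC.twF I ⊣ QC.twF L := E.toAdjunction
  haveI : (QC.twF I).IsEquivalence := inferInstanceAs E.functor.IsEquivalence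
  haveI : (QC.twF O).IsEquivalence := Functor.isEquivalence_of_iso QC.twFUnit.symm
  haveI : (homShF I).IsEquivalence := (adjR I).isEquivalence_right_of_isEquivalence_left
  haveI : (homShF I).Additive := (adjR I).right_adjoint_additive
  let τ : QC.twF I ⟶ QC.twF O := (ModSite.tensorBi X.sheaf).flip.map ι
  let H : X.Modules := RefHull.homSh O ω
  haveI : IsIso ((adjR I).unit.app ((homShF O).obj ω)) := inferInstance
  have hε : IsIso ((adjR O).counit.app ω) := inferInstance
  haveI := hε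
  obtain ⟨b⟩ := nonempty_coker_conj_iso (adjR O) (adjR I) τ ω
  have hb : (conjugateEquiv (adjR O) (adjR I) τ).app ω = preHom ι ω := conj_app_eq_preHom ι ω
  -- `𝓗om(I, -) ≅ - ⊗ L`
  let ρ : homShF I ≅ QC.twF L := (adjR I).rightAdjointUniq adjE
  let c := ρ.app (cokernel (τ.app ((homShF O).obj ω)))
  -- the cokernel of `H ⊗ I → H ⊗ O`
  haveI : Epi S.g := hS.epi_g
  let d2 : cokernel ι ≅ Q :=
    (cokernelIsCokernel S.f).coconePointUniqueUpToIso hS.exact.gIsCokernel
  let d1 : cokernel (τ.app ((homShF O).obj ω)) ≅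
      ((ModSite.tensorBi X.sheaf).obj H).obj (cokernel ι) :=
    (PreservesCokernel.iso ((ModSite.tensorBi X.sheaf).obj H) ι).symm
  let d : cokernel (τ.app ((homShF O).obj ω)) ≅ CohB1.tensorMod H Q :=
    d1 ≪≫ ((ModSite.tensorBi X.sheaf).obj H).mapIso d2
  -- `H ≅ ω`
  let hω : H ≅ ω := (SecTwist.unitorR H).symm ≪≫ @asIso _ _ _ _ ((adjR O).counit.app ω) hε
  let e1 : CohB1.tensorMod (CohB1.tensorMod H Q) L ≅ CohB1.tensorMod (CohB1.tensorMod Q H) L :=
    (QC.twF L).mapIso (QC.tensorCommGen H Q)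
  let e2 : CohB1.tensorMod (CohB1.tensorMod Q H) L ≅ CohB1.tensorMod Q (CohB1.tensorMod H L) :=
    ((QC.twFComp H L).app Q).symm
  let e3 : CohB1.tensorMod Q (CohB1.tensorMod H L) ≅ CohB1.tensorMod Q (CohB1.tensorMod L ω) :=
    ((ModSite.tensorBi X.sheaf).obj Q).mapIso
      (QC.tensorCommGen H L ≪≫ ((ModSite.tensorBi X.sheaf).obj L).mapIso hω)
  exact ⟨a.symm ≪≫ (cokernelIsoOfEq hb).symm ≪≫ b ≪≫ c ≪≫ (QC.twF L).mapIso d ≪≫ e1 ≪≫ e2 ≪≫ e3⟩

end Groth.Agent.LD.XS
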