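import Groth.Agent.Lib.Lead.XS.LowEdge
import Groth.Agent.Lib.Lead.XS.Cartier
import Groth.Agent.Lib.Lead.QC.ClosedUnit
import Groth.Agent.Lib.Lead.QC.EpiLocal

/-! # Modules killed by an ideal sheaf, and `Hom(G, 𝓔xtʳ(O/J, Z)) ≃ Extʳ(G, Z)`

For a quasi-coherent ideal `J` with quotient `η : O ⟶ A`, if `𝓔xt^q(A, Z) = 0` for `q < r` then for
every module `G` killed by `J` the maps `Hom(G, 𝓔xtʳ(A, Z)) → Extʳ(G, Z)` induced by a universal
class are bijective. -/

set_option autoImplicit false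
set_option linter.style.haveILetI false
noncomputable section
universe u
open CategoryTheory Limits AlgebraicGeometry TopologicalSpace Opposite Abelian

namespace Groth.Agent.LD.XS.KE

open Groth.Agent.H2.HomSh Groth.Agent.LD Groth.Agent.LD.PD.HA Groth.Agent.LD.XS

attribute [-instance] Groth.Agent.LD.QC.stalkModule
attribute [local instance] Groth.Agent.LD.MS.hasSheafHom

variable {X : Scheme.{u}}

/-- modules killed by an ideal sheaf. -/
def Kil (J : X.IdealSheafData) (G : X.Modules) : Prop :=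
  ∀ (U : X.affineOpens) (a : Γ(X, U.1)), a ∈ J.ideal U → ∀ s : Γ(G, U.1), a • s = 0

/-- sections of the structure module, as functions. -/
def fnOf (U : X.Opens) (c : Γ(QC.unitMod X, U)) : Γ(X, U) := c

lemma kil_of_mono (J : X.IdealSheafData) {G' G : X.Modules} (m : G' ⟶ G) [Mono m]
    (hG : Kil J G) : Kil J G' := by
  intro U a ha s
  apply QC.mono_app m U.1
  have h1 : m.app U.1 (a • s) = a • m.app U.1 s := Scheme.Modules.Hom.app_smul m a s
  have h2 : m.app U.1 (0 : Γ(G', U.1)) = 0 := (QC.appLinear m U.1).map_zero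
  rw [h1, hG U a ha, h2]

lemma kil_homSh (J : X.IdealSheafData) (A Y : X.Modules) [A.IsQuasicoherent] (hA : Kil J A) :
    Kil J (RefHull.homSh A Y) := by
  intro U a ha g
  apply hom_ext_affine U.2 le_rfl
  intro m
  rw [app_smul_hom, app_zero_hom, ← app_smul]
  have e1 : X.presheaf.map (homOfLE (le_refl U.1)).op a = a := by
    have h0 : (homOfLE (le_refl U.1)).op = 𝟙 (op U.1) := rfl
    rw [h0, X.presheaf.map_id]
    rfl
  rw [e1, hA U a ha]
  exact (appLin g le_rfl).map_zero

lemma tensorMap_idealModι_eq_zero (J : X.IdealSheafData) (G : X.Modules) (hG : Kil J G) :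
    KoszTw.tensorMap (𝟙 G) (ClSub.idealModι J) = 0 := by
  apply QC.hom_ext_tmul
  intro U g a
  rw [KoszTw.tensorMap_tmul]
  have hz : (0 : CohB1.tensorMod G (ClSub.idealMod J) ⟶ CohB1.tensorMod G (QC.unitMod X)).app U
      (SecTwist.tmul G (ClSub.idealMod J) U g a) = 0 := rfl
  rw [hz]
  have hinj : Function.Injective ((SecTwist.unitorR G).hom.app U) :=
    QC.mono_app (SecTwist.unitorR G).hom U
  apply hinj
  have h1 : (SecTwist.unitorR G).hom.app U (SecTwist.tmul G (QC.unitMod X) U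
      (Scheme.Modules.Hom.app (𝟙 G) U g) ((ClSub.idealModι J).app U a)) =
      fnOf U ((ClSub.idealModι J).app U a) • Scheme.Modules.Hom.app (𝟙 G) U g :=
    SecTwist.unitorR_tmul G U _ _
  have h2 : (SecTwist.unitorR G).hom.app U (0 : Γ(CohB1.tensorMod G (QC.unitMod X), U)) = 0 :=
    (QC.appLinear (SecTwist.unitorR G).hom U).map_zero
  rw [h1, h2]
  apply section_ext_affine
  intro V hV
  rw [QC.smul_res]
  have hb : X.presheaf.map (homOfLE hV).op (fnOf U ((ClSub.idealModι J).app U a)) ∈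
      J.ideal V := by
    have e := QC.app_res (ClSub.idealModι J) hV a
    rw [← QC.exists_idealModι_app_eq_iff J V]
    exact ⟨(ClSub.idealMod J).presheaf.map (homOfLE hV).op a, e⟩
  rw [hG V _ hb]
  exact (map_zero _).symm

/-! ### closed immersions -/

section Closed
variable {Z : Scheme.{u}} (i : Z ⟶ X) [IsClosedImmersion i]

/-- the unit `G ⟶ i_* i^* G` is an epimorphism for quasi-coherent `G`. -/
theorem epi_unit_of_qc (G : X.Modules) [G.IsQuasicoherent] :
    Epi ((Scheme.Modules.pullbackPushforwardAdjunction i).unit.app G) := by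
  apply QC.epi_of_local_lift
  intro U t x hx
  obtain ⟨W, hW, hxW, hWU⟩ := exists_isAffineOpen_mem_and_subset (x := x) (U := U) hx
  have hWU' : W ≤ U := hWU
  obtain ⟨g, hg⟩ := (QC.unitSec_closedImmersion i G hW).1
    (((Scheme.Modules.pushforward i).obj ((Scheme.Modules.pullback i).obj G)).presheaf.map
      (homOfLE hWU').op t)
  exact ⟨W, hWU', hxW, g, hg⟩

theorem isIso_unit_push (F : Z.Modules) [F.IsQuasicoherent] :
    IsIso ((Scheme.Modules.pullbackPushforwardAdjunction i).unit.app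
      ((Scheme.Modules.pushforward i).obj F)) := by
  haveI : ((Scheme.Modules.pushforward i).obj F).IsQuasicoherent := QC.qc_pushforward i F
  haveI := epi_unit_of_qc i ((Scheme.Modules.pushforward i).obj F)
  haveI : IsSplitMono ((Scheme.Modules.pullbackPushforwardAdjunction i).unit.app
      ((Scheme.Modules.pushforward i).obj F)) :=
    IsSplitMono.mk' ⟨(Scheme.Modules.pushforward i).map
      ((Scheme.Modules.pullbackPushforwardAdjunction i).counit.app F),
      (Scheme.Modules.pullbackPushforwardAdjunction i).right_triangle_components F⟩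
  exact isIso_of_mono_of_epi _

/-- direct images along a closed immersion are killed by its ideal. -/
theorem kil_push (F : Z.Modules) [F.IsQuasicoherent] :
    Kil i.ker ((Scheme.Modules.pushforward i).obj F) := by
  haveI : ((Scheme.Modules.pushforward i).obj F).IsQuasicoherent := QC.qc_pushforward i F
  exact (QC.isIso_unit_closedImmersion_iff i _).mp (isIso_unit_push i F)

end Closed

/-! ### the edge isomorphism -/

section Edge

/-- `𝓗om(O, -) ≅ id`. -/
def homUnitIso : homShF (QC.unitMod X) ≅ 𝟭 X.Modules :=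
  (adjR (QC.unitMod X)).rightAdjointUniq ((Adjunction.id).ofNatIsoLeft QC.twFUnit.symm)

/-- evaluation at `1`: `𝓗om(O, Y) ⟶ Y`. -/
def evU (Y : X.Modules) : RefHull.homSh (QC.unitMod X) Y ⟶ Y := homUnitIso.hom.app Y

/-- the inverse of `evU`. -/
def evUinv (Y : X.Modules) : Y ⟶ RefHull.homSh (QC.unitMod X) Y := homUnitIso.inv.app Y

lemma evUinv_evU (Y : X.Modules) : evUinv Y ≫ evU Y = 𝟙 Y := homUnitIso.inv_hom_id_app Y

lemma evU_evUinv (Y : X.Modules) : evU Y ≫ evUinv Y = 𝟙 (RefHull.homSh (QC.unitMod X) Y) :=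
  homUnitIso.hom_inv_id_app Y

instance (Y : X.Modules) : IsIso (evU Y) := ⟨evUinv Y, evU_evUinv Y, evUinv_evU Y⟩

lemma evU_natural {Y Y' : X.Modules} (f : Y ⟶ Y') :
    HF.postHom (QC.unitMod X) f ≫ evU Y' = evU Y ≫ f :=
  homUnitIso.hom.naturality f

variable (J : X.IdealSheafData) (A : X.Modules) [A.IsQuasicoherent] (η : QC.unitMod X ⟶ A)

/-- evaluation at the unit section: `𝓗om(A, Y) ⟶ Y`. -/
def evOne (Y : X.Modules) : RefHull.homSh A Y ⟶ Y :=
  preHom η Y ≫ evU Y

omit [A.IsQuasicoherent] in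
lemma evOne_natural {Y Y' : X.Modules} (f : Y ⟶ Y') :
    HF.postHom A f ≫ evOne A η Y' = evOne A η Y ≫ f := by
  unfold evOne
  have h1 : HF.postHom A f ≫ preHom η Y' = preHom η Y ≫ HF.postHom (QC.unitMod X) f :=
    (preNat η).naturality f
  rw [← Category.assoc, h1, Category.assoc, evU_natural, Category.assoc]

variable (w : ClSub.idealModι J ≫ η = 0)
  (hS : (ShortComplex.mk (ClSub.idealModι J) η w).ShortExact)

include hS in
lemma epi_tensorMap_eta (G : X.Modules) : Epi (KoszTw.tensorMap (𝟙 G) η) := by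
  haveI : Epi η := hS.epi_g
  rw [← KoszTw.tensorBi_obj_map]
  exact (inferInstance : Epi ((QC.LT G).map η))

include hS in
lemma evOne_inj (G Y : X.Modules) (ξ ξ' : G ⟶ RefHull.homSh A Y)
    (h : ξ ≫ evOne A η Y = ξ' ≫ evOne A η Y) : ξ = ξ' := by
  unfold evOne at h
  have h2 : (ξ ≫ preHom η Y) ≫ evU Y = (ξ' ≫ preHom η Y) ≫ evU Y := by
    rw [Category.assoc, Category.assoc]; exact h
  have h' : ξ ≫ preHom η Y = ξ' ≫ preHom η Y := (cancel_mono (evU Y)).mp h2
  apply sharpR_injective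
  have h1 := congrArg (fun z => sharpR z) h'
  simp only [sharpR_preHom] at h1
  haveI := epi_tensorMap_eta J A η w hS G
  exact (cancel_epi _).mp h1

include hS in
lemma evOne_surj (G Y : X.Modules) (hG : Kil J G) (f : G ⟶ Y) :
    ∃ ξ : G ⟶ RefHull.homSh A Y, ξ ≫ evOne A η Y = f := by
  let lam' : CohB1.tensorMod G (QC.unitMod X) ⟶ Y := sharpR (f ≫ evUinv Y)
  let S := ShortComplex.mk (ClSub.idealModι J) η w
  haveI : Epi η := hS.epi_g
  have hex : (S.map (QC.LT G)).Exact :=
    hS.exact.map_of_epi_of_preservesCokernel (QC.LT G) hS.epi_g inferInstance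
  haveI : Epi (S.map (QC.LT G)).g := (inferInstance : Epi ((QC.LT G).map η))
  have hf0 : (S.map (QC.LT G)).f = 0 := by
    change (QC.LT G).map (ClSub.idealModι J) = 0
    rw [KoszTw.tensorBi_obj_map]
    exact tensorMap_idealModι_eq_zero J G hG
  have hk : (S.map (QC.LT G)).f ≫ lam' = 0 := by rw [hf0, zero_comp]
  let lam : CohB1.tensorMod G A ⟶ Y := hex.desc lam' hk
  have hlam : KoszTw.tensorMap (𝟙 G) η ≫ lam = lam' := by
    have h1 : (S.map (QC.LT G)).g ≫ lam = lam' := hex.g_desc lam' hk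
    have h2 : (S.map (QC.LT G)).g = KoszTw.tensorMap (𝟙 G) η := KoszTw.tensorBi_obj_map _ _
    rw [← h2]
    exact h1
  refine ⟨flatR lam, ?_⟩
  have h1 : flatR lam ≫ preHom η Y = f ≫ evUinv Y := by
    apply sharpR_injective
    rw [sharpR_preHom, sharpR_flatR, hlam]
  unfold evOne
  rw [← Category.assoc, h1, Category.assoc, evUinv_evU, Category.comp_id]

/-! #### comparison with the abstract sheaf Hom, with all maps typed in `X.Modules` -/

/-- the comparison `ModSite.sheafHom A Y ⟶ 𝓗om(A, Y)`. -/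
def hI (Y : X.Modules) : @Quiver.Hom X.Modules _
    ((ModSite.sheafHom (O := X.sheaf) A).obj Y) (RefHull.homSh A Y) :=
  (homIso A).hom.app Y

/-- the inverse of `hI`. -/
def hIinv (Y : X.Modules) : @Quiver.Hom X.Modules _
    (RefHull.homSh A Y) ((ModSite.sheafHom (O := X.sheaf) A).obj Y) :=
  (homIso A).inv.app Y

/-- the action of the abstract sheaf Hom on maps. -/
def sMap {Y Y' : X.Modules} (f : Y ⟶ Y') : @Quiver.Hom X.Modules _
    ((ModSite.sheafHom (O := X.sheaf) A).obj Y) ((ModSite.sheafHom (O := X.sheaf) A).obj Y') :=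
  (ModSite.sheafHom (O := X.sheaf) A).map f

lemma hIinv_hI (Y : X.Modules) : hIinv A Y ≫ hI A Y = 𝟙 _ := (homIso A).inv_hom_id_app Y

lemma hI_hIinv (Y : X.Modules) : hI A Y ≫ hIinv A Y = 𝟙 _ := (homIso A).hom_inv_id_app Y

instance (Y : X.Modules) : IsIso (hI A Y) := ⟨hIinv A Y, hI_hIinv A Y, hIinv_hI A Y⟩

lemma hI_natural {Y Y' : X.Modules} (f : Y ⟶ Y') :
    sMap A f ≫ hI A Y' = hI A Y ≫ HF.postHom A f :=
  (homIso A).hom.naturality f

/-- the evaluation `ModSite.sheafHom A Y ⟶ Y`. -/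
def eps (Y : X.Modules) : @Quiver.Hom X.Modules _
    ((ModSite.sheafHom (O := X.sheaf) A).obj Y) Y :=
  hI A Y ≫ evOne A η Y

lemma eps_natural {Y Y' : X.Modules} (f : Y ⟶ Y') :
    sMap A f ≫ eps A η Y' = eps A η Y ≫ f := by
  unfold eps
  rw [← Category.assoc, hI_natural, Category.assoc, evOne_natural, Category.assoc]

include hS in
lemma eps_inj (G Y : X.Modules)
    (ψ ψ' : @Quiver.Hom X.Modules _ G ((ModSite.sheafHom (O := X.sheaf) A).obj Y))
    (h : ψ ≫ eps A η Y = ψ' ≫ eps A η Y) : ψ = ψ' := by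
  unfold eps at h
  have h1 : (ψ ≫ hI A Y) ≫ evOne A η Y = (ψ' ≫ hI A Y) ≫ evOne A η Y := by
    rw [Category.assoc, Category.assoc]; exact h
  have h2 := evOne_inj J A η w hS G Y _ _ h1
  exact (cancel_mono (hI A Y)).mp h2

include hS in
lemma eps_surj (G Y : X.Modules) (hG : Kil J G) (f : G ⟶ Y) :
    ∃ ψ : @Quiver.Hom X.Modules _ G ((ModSite.sheafHom (O := X.sheaf) A).obj Y),
      ψ ≫ eps A η Y = f := by
  obtain ⟨ξ, hξ⟩ := evOne_surj J A η w hS G Y hG f
  refine ⟨ξ ≫ hIinv A Y, ?_⟩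
  unfold eps
  rw [Category.assoc, ← Category.assoc (hIinv A Y), hIinv_hI, Category.id_comp]
  exact hξ

variable [HasInjectiveResolutions (ModSite.Mod X.sheaf)]

include hS in
theorem hyp (hA : Kil J A) : LE.Hyp (𝒜 := ModSite.Mod X.sheaf) (ModSite.sheafHom (O := X.sheaf) A)
    (fun Y => eps A η Y) (fun G => Kil J G) where
  sub := fun G' G m hm hG => @kil_of_mono X J G' G m hm hG
  obj := fun Y => kil_of_mono J (hI A Y) (kil_homSh J A Y hA)
  nat := fun Y Y' f => eps_natural A η f
  inj := fun G Y ψ ψ' h => eps_inj J A η w hS G Y ψ ψ' h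
  surj := fun G Y hG f => eps_surj J A η w hS G Y hG f

include hS in
/-- **the edge isomorphism for the local Ext sheaves of `O/J`.** -/
theorem exists_edge_sheaf [HasExt.{u} (ModSite.Mod X.sheaf)] (hA : Kil J A) (Z : X.Modules) (r : ℕ)
    (hvan : ∀ q, q < r → IsZero ((ModSite.extSh (O := X.sheaf) A q).obj Z)) :
    ∃ u : Ext (C := ModSite.Mod X.sheaf) ((ModSite.extSh (O := X.sheaf) A r).obj Z) Z r,
      ∀ G : ModSite.Mod X.sheaf, Kil J G →
        Function.Bijective (fun φ : G ⟶ (ModSite.extSh (O := X.sheaf) A r).obj Z =>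
          (Ext.mk₀ φ).comp u (zero_add r)) :=
  LE.exists_edge (hyp J A η w hS hA) Z r hvan

end Edge

end Groth.Agent.LD.XS.KE
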