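import Groth.Agent.Lib.Lead.XS.Vanish
import Groth.Agent.Lib.Lead.PD.Converse
import Groth.Agent.Lib.Lead.PN.ClosedSub
import Groth.Agent.Lib.Lead.PN.ClosedSubGG
import Groth.Agent.Lib.Lead.PN.Finite
import Groth.Agent.Lib.Lead.SC.LocFreeVanish
import Groth.Agent.Lib.Lead.PF.LocalVanish
import Groth.Agent.Lib.Helper5.GV.Main

/-! # Local Ext sheaves on projective space over a field -/

set_option autoImplicit false
set_option linter.style.haveILetI false
noncomputable section
universe u
open CategoryTheory Limits AlgebraicGeometry TopologicalSpace Opposite Abelian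

namespace Groth.Agent.LD.XS

open Twist Groth.Agent.LD.QC Groth.Agent.LD Groth.Agent.LD.PN Groth.Agent.LD.TW
  Groth.Agent.LD.PD.HA

attribute [-instance] Groth.Agent.LD.QC.stalkModule
attribute [local instance] Groth.Agent.LD.MS.hasSheafHom

variable (n : ℕ) (k : Type u) [Field k]

/-- projective space has enough finite locally free modules. -/
theorem hasRes_PN : HasRes (Proj (CohB1.polyGrading n k)) := by
  intro F hF
  obtain ⟨m₀, h⟩ := exists_epi_sigma_twist n k F hF.1 hF.2
  obtain ⟨q, p, hp⟩ := h m₀ le_rfl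
  exact ⟨_, p, SC.isFinLocFree_sigma_of_isInvertible _ (isInvertible_twist n k _) q, hp⟩

section
variable [HasInjectiveResolutions (ModSite.Mod (Proj (CohB1.polyGrading n k)).sheaf)]

/-- **`H^p(F(-m)) = 0` for `m ≫ 0` iff `𝓔xt^{n-p}(F, ω) = 0`.** -/
theorem van_iff_isZero_extSh (F : (Proj (CohB1.polyGrading n k)).Modules) (hF : Coh.IsCoh F)
    (p j : ℕ) (hpj : p + j = n) :
    Van n k F p ↔
      IsZero ((ModSite.extSh (O := (Proj (CohB1.polyGrading n k)).sheaf) F j).obj (om n k)) := by
  obtain ⟨h1, h2⟩ := main_om n k j F hF p hpj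
  haveI : (om n k).IsQuasicoherent := qc_twist n k _
  constructor
  · intro hv
    exact isZero_of_ext_closed_stalks (hasRes_PN n k) j F hF (om n k) (fun x _ => h1 hv x)
  · intro hz
    exact h2 (fun x _ => ext_stalk_of_isZero (hasRes_PN n k) j F hF (om n k) hz x)

end

variable {X : Scheme.{u}} (ι : X ⟶ Proj (CohB1.polyGrading n k)) [IsClosedImmersion ι]

lemma subsingleton_HH_pull_iff (d : ℤ) (p : ℕ) :
    Subsingleton (Coh.HH X ((Scheme.Modules.pullback ι).obj
        (twist (CohB1.polyGrading n k) d)) p) ↔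
      Subsingleton (Coh.HH (Proj (CohB1.polyGrading n k))
        (tw n k ((Scheme.Modules.pushforward ι).obj (unitMod X)) d) p) := by
  refine Iff.trans ?_ (subsingleton_HH_twOn_iff n k ι (unitMod X) d p)
  exact ⟨fun h => CL.subsingleton_of_iso (unitorL' _).symm p h,
    fun h => CL.subsingleton_of_iso (unitorL' _) p h⟩

lemma vanX_iff (p : ℕ) :
    (∃ m₀ : ℤ, ∀ m : ℤ, m₀ ≤ m → Subsingleton (Coh.HH X ((Scheme.Modules.pullback ι).obj
        (twist (CohB1.polyGrading n k) (-m))) p)) ↔
      Van n k ((Scheme.Modules.pushforward ι).obj (unitMod X)) p := by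
  constructor
  · rintro ⟨m₀, h⟩
    refine ⟨m₀.toNat, fun m hm => ?_⟩
    exact (subsingleton_HH_pull_iff n k ι (-(m : ℤ)) p).mp (h m (by omega))
  · rintro ⟨m₀, h⟩
    refine ⟨(m₀ : ℤ), fun m hm => ?_⟩
    have hm' : m = ((m.toNat : ℕ) : ℤ) := by omega
    rw [hm']
    exact (subsingleton_HH_pull_iff n k ι _ p).mpr (h m.toNat (by omega))

lemma isCoh_push_unit : Coh.IsCoh ((Scheme.Modules.pushforward ι).obj (unitMod X)) :=
  isCoh_push n k ι (unitMod X) (PF.isCoh_unitMod X)

section
variable [HasInjectiveResolutions (ModSite.Mod (Proj (CohB1.polyGrading n k)).sheaf)]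

/-- **S11904.** -/
theorem vanX_iff_isZero_extSh (p : ℕ) (hp : p ≤ n) :
    (∃ m₀ : ℤ, ∀ m : ℤ, m₀ ≤ m → Subsingleton (Coh.HH X ((Scheme.Modules.pullback ι).obj
        (twist (CohB1.polyGrading n k) (-m))) p)) ↔
      IsZero ((ModSite.extSh (O := (Proj (CohB1.polyGrading n k)).sheaf)
        ((Scheme.Modules.pushforward ι).obj (unitMod X)) (n - p)).obj (om n k)) :=
  (vanX_iff n k ι p).trans
    (van_iff_isZero_extSh n k _ (isCoh_push_unit n k ι) p (n - p) (by omega))

end

/-! ### codimension -/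

lemma exists_dim_bound {T : Type*} [TopologicalSpace T] [Nonempty T] (N r : ℕ)
    (hr : topologicalKrullDim T + (r : WithBot ℕ∞) ≤ (N : WithBot ℕ∞)) :
    r ≤ N ∧ topologicalKrullDim T ≤ ((N - r : ℕ) : WithBot ℕ∞) := by
  haveI : Nonempty (TopologicalSpace.IrreducibleCloseds T) := by
    obtain ⟨x⟩ := ‹Nonempty T›
    exact ⟨⟨closure {x}, isIrreducible_singleton.closure, isClosed_closure⟩⟩
  have h0 : (0 : WithBot ℕ∞) ≤ topologicalKrullDim T :=
    (Order.krullDim_nonneg : (0 : WithBot ℕ∞) ≤
      Order.krullDim (TopologicalSpace.IrreducibleCloseds T))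
  generalize topologicalKrullDim T = a at hr h0
  induction a using WithBot.recBotCoe with
  | bot => exact absurd h0 (by simp)
  | coe e =>
    have h1 : (e + (r : ℕ∞) : ℕ∞) ≤ (N : ℕ∞) := by exact_mod_cast hr
    have he : e ≠ ⊤ := by
      intro h
      rw [h] at h1
      simp at h1
    lift e to ℕ using he
    have h2 : e + r ≤ N := by exact_mod_cast h1
    refine ⟨by omega, ?_⟩
    have h3 : e ≤ N - r := by omega
    have h4 : ((e : ℕ) : ℕ∞) ≤ ((N - r : ℕ) : ℕ∞) := Nat.cast_le.mpr h3
    exact WithBot.coe_le_coe.mpr h4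

lemma subsingleton_ext_of_subsingleton {R : Type u} [CommRing R] (A Y : ModuleCat.{u} R)
    [Subsingleton A] (i : ℕ) : Subsingleton (Ext A Y i) := by
  have hA : IsZero A := ModuleCat.isZero_of_subsingleton A
  refine ⟨fun a b => ?_⟩
  have key : ∀ e : Ext A Y i, e = 0 := by
    intro e
    rw [← Ext.mk₀_id_comp e, hA.eq_of_src (𝟙 A) 0, Ext.mk₀_zero, Ext.zero_comp]
  rw [key a, key b]

lemma subsingleton_stalk_push_of_isEmpty [IsEmpty X] (M : X.Modules)
    (x : Proj (CohB1.polyGrading n k)) :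
    Subsingleton (((Scheme.Modules.pushforward ι).obj M).presheaf.stalk x) := by
  have key : ∀ v : ((Scheme.Modules.pushforward ι).obj M).presheaf.stalk x, v = 0 := by
    intro v
    obtain ⟨W, hx, s, rfl⟩ :=
      TopCat.Presheaf.exists_germ_eq ((Scheme.Modules.pushforward ι).obj M).presheaf v
    have hs : s = 0 := by
      apply Groth.Agent.H2.HomSh.section_ext_germ M (U := ι ⁻¹ᵁ W)
      intro y _
      exact (IsEmpty.false y).elim
    rw [hs, map_zero]
  exact ⟨fun a b => (key a).trans (key b).symm⟩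

section
variable [HasInjectiveResolutions (ModSite.Mod (Proj (CohB1.polyGrading n k)).sheaf)]

/-- **S11324**: `𝓔xt^i(ι_* O_X, ω_P) = 0` below the codimension. -/
theorem isZero_extSh_of_codim (r : ℕ)
    (hr : topologicalKrullDim X + (r : WithBot ℕ∞) ≤ (n : WithBot ℕ∞)) (i : ℕ) (hi : i < r) :
    IsZero ((ModSite.extSh (O := (Proj (CohB1.polyGrading n k)).sheaf)
      ((Scheme.Modules.pushforward ι).obj (unitMod X)) i).obj (om n k)) := by
  haveI : (om n k).IsQuasicoherent := qc_twist n k _
  have hF := isCoh_push_unit n k ι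
  rcases isEmpty_or_nonempty X with hX | hX
  · apply isZero_of_ext_closed_stalks (hasRes_PN n k) i _ hF (om n k)
    intro x _
    haveI := subsingleton_stalk_push_of_isEmpty n k ι (unitMod X) x
    haveI : Subsingleton ((DerSch.stalkFunctor (Proj (CohB1.polyGrading n k)) x).obj
        ((Scheme.Modules.pushforward ι).obj (unitMod X))) := ‹_›
    exact subsingleton_ext_of_subsingleton _ _ i
  · obtain ⟨hrn, hd⟩ := exists_dim_bound n r hr
    have hin : i ≤ n := by omega
    rw [show i = n - (n - i) by omega]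
    refine (van_iff_isZero_extSh n k _ hF (n - i) (n - (n - i)) (by omega)).mp ?_
    haveI : IsLocallyNoetherian X := LocallyOfFiniteType.isLocallyNoetherian ι
    haveI : CompactSpace X := QuasiCompact.compactSpace_of_compactSpace ι
    refine ⟨0, fun m _ => ?_⟩
    refine (subsingleton_HH_twOn_iff n k ι (unitMod X) (-(m : ℤ)) (n - i)).mp ?_
    exact Groth.Agent.H5.GV.subsingleton_HH_of_isCoh (n - r) hd _
      (isCoh_twOn n k ι (unitMod X) (PF.isCoh_unitMod X) _) (n - i) (by omega)

end

end Groth.Agent.LD.XS
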