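import Groth.Agent.Lib.Lead.PN.SerreDualExt2

/-! # Serre duality in its natural (Yoneda pairing) form

For a pair `(ω, t)`, `t : Hⁿ(X, ω) → k`, the Yoneda pairing gives natural maps
`Extⁱ(F, ω) → Hʲ(X, F)^*` for `i + j = n`.  If `(ω, t)` is dualizing in degree `n` for a class of
modules with suitable resolutions, these maps are bijective. -/

set_option autoImplicit false
noncomputable section
universe u
open CategoryTheory Limits AlgebraicGeometry TopologicalSpace Opposite Abelian

namespace Groth.Agent.LD.XS.YD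

open Groth.Agent.LD Groth.Agent.LD.PN

section LinAlg
open Module
variable {k : Type*} [Field k]
  {A' A B H H' H'' : Type*}
  [AddCommGroup A'] [Module k A'] [AddCommGroup A] [Module k A] [AddCommGroup B] [Module k B]
  [AddCommGroup H] [Module k H] [AddCommGroup H'] [Module k H'] [AddCommGroup H''] [Module k H'']

/-- dimension shifting for a given compatible family of duality maps. -/
theorem dual_shift_bijective
    (fE : A' →ₗ[k] A) (δE : A →ₗ[k] B) (hδE : Function.Surjective δE)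
    (hE0 : ∀ a', δE (fE a') = 0)
    (δH : H →ₗ[k] H') (fH : H' →ₗ[k] H'') (hδH : Function.Injective δH)
    (hH : ∀ x, fH x = 0 → ∃ y, δH y = x)
    (ΘK : A →ₗ[k] Dual k H') (hΘK : Function.Bijective ΘK)
    (ΘE : A' →ₗ[k] Dual k H'') (hΘE : Function.Surjective ΘE)
    (ΘF : B →ₗ[k] Dual k H)
    (hcomm : ∀ a', ΘK (fE a') = (ΘE a').comp fH)
    (hcomm' : ∀ a, ΘF (δE a) = (ΘK a).comp δH) :
    Function.Bijective ΘF := by
  constructor
  · rw [injective_iff_map_eq_zero]
    intro b hb
    obtain ⟨a, rfl⟩ := hδE b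
    rw [hcomm'] at hb
    have h1 : ΘK a ∈ (LinearMap.ker fH).dualAnnihilator := by
      rw [Submodule.mem_dualAnnihilator]
      intro x hx
      obtain ⟨y, rfl⟩ := hH x (LinearMap.mem_ker.mp hx)
      exact LinearMap.congr_fun hb y
    rw [← LinearMap.range_dualMap_eq_dualAnnihilator_ker] at h1
    obtain ⟨μ, hμ⟩ := h1
    obtain ⟨a', rfl⟩ := hΘE μ
    have h2 : ΘK a = ΘK (fE a') := by
      rw [hcomm, ← hμ]; rfl
    rw [hΘK.1 h2]
    exact hE0 a'
  · intro ψ
    obtain ⟨ψ', hψ'⟩ := LinearMap.dualMap_surjective_of_injective hδH ψ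
    obtain ⟨a, ha⟩ := hΘK.2 ψ'
    refine ⟨δE a, ?_⟩
    rw [hcomm', ha]
    exact hψ'

end LinAlg

variable {X : Scheme.{u}}

instance : (SC.toAbF X).PreservesEpimorphisms :=
  ⟨fun {_ _} f hf => @QC.toSheaf_map_epi _ _ _ X.ringCatSheaf _ _ _ _ f hf⟩

instance : (SC.toAbF X).PreservesHomology :=
  Functor.preservesHomology_of_preservesEpis_and_kernels _

instance : PreservesFiniteColimits (SC.toAbF X) :=
  Functor.preservesFiniteColimits_of_preservesHomology _

variable [HasExt.{u} X.Modules]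

/-- the image of an `Ext` class in abelian sheaves. -/
def abE {F G : X.Modules} {i : ℕ} (a : Ext F G i) :
    Ext ((SC.toAbF X).obj F) ((SC.toAbF X).obj G) i :=
  a.mapExactFunctor (SC.toAbF X)

variable (k : Type u) [Field k] [X.Over (Spec (CommRingCat.of k))]

lemma smul_eq_comp {F : X.Modules} {j : ℕ} (c : k) (x : Coh.HH X F j) :
    c • x = Ext.comp x (Ext.mk₀ ((SC.toAbF X).map (c • 𝟙 F))) (add_zero j) := by
  have h := LinearMap.congr_fun (CL.HHmap_smul k c (𝟙 F) j) x
  rw [LinearMap.smul_apply, CL.HHmap_id, LinearMap.id_apply] at h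
  rw [← h]
  rfl

lemma mk₀_smul_comp_abE {F G : X.Modules} {i : ℕ} (c : k) (a : Ext F G i) :
    (Ext.mk₀ ((SC.toAbF X).map (c • 𝟙 F))).comp (abE a) (zero_add i) = abE (c • a) := by
  have e : c • a = (Ext.mk₀ (c • 𝟙 F)).comp a (zero_add i) := by
    rw [Ext.mk₀_smul, Ext.smul_comp, Ext.mk₀_id_comp]
  unfold abE
  rw [e, Ext.mapExactFunctor_comp, Ext.mapExactFunctor_mk₀]

lemma abE_comp_mk₀_smul {F G : X.Modules} {i : ℕ} (c : k) (a : Ext F G i) :
    (abE a).comp (Ext.mk₀ ((SC.toAbF X).map (c • 𝟙 G))) (add_zero i) = abE (c • a) := by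
  have e : c • a = a.comp (Ext.mk₀ (c • 𝟙 G)) (add_zero i) := Ext.smul_eq_comp_mk₀ a c
  unfold abE
  rw [e, Ext.mapExactFunctor_comp, Ext.mapExactFunctor_mk₀]

/-- **the Yoneda pairing** `Extⁱ(F, ω) → Hʲ(F)^*`, `j + i = n`, attached to `t : Hⁿ(ω) → k`. -/
def yon (n : ℕ) {ω : X.Modules} (t : Coh.HH X ω n →ₗ[k] k) (F : X.Modules) (i j : ℕ)
    (h : j + i = n) : Ext F ω i →ₗ[k] Module.Dual k (Coh.HH X F j) where
  toFun a :=
    { toFun := fun x => t (Ext.comp x (abE a) h)
      map_add' := fun x y => by rw [Ext.add_comp, map_add]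
      map_smul' := fun c x => by
        rw [RingHom.id_apply, smul_eq_comp k c x, Ext.comp_assoc_of_second_deg_zero,
          mk₀_smul_comp_abE, ← abE_comp_mk₀_smul k c a, ← Ext.comp_assoc_of_third_deg_zero,
          ← smul_eq_comp k c, map_smul] }
  map_add' a b := by
    apply LinearMap.ext
    intro x
    change t (Ext.comp x (abE (a + b)) h) = t (Ext.comp x (abE a) h) + t (Ext.comp x (abE b) h)
    have e : abE (a + b) = abE a + abE b := Ext.mapExactFunctor_add _ _ _ _ a b
    rw [e, Ext.comp_add, map_add]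
  map_smul' c a := by
    apply LinearMap.ext
    intro x
    change t (Ext.comp x (abE (c • a)) h) = c • t (Ext.comp x (abE a) h)
    rw [← abE_comp_mk₀_smul k c a, ← Ext.comp_assoc_of_third_deg_zero, ← smul_eq_comp k c,
      map_smul]

lemma yon_apply (n : ℕ) {ω : X.Modules} (t : Coh.HH X ω n →ₗ[k] k) (F : X.Modules) (i j : ℕ)
    (h : j + i = n) (a : Ext F ω i) (x : Coh.HH X F j) :
    yon k n t F i j h a x = t (Ext.comp x (abE a) h) := rfl

/-- naturality of the Yoneda pairing in the first variable. -/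
lemma yon_mk₀_comp (n : ℕ) {ω : X.Modules} (t : Coh.HH X ω n →ₗ[k] k) {F G : X.Modules}
    (ψ : G ⟶ F) (i j : ℕ) (h : j + i = n) (a : Ext F ω i) :
    yon k n t G i j h ((Ext.mk₀ ψ).comp a (zero_add i)) =
      (yon k n t F i j h a).comp (CL.HHmap k ψ j) := by
  apply LinearMap.ext
  intro x
  change t (Ext.comp x (abE ((Ext.mk₀ ψ).comp a (zero_add i))) h) =
    t (Ext.comp (Ext.comp x (Ext.mk₀ ((SC.toAbF X).map ψ)) (add_zero j)) (abE a) h)
  rw [Ext.comp_assoc_of_second_deg_zero]
  unfold abE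
  rw [Ext.mapExactFunctor_comp, Ext.mapExactFunctor_mk₀]

/-- compatibility of the Yoneda pairing with the connecting homomorphisms. -/
lemma yon_extClass_comp (n : ℕ) {ω : X.Modules} (t : Coh.HH X ω n →ₗ[k] k)
    {S : ShortComplex X.Modules} (hS : S.ShortExact) (i j : ℕ) (h : j + (i + 1) = n)
    (h' : (j + 1) + i = n) (a : Ext S.X₁ ω i) :
    yon k n t S.X₃ (i + 1) j h (hS.extClass.comp a (add_comm 1 i)) =
      (yon k n t S.X₁ i (j + 1) h' a).comp (CL.HHδ hS k j) := by
  apply LinearMap.ext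
  intro x
  change t (Ext.comp x (abE (hS.extClass.comp a (add_comm 1 i))) h) =
    t (Ext.comp (Ext.comp x (SC.shortExact_toSheaf hS).extClass rfl) (abE a) h')
  unfold abE
  rw [Ext.mapExactFunctor_comp, Ext.mapExactFunctor_extClass]
  congr 1
  exact (Ext.comp_assoc x (SC.shortExact_toSheaf hS).extClass
    (a.mapExactFunctor (SC.toAbF X)) rfl (add_comm 1 i) (by omega)).symm

/-- in degree `0` the Yoneda pairing is the duality map `Θ`. -/
lemma yon_mk₀ (n : ℕ) {ω : X.Modules} (t : Coh.HH X ω n →ₗ[k] k) {F : X.Modules} (φ : F ⟶ ω) :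
    yon k n t F 0 n (add_zero n) (Ext.mk₀ φ) = CL.Θ k n t φ := by
  apply LinearMap.ext
  intro x
  change t (Ext.comp x (abE (Ext.mk₀ φ)) (add_zero n)) = t (CL.HHmap k φ n x)
  unfold abE
  rw [Ext.mapExactFunctor_mk₀]
  rfl

/-- **Serre duality in Yoneda form, by dimension shifting.** -/
theorem yon_bijective (n : ℕ) {ω : X.Modules} (t : Coh.HH X ω n →ₗ[k] k) (P : X.Modules → Prop)
    (hdual : ∀ F, P F → CL.IsDualFor k n ω t F)
    (hres : ∀ F, P F → ∃ (K E : X.Modules) (f : K ⟶ E) (g : E ⟶ F) (w : f ≫ g = 0),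
      (ShortComplex.mk f g w).ShortExact ∧ P K ∧ P E ∧
      (∀ i : ℕ, Subsingleton (Ext E ω (i+1))) ∧ (∀ j : ℕ, j < n → Subsingleton (Coh.HH X E j)))
    (i : ℕ) : ∀ (F : X.Modules), P F → ∀ (j : ℕ) (h : j + i = n),
      Function.Bijective (yon k n t F i j h) := by
  induction i with
  | zero =>
    intro F hF j h
    obtain rfl : j = n := by omega
    have hfun : ⇑(yon k j t F 0 j h) ∘ (Ext.mk₀ : (F ⟶ ω) → Ext F ω 0) = CL.Θ k j t := by
      funext φ
      exact yon_mk₀ k j t φ
    have hb : Function.Bijective (⇑(yon k j t F 0 j h) ∘ (Ext.mk₀ : (F ⟶ ω) → Ext F ω 0)) := by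
      rw [hfun]; exact (CL.isDualFor_iff k j ω t F).mp (hdual F hF)
    exact (Function.Bijective.of_comp_iff _ (Ext.mk₀_bijective F ω)).mp hb
  | succ i ih =>
    intro F hF j h
    obtain ⟨K, E, f, g, w, hS, hK, hE, hE1, hEH⟩ := hres F hF
    have hj1 : (j + 1) + i = n := by omega
    refine dual_shift_bijective
      ((Ext.mk₀ f).precompOfLinear k ω (zero_add i))
      (hS.extClass.precompOfLinear k ω (add_comm 1 i))
      (surjective_extClass_precomp k hS ω i (hE1 i)) ?_
      (CL.HHδ hS k j) (CL.HHmap k f (j+1)) ?_ ?_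
      (yon k n t K i (j+1) hj1) (ih K hK (j+1) hj1)
      (yon k n t E i (j+1) hj1) (ih E hE (j+1) hj1).2
      (yon k n t F (i+1) j h) ?_ ?_
    · intro a'
      change hS.extClass.comp ((Ext.mk₀ f).comp a' (zero_add i)) (add_comm 1 i) = 0
      rw [← Ext.comp_assoc_of_second_deg_zero, hS.extClass_comp, Ext.zero_comp]
    · rw [injective_iff_map_eq_zero]
      intro x₃ hx₃
      obtain ⟨x₂, rfl⟩ := CL.exact₃ hS k j x₃ hx₃
      haveI := hEH j (by omega)
      rw [Subsingleton.elim x₂ 0, map_zero]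
    · intro x hx
      exact CL.exact₁ hS k j x hx
    · intro a'
      exact yon_mk₀_comp k n t f i (j+1) hj1 a'
    · intro a
      exact yon_extClass_comp k n t hS i j h hj1 a

end Groth.Agent.LD.XS.YD

namespace Groth.Agent.LD.XS.YD

open Groth.Agent.LD Groth.Agent.LD.PN Twist TW CH CL

variable (n : ℕ) (k : Type u) [Field k]
variable [HasExt.{u} (Proj (CohB1.polyGrading n k)).Modules]

/-- **Serre duality on `P^n_k` in Yoneda form.** -/
theorem yon_bijective_PN (F : (Proj (CohB1.polyGrading n k)).Modules) (hF : Coh.IsCoh F)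
    (i j : ℕ) (h : j + i = n) :
    Function.Bijective (yon k n (trN' k n) F i j h) := by
  refine yon_bijective (X := Proj (CohB1.polyGrading n k)) k n (trN' k n)
    (fun M => Coh.IsCoh M) (isDualFor_coh n k) ?_ i F hF j h
  intro G hG
  obtain ⟨m₀, m, p, hp, hK, hE⟩ := exists_resolution n k G hG
  refine ⟨kernel p, _, kernel.ι p, p, kernel.condition p, ?_, hK, hE,
    fun i' => subsingleton_ext_sigma_twist n k m₀ m i',
    fun j hj => subsingleton_HH_sigma_twist' n k m₀ m j hj⟩
  exact { exact := ShortComplex.exact_of_f_is_kernel _ (kernelIsKernel p)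
          mono_f := inferInstanceAs (Mono (kernel.ι p))
          epi_g := hp }

end Groth.Agent.LD.XS.YD
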