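import Groth.Agent.Lib.Lead.XS.KilEdge
import Groth.Agent.Lib.Lead.XS.YonDual
import Groth.Agent.Lib.Lead.XS.PN
import Groth.Agent.Lib.Lead.CohLES.PushEquiv
import Groth.Agent.Lib.Helper7.ClImmMod
import Groth.Agent.Lib.Helper5.Snap.DimComp
import Groth.Agent.Lib.Helper1.SheafOfModulesGrothendieck

/-! # Existence of the dualizing sheaf of a closed subscheme of projective space

Hartshorne III.7.5: for a closed subscheme `ι : X ⟶ P = P^n_k` of dimension `≤ r`, a module `ω`
with `ι_* ω ≅ 𝓔xt^{n-r}(ι_* O_X, ω_P)` is dualizing in degree `r`. -/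

set_option autoImplicit false
set_option linter.style.haveILetI false
noncomputable section
universe u
open CategoryTheory Limits AlgebraicGeometry TopologicalSpace Opposite Abelian

namespace Groth.Agent.LD.XS.DZ

open Twist Groth.Agent.LD.QC Groth.Agent.LD Groth.Agent.LD.PN Groth.Agent.LD.TW
  Groth.Agent.LD.PD.HA Groth.Agent.LD.XS

attribute [-instance] Groth.Agent.LD.QC.stalkModule
attribute [local instance] Groth.Agent.LD.MS.hasSheafHom

/-! ### direct images along closed immersions are fully faithful on quasi-coherent modules -/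

section Full
variable {X Z : Scheme.{u}} (i : Z ⟶ X) [IsClosedImmersion i]

theorem isIso_counit_of_qc (F : Z.Modules) [F.IsQuasicoherent] :
    IsIso ((Scheme.Modules.pullbackPushforwardAdjunction i).counit.app F) := by
  haveI := KE.isIso_unit_push i F
  have h := (Scheme.Modules.pullbackPushforwardAdjunction i).right_triangle_components F
  haveI : IsIso ((Scheme.Modules.pushforward i).map
      ((Scheme.Modules.pullbackPushforwardAdjunction i).counit.app F)) := by
    have e : (Scheme.Modules.pushforward i).map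
        ((Scheme.Modules.pullbackPushforwardAdjunction i).counit.app F) =
        inv ((Scheme.Modules.pullbackPushforwardAdjunction i).unit.app
          ((Scheme.Modules.pushforward i).obj F)) := IsIso.eq_inv_of_hom_inv_id h
    rw [e]; infer_instance
  haveI : (Scheme.Modules.pushforward i).Faithful :=
    Groth.Agent.H7.ClImmMod.faithful_pushforward i
  haveI : Mono ((Scheme.Modules.pullbackPushforwardAdjunction i).counit.app F) :=
    (Scheme.Modules.pushforward i).mono_of_mono_map inferInstance
  haveI : Epi ((Scheme.Modules.pullbackPushforwardAdjunction i).counit.app F) :=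
    (Scheme.Modules.pushforward i).epi_of_epi_map inferInstance
  exact isIso_of_mono_of_epi _

theorem push_map_surjective (F G : Z.Modules) [F.IsQuasicoherent]
    (g : (Scheme.Modules.pushforward i).obj F ⟶ (Scheme.Modules.pushforward i).obj G) :
    ∃ φ : F ⟶ G, (Scheme.Modules.pushforward i).map φ = g := by
  haveI := isIso_counit_of_qc i F
  refine ⟨inv ((Scheme.Modules.pullbackPushforwardAdjunction i).counit.app F) ≫
    (Scheme.Modules.pullback i).map g ≫
      (Scheme.Modules.pullbackPushforwardAdjunction i).counit.app G, ?_⟩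
  have h1 : (Scheme.Modules.pushforward i).map
      (inv ((Scheme.Modules.pullbackPushforwardAdjunction i).counit.app F)) =
      (Scheme.Modules.pullbackPushforwardAdjunction i).unit.app
        ((Scheme.Modules.pushforward i).obj F) := by
    rw [Functor.map_inv]
    exact IsIso.inv_eq_of_inv_hom_id
      ((Scheme.Modules.pullbackPushforwardAdjunction i).right_triangle_components F)
  have hn : (Scheme.Modules.pullbackPushforwardAdjunction i).unit.app
        ((Scheme.Modules.pushforward i).obj F) ≫
      (Scheme.Modules.pushforward i).map ((Scheme.Modules.pullback i).map g) =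
      g ≫ (Scheme.Modules.pullbackPushforwardAdjunction i).unit.app
        ((Scheme.Modules.pushforward i).obj G) :=
    ((Scheme.Modules.pullbackPushforwardAdjunction i).unit.naturality g).symm
  rw [Functor.map_comp, Functor.map_comp, h1, ← Category.assoc, hn, Category.assoc,
    (Scheme.Modules.pullbackPushforwardAdjunction i).right_triangle_components G,
    Category.comp_id]

theorem push_map_bijective (F G : Z.Modules) [F.IsQuasicoherent] :
    Function.Bijective (fun φ : F ⟶ G => (Scheme.Modules.pushforward i).map φ) := by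
  haveI : (Scheme.Modules.pushforward i).Faithful :=
    Groth.Agent.H7.ClImmMod.faithful_pushforward i
  exact ⟨fun a b h => (Scheme.Modules.pushforward i).map_injective h,
    fun g => push_map_surjective i F G g⟩

end Full

/-! ### the dualizing sheaf -/

section Main
variable (n : ℕ) (k : Type u) [Field k] {X : Scheme.{u}}
  (ι : X ⟶ Proj (CohB1.polyGrading n k)) [IsClosedImmersion ι]
variable [HasInjectiveResolutions (ModSite.Mod (Proj (CohB1.polyGrading n k)).sheaf)]

/-- the local Ext sheaf `𝓔xt^c(ι_* O_X, ω_P)`. -/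
def EE (c : ℕ) : (Proj (CohB1.polyGrading n k)).Modules :=
  (ModSite.extSh (O := (Proj (CohB1.polyGrading n k)).sheaf)
    ((Scheme.Modules.pushforward ι).obj (unitMod X)) c).obj (om n k)

theorem exists_edge_PN [HasExt.{u} (ModSite.Mod (Proj (CohB1.polyGrading n k)).sheaf)] (c : ℕ)
    (hd : topologicalKrullDim X + (c : WithBot ℕ∞) ≤ (n : WithBot ℕ∞)) :
    ∃ u : Ext (C := ModSite.Mod (Proj (CohB1.polyGrading n k)).sheaf) (EE n k ι c) (om n k) c,
      ∀ G : ModSite.Mod (Proj (CohB1.polyGrading n k)).sheaf, KE.Kil ι.ker G →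
        Function.Bijective (fun φ : G ⟶ (EE n k ι c : ModSite.Mod
          (Proj (CohB1.polyGrading n k)).sheaf) => (Ext.mk₀ φ).comp u (zero_add c)) := by
  haveI : (unitMod X).IsQuasicoherent := (PF.isCoh_unitMod X).1
  haveI : ((Scheme.Modules.pushforward ι).obj (unitMod X)).IsQuasicoherent :=
    QC.qc_pushforward ι (unitMod X)
  have w : ClSub.idealModι ι.ker ≫ (ClSub.toSubscheme ι.ker ≫ (quotModIso ι).hom) = 0 :=
    (Category.assoc _ _ _).symm.trans
      ((congrArg (fun t => t ≫ (quotModIso ι).hom)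
        (kernel.condition (ClSub.toSubscheme ι.ker))).trans zero_comp)
  have hS : (ShortComplex.mk (ClSub.idealModι ι.ker)
      (ClSub.toSubscheme ι.ker ≫ (quotModIso ι).hom) w).ShortExact :=
    ShortComplex.shortExact_of_iso
      (ShortComplex.isoMk
        (S₁ := ShortComplex.mk (ClSub.idealModι ι.ker) (ClSub.toSubscheme ι.ker)
          (kernel.condition (ClSub.toSubscheme ι.ker)))
        (S₂ := ShortComplex.mk (ClSub.idealModι ι.ker)
          (ClSub.toSubscheme ι.ker ≫ (quotModIso ι).hom) w)
        (Iso.refl _) (Iso.refl _) (quotModIso ι) (by simp) (by simp))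
      (PD.shortExact_idealMod ι.ker)
  exact KE.exists_edge_sheaf ι.ker ((Scheme.Modules.pushforward ι).obj (unitMod X))
    (ClSub.toSubscheme ι.ker ≫ (quotModIso ι).hom) w hS (KE.kil_push ι (unitMod X)) (om n k) c
    (fun q hq => isZero_extSh_of_codim n k ι c hd q hq)

variable [HasExt.{u} (Proj (CohB1.polyGrading n k)).Modules]

theorem exists_trace_PN (r : ℕ) (hr : r ≤ n)
    (hd : topologicalKrullDim X + ((n - r : ℕ) : WithBot ℕ∞) ≤ (n : WithBot ℕ∞)) :
    ∃ t' : Coh.HH (Proj (CohB1.polyGrading n k)) (EE n k ι (n - r)) r →ₗ[k] k,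
      ∀ G : (Proj (CohB1.polyGrading n k)).Modules, Coh.IsCoh G → KE.Kil ι.ker G →
        Function.Bijective (CL.Θ k r t' (F := G)) := by
  haveI hE' : HasExt.{u} (ModSite.Mod (Proj (CohB1.polyGrading n k)).sheaf) :=
    ‹HasExt.{u} (Proj (CohB1.polyGrading n k)).Modules›
  obtain ⟨u, hu⟩ := exists_edge_PN n k ι (n - r) hd
  have h : r + (n - r) = n := by omega
  let u' : Ext (C := (Proj (CohB1.polyGrading n k)).Modules) (EE n k ι (n - r))
    (twist (CohB1.polyGrading n k) (-((n : ℤ) + 1))) (n - r) := u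
  refine ⟨YD.yon k n (trN' k n) (EE n k ι (n - r)) (n - r) r h u', fun G hG hK => ?_⟩
  have key : (CL.Θ k r (YD.yon k n (trN' k n) (EE n k ι (n - r)) (n - r) r h u') (F := G)) =
      ⇑(YD.yon k n (trN' k n) G (n - r) r h) ∘
        (fun φ : G ⟶ EE n k ι (n - r) => (Ext.mk₀ φ).comp u' (zero_add (n - r))) := by
    funext ξ
    exact (YD.yon_mk₀_comp k n (trN' k n) ξ (n - r) r h u').symm
  rw [key]
  exact (YD.yon_bijective_PN n k G hG (n - r) r h).comp (hu G hK)

variable [X.Over (Spec (CommRingCat.of k))]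

/-- **existence of the dualizing sheaf** (Hartshorne III.7.5). -/
theorem exists_dualizing (hι : ι ≫ CohB1.ProjSpace.toSpec n k = X ↘ Spec (CommRingCat.of k))
    (r : ℕ) (hr : r ≤ n) (hdim : topologicalKrullDim X ≤ (r : WithBot ℕ∞))
    (ω : X.Modules) (hω : (Scheme.Modules.pushforward ι).obj ω ≅ EE n k ι (n - r)) :
    ∃ t : Coh.HH X ω r →ₗ[k] k, ∀ F : X.Modules, Coh.IsCoh F → CL.IsDualFor k r ω t F := by
  haveI : ι.IsOver (Spec (CommRingCat.of k)) := ⟨hι⟩
  have hd : topologicalKrullDim X + ((n - r : ℕ) : WithBot ℕ∞) ≤ (n : WithBot ℕ∞) := by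
    have h1 : ((r : ℕ) : WithBot ℕ∞) + ((n - r : ℕ) : WithBot ℕ∞) = (n : WithBot ℕ∞) := by
      rw [← Nat.cast_add, Nat.add_sub_cancel' hr]
    exact (add_le_add hdim le_rfl).trans h1.le
  obtain ⟨t', ht'⟩ := exists_trace_PN n k ι r hr hd
  let t : Coh.HH X ω r →ₗ[k] k :=
    (t'.comp (CL.HHmap k hω.hom r)).comp (CL.HHpushEquiv ι k ω r).toLinearMap
  refine ⟨t, fun F hF => ?_⟩
  haveI : F.IsQuasicoherent := hF.1
  rw [CL.isDualFor_iff]
  have hG := isCoh_push n k ι F hF
  have hK := KE.kil_push ι F
  have key : (CL.Θ k r t (F := F)) =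
      (fun θ : Coh.HH (Proj (CohB1.polyGrading n k))
          ((Scheme.Modules.pushforward ι).obj F) r →ₗ[k] k =>
        θ.comp (CL.HHpushEquiv ι k F r).toLinearMap) ∘
      (CL.Θ k r t' (F := (Scheme.Modules.pushforward ι).obj F)) ∘
      (fun g : (Scheme.Modules.pushforward ι).obj F ⟶ (Scheme.Modules.pushforward ι).obj ω =>
        g ≫ hω.hom) ∘
      (fun φ : F ⟶ ω => (Scheme.Modules.pushforward ι).map φ) := by
    funext φ
    apply LinearMap.ext
    intro x
    change t' (CL.HHmap k hω.hom r (CL.HHpushEquiv ι k ω r (CL.HHmap k φ r x))) =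
      t' (CL.HHmap k ((Scheme.Modules.pushforward ι).map φ ≫ hω.hom) r
        (CL.HHpushEquiv ι k F r x))
    rw [CL.HHpushEquiv_map, CL.HHmap_comp]
    rfl
  rw [key]
  refine Function.Bijective.comp ?_ (Function.Bijective.comp (ht' _ hG hK)
    (Function.Bijective.comp ?_ (push_map_bijective ι F ω)))
  · constructor
    · intro θ θ' h
      apply LinearMap.ext
      intro y
      obtain ⟨x, rfl⟩ := (CL.HHpushEquiv ι k F r).surjective y
      exact LinearMap.congr_fun h x
    · intro ψ
      refine ⟨ψ.comp (CL.HHpushEquiv ι k F r).symm.toLinearMap, ?_⟩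
      apply LinearMap.ext
      intro x
      change ψ ((CL.HHpushEquiv ι k F r).symm ((CL.HHpushEquiv ι k F r) x)) = ψ x
      rw [LinearEquiv.symm_apply_apply]
  · exact ⟨fun a b h => (cancel_mono hω.hom).mp h,
      fun g => ⟨g ≫ hω.inv, by simp⟩⟩

end Main

section Final
variable (n : ℕ) (k : Type u) [Field k] {X : Scheme.{u}}
  (ι : X ⟶ Proj (CohB1.polyGrading n k)) [IsClosedImmersion ι]
variable [HasInjectiveResolutions (ModSite.Mod (Proj (CohB1.polyGrading n k)).sheaf)]
variable [X.Over (Spec (CommRingCat.of k))]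

/-- **Hartshorne III.7.5**, without auxiliary instance hypotheses. -/
theorem exists_dualizing' (hι : ι ≫ CohB1.ProjSpace.toSpec n k = X ↘ Spec (CommRingCat.of k))
    (r : ℕ) (hr : r ≤ n) (hdim : topologicalKrullDim X ≤ (r : WithBot ℕ∞))
    (ω : X.Modules)
    (hω : Nonempty ((Scheme.Modules.pushforward ι).obj ω ≅
      (ModSite.extSh (O := (Proj (CohB1.polyGrading n k)).sheaf)
        ((Scheme.Modules.pushforward ι).obj (unitMod X)) (n - r)).obj (om n k))) :
    ∃ t : Coh.HH X ω r →ₗ[k] k, ∀ F : X.Modules, Coh.IsCoh F → ∀ ψ : Coh.HH X F r →ₗ[k] k,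
      ∃! φ : F ⟶ ω, ∀ x : Coh.HH X F r,
        ψ x = t (Sheaf.H.map ((SheafOfModules.toSheaf X.ringCatSheaf).map φ) r x) := by
  haveI := Groth.Agent.H1.sheafOfModules_isGrothendieckAbelian
    (Opens.grothendieckTopology (Proj (CohB1.polyGrading n k)))
    (Proj (CohB1.polyGrading n k)).ringCatSheaf
  haveI : EnoughInjectives (Proj (CohB1.polyGrading n k)).Modules :=
    inferInstanceAs (EnoughInjectives
      (SheafOfModules.{u} (Proj (CohB1.polyGrading n k)).ringCatSheaf))
  haveI : HasExt.{u} (Proj (CohB1.polyGrading n k)).Modules :=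
    hasExt_of_enoughInjectives.{u} _
  obtain ⟨e⟩ := hω
  obtain ⟨t, ht⟩ := exists_dualizing n k ι hι r hr hdim ω e
  exact ⟨t, fun F hF ψ => ht F hF ψ⟩

end Final

end Groth.Agent.LD.XS.DZ
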