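import Groth.Agent.Lib.Lead.XS.PN
import Groth.Agent.Lib.Lead.PD.ConverseSub

/-! # The dualizing-type sheaf `ω` with `ι_* ω ≅ 𝓔xt^{n-r}(ι_* O_X, ω_P)` -/

set_option autoImplicit false
set_option linter.style.haveILetI false
noncomputable section
universe u
open CategoryTheory Limits AlgebraicGeometry TopologicalSpace Opposite Abelian

namespace Groth.Agent.LD.XS

open Twist Groth.Agent.LD.QC Groth.Agent.LD Groth.Agent.LD.PN Groth.Agent.LD.TW
  Groth.Agent.LD.PD.HA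

attribute [-instance] Groth.Agent.LD.QC.stalkModule
attribute [local instance] Groth.Agent.LD.MS.hasSheafHom

variable (n : ℕ) (k : Type u) [Field k]
variable {X : Scheme.{u}} (ι : X ⟶ Proj (CohB1.polyGrading n k)) [IsClosedImmersion ι]

/-- `Ext^e(O_X(-q), G) = 0` for `e > 0` and `q ≫ 0`, when `ι_* G` is coherent. -/
theorem ext_pull_twist_vanish [HasExt.{u} X.Modules] (G : X.Modules)
    (hP : Coh.IsCoh ((Scheme.Modules.pushforward ι).obj G)) :
    ∃ q₀ : ℕ, ∀ q : ℕ, q₀ ≤ q → ∀ e : ℕ, 0 < e →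
      Subsingleton (Ext ((Scheme.Modules.pullback ι).obj
        (twist (CohB1.polyGrading n k) (-(q : ℤ)))) G e) := by
  obtain ⟨d₀, hd₀⟩ := serre_vanishing' n k _ hP
  refine ⟨d₀.toNat, fun q hq e he => ?_⟩
  have hqd : d₀ ≤ (q : ℤ) := by omega
  have h1 : Subsingleton (Coh.HH X (twOn n k ι G (q : ℤ)) e) :=
    (subsingleton_HH_twOn_iff n k ι G (q : ℤ) e).mpr (hd₀ (q : ℤ) hqd e he)
  obtain ⟨ε⟩ := QC.nonempty_ext_invertible_equiv
    ((Scheme.Modules.pullback ι).obj (twist (CohB1.polyGrading n k) (-(q : ℤ))))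
    ((Scheme.Modules.pullback ι).obj (twist (CohB1.polyGrading n k) (q : ℤ)))
    (PD.pullTwistInvIso n k ι (-(q : ℤ)) (q : ℤ) (by omega)) G e
  haveI : Subsingleton (Coh.HH X (CohB1.tensorMod G
      ((Scheme.Modules.pullback ι).obj (twist (CohB1.polyGrading n k) (q : ℤ)))) e) := h1
  exact ε.toEquiv.subsingleton

lemma isCoh_pull_twist (d : ℤ) :
    Coh.IsCoh ((Scheme.Modules.pullback ι).obj (twist (CohB1.polyGrading n k) d)) := by
  have hL := QC.isInvertible_pullback ι (isInvertible_twist n k d)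
  exact ⟨QC.qc_of_isInvertible _ hL, QC.isFiniteType_of_isInvertible _ hL⟩

/-- **S19670.** -/
theorem vanish_of_dual [HasInjectiveResolutions (ModSite.Mod (Proj (CohB1.polyGrading n k)).sheaf)]
    [HasExt.{u} X.Modules] (r s : ℕ) (hr : r ≤ n) (ω : X.Modules)
    (hω : Nonempty ((Scheme.Modules.pushforward ι).obj ω ≅
      (ModSite.extSh (O := (Proj (CohB1.polyGrading n k)).sheaf)
        ((Scheme.Modules.pushforward ι).obj (unitMod X)) (n - r)).obj (om n k)))
    (hdual : ∀ G : X.Modules, Coh.IsCoh G → ∀ i : ℕ, i ≤ s →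
      (Subsingleton (Ext G ω i) ↔ Subsingleton (Coh.HH X G (r - i))))
    (p : ℕ) (hp1 : r - s ≤ p) (hp2 : p < r) :
    ∃ m₀ : ℤ, ∀ m : ℤ, m₀ ≤ m → Subsingleton (Coh.HH X ((Scheme.Modules.pullback ι).obj
      (twist (CohB1.polyGrading n k) (-m))) p) := by
  obtain ⟨e⟩ := hω
  have hP : Coh.IsCoh ((Scheme.Modules.pushforward ι).obj ω) :=
    QC.isCoh_of_iso e.symm (isCoh_extSh (hasRes_PN n k) (n - r) _ (isCoh_push_unit n k ι)
      (om n k) (isCoh_twist' n k _))
  obtain ⟨q₀, hq₀⟩ := ext_pull_twist_vanish n k ι ω hP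
  refine ⟨(q₀ : ℤ), fun m hm => ?_⟩
  have hm' : m = ((m.toNat : ℕ) : ℤ) := by omega
  rw [hm']
  have h1 := hq₀ m.toNat (by omega) (r - p) (by omega)
  have h2 := (hdual _ (isCoh_pull_twist n k ι (-((m.toNat : ℕ) : ℤ))) (r - p) (by omega)).mp h1
  rwa [show r - (r - p) = p by omega] at h2

end Groth.Agent.LD.XS
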