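import Groth.Agent.Lib.Lead.XS.Dualizing
import Groth.Agent.Lib.Lead.XS.PN2
import Groth.Agent.Lib.Lead.QC.AnnIdeal
import Groth.Agent.Lib.Lead.QC.SerreSupp
import Groth.Agent.Lib.Lead.QC.SuppPullback
import Groth.Agent.Lib.Lead.QC.UnitKer
import Groth.Agent.Lib.Lead.QC.FlatCover
import Groth.Agent.Lib.Lead.CohLES.Vanish

/-! # Morphisms into the dualizing sheaf vanishing at the generic points

For `ι : X ⟶ P^n_k` a closed subscheme of pure dimension `r` and `ω` with
`ι_* ω ≅ 𝓔xt^{n-r}(ι_* O_X, ω_P)`: a morphism `F ⟶ ω` from a coherent module which vanishes near the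
generic points of `X` is zero. -/

set_option autoImplicit false
set_option linter.style.haveILetI false
noncomputable section
universe u
open CategoryTheory Limits AlgebraicGeometry TopologicalSpace Opposite Abelian

namespace Groth.Agent.LD.XS.GZ

open Twist Groth.Agent.LD.QC Groth.Agent.LD Groth.Agent.LD.PN Groth.Agent.LD.TW
  Groth.Agent.LD.PD.HA Groth.Agent.LD.XS

attribute [-instance] Groth.Agent.LD.QC.stalkModule
attribute [local instance] Groth.Agent.LD.MS.hasSheafHom

/-! ### topology -/

section Top
open Order

variable {T : Type*} [TopologicalSpace T]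

/-- a chain of irreducible closed subsets of `T` contained in `Z` gives a chain in `Z`. -/
lemma length_le_dim_of_subset {Z : Set T} (l : LTSeries (IrreducibleCloseds T))
    (hsub : ∀ i, (l i : Set T) ⊆ Z) : (l.length : WithBot ℕ∞) ≤ topologicalKrullDim Z := by
  let l' : LTSeries (IrreducibleCloseds Z) :=
    { length := l.length
      toFun := fun i => ⟨(Subtype.val : Z → T) ⁻¹' (l i : Set T),
        Groth.Agent.H5.Snap.isIrreducible_preimage_val (l i).isIrreducible (hsub i),
        (l i).isClosed.preimage continuous_subtype_val⟩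
      step := by
        intro i
        have hlt : l i.castSucc < l i.succ := l.step i
        change (_ : IrreducibleCloseds Z) < _
        rw [lt_iff_le_and_ne] at hlt ⊢
        refine ⟨fun x hx => hlt.1 hx, fun heq => hlt.2 ?_⟩
        apply SetLike.coe_injective
        have h1 : (Subtype.val : Z → T) ⁻¹' (l i.castSucc : Set T) =
            (Subtype.val : Z → T) ⁻¹' (l i.succ : Set T) :=
          congrArg (fun W : IrreducibleCloseds Z => (W : Set Z)) heq
        apply Set.Subset.antisymm
        · exact hlt.1
        · intro x hx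
          have : (⟨x, hsub _ hx⟩ : Z) ∈ (Subtype.val : Z → T) ⁻¹' (l i.castSucc : Set T) := by
            rw [h1]; exact hx
          exact this }
  exact LTSeries.length_le_krullDim l'

/-- in a space of pure dimension `r`, chains of irreducible closed subsets of a closed subset
containing no generic point have length `< r`. -/
theorem chain_add_one_le [QuasiSober T] (r : ℕ)
    (heq : ∀ C ∈ irreducibleComponents T, topologicalKrullDim C = (r : WithBot ℕ∞))
    (S : Set T) (hS : IsClosed S)
    (hgen : ∀ x : T, closure {x} ∈ irreducibleComponents T → x ∉ S)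
    (l : LTSeries (IrreducibleCloseds S)) : l.length + 1 ≤ r := by
  have hg : StrictMono (IrreducibleCloseds.map (Subtype.val : S → T) continuous_subtype_val) :=
    IrreducibleCloseds.map_strictMono_of_isInducing Topology.IsInducing.subtypeVal
  obtain ⟨W, hWdef⟩ : ∃ W : IrreducibleCloseds T,
      W = IrreducibleCloseds.map (Subtype.val : S → T) continuous_subtype_val l.last := ⟨_, rfl⟩
  have hWS : (W : Set T) ⊆ S := by
    rw [hWdef, IrreducibleCloseds.coe_map]
    refine closure_minimal ?_ hS
    rintro _ ⟨y, -, rfl⟩
    exact y.2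
  obtain ⟨C, hC, hWC⟩ := exists_mem_irreducibleComponents_subset_of_isIrreducible
    (W : Set T) W.isIrreducible
  have hCcl : IsClosed C := isClosed_of_mem_irreducibleComponents C hC
  obtain ⟨ξ, hξ⟩ := QuasiSober.sober hC.1 hCcl
  have hξC : closure {ξ} = C := hξ.def
  have hξS : ξ ∉ S := hgen ξ (by rw [hξC]; exact hC)
  have hξmem : ξ ∈ C := by rw [← hξC]; exact subset_closure (Set.mem_singleton ξ)
  obtain ⟨C', hC'def⟩ : ∃ C' : IrreducibleCloseds T, (C' : Set T) = C :=
    ⟨⟨C, hC.1, hCcl⟩, rfl⟩
  have hlt : W < C' := by
    rw [lt_iff_le_and_ne]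
    refine ⟨fun x hx => by rw [← SetLike.mem_coe, hC'def]; exact hWC hx, fun h => hξS (hWS ?_)⟩
    rw [h, hC'def]
    exact hξmem
  let p : LTSeries (IrreducibleCloseds T) :=
    (l.map _ hg).snoc C' (by rw [LTSeries.last_map, ← hWdef]; exact hlt)
  have hp : (p.length : WithBot ℕ∞) ≤ topologicalKrullDim C := by
    apply length_le_dim_of_subset
    intro i
    have h1 : p i ≤ p.last := p.monotone (Fin.le_last i)
    have h2 : p.last = C' := RelSeries.last_snoc _ _ _
    rw [h2] at h1
    intro x hx
    have := h1 hx
    rw [← SetLike.mem_coe, hC'def] at this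
    exact this
  rw [heq C hC] at hp
  have hlen : p.length = l.length + 1 := by simp [p]
  rw [hlen] at hp
  have h1 : ((l.length + 1 : ℕ) : ℕ∞) ≤ (r : ℕ∞) := by exact_mod_cast hp
  exact_mod_cast h1

end Top

/-! ### coherence descends along closed immersions -/

section Coh
variable {X Z : Scheme.{u}} (i : Z ⟶ X) [IsClosedImmersion i]

theorem isIso_counit_of_qc_push (F : Z.Modules)
    [((Scheme.Modules.pushforward i).obj F).IsQuasicoherent] :
    IsIso ((Scheme.Modules.pullbackPushforwardAdjunction i).counit.app F) := by
  haveI := KE.epi_unit_of_qc i ((Scheme.Modules.pushforward i).obj F)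
  haveI : IsSplitMono ((Scheme.Modules.pullbackPushforwardAdjunction i).unit.app
      ((Scheme.Modules.pushforward i).obj F)) :=
    IsSplitMono.mk' ⟨(Scheme.Modules.pushforward i).map
      ((Scheme.Modules.pullbackPushforwardAdjunction i).counit.app F),
      (Scheme.Modules.pullbackPushforwardAdjunction i).right_triangle_components F⟩
  haveI : IsIso ((Scheme.Modules.pullbackPushforwardAdjunction i).unit.app
      ((Scheme.Modules.pushforward i).obj F)) := isIso_of_mono_of_epi _
  have h := (Scheme.Modules.pullbackPushforwardAdjunction i).right_triangle_components F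
  haveI : IsIso ((Scheme.Modules.pushforward i).map
      ((Scheme.Modules.pullbackPushforwardAdjunction i).counit.app F)) := by
    have e : (Scheme.Modules.pushforward i).map
        ((Scheme.Modules.pullbackPushforwardAdjunction i).counit.app F) =
        inv ((Scheme.Modules.pullbackPushforwardAdjunction i).unit.app
          ((Scheme.Modules.pushforward i).obj F)) := IsIso.eq_inv_of_hom_inv_id h
    rw [e]; infer_instance
  haveI : (Scheme.Modules.pushforward i).Faithful :=
    Groth.Agent.H7.ClImmMod.faithful_pushforward i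
  haveI : Mono ((Scheme.Modules.pullbackPushforwardAdjunction i).counit.app F) :=
    (Scheme.Modules.pushforward i).mono_of_mono_map inferInstance
  haveI : Epi ((Scheme.Modules.pullbackPushforwardAdjunction i).counit.app F) :=
    (Scheme.Modules.pushforward i).epi_of_epi_map inferInstance
  exact isIso_of_mono_of_epi _

/-- a module on a closed subscheme whose direct image is coherent is coherent. -/
theorem isCoh_of_isCoh_push (F : Z.Modules)
    (h : Coh.IsCoh ((Scheme.Modules.pushforward i).obj F)) : Coh.IsCoh F := by
  haveI := h.1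
  haveI := isIso_counit_of_qc_push i F
  haveI : ((Scheme.Modules.pullback i).obj
      ((Scheme.Modules.pushforward i).obj F)).IsQuasicoherent := QC.qc_pullback i _
  exact QC.isCoh_of_iso (asIso ((Scheme.Modules.pullbackPushforwardAdjunction i).counit.app F))
    ⟨QC.qc_pullback i _, QC.isFiniteType_pullback i _ h.2⟩

end Coh

/-! ### the image of a morphism vanishing on an open -/

section Img
variable {X : Scheme.{u}}

lemma subsingleton_stalk_image_of_restrict_eq_zero {F W : X.Modules} (φ : F ⟶ W) (U : X.Opens)
    (h : (Scheme.Modules.restrictFunctor U.ι).map φ = 0) {y : X} (hy : y ∈ U) :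
    Subsingleton ((Abelian.image φ).presheaf.stalk y) := by
  apply QC.subsingleton_stalk_of_isZero_restrict _ U _ hy
  haveI := Groth.Agent.LD.FlatCover.preservesFiniteLimits_restrictFunctor' U.ι
  haveI : Epi ((Scheme.Modules.restrictFunctor U.ι).map (Abelian.factorThruImage φ)) :=
    inferInstance
  haveI : Mono ((Scheme.Modules.restrictFunctor U.ι).map (Abelian.image.ι φ)) := inferInstance
  have h0 : (Scheme.Modules.restrictFunctor U.ι).map (Abelian.factorThruImage φ) ≫
      (Scheme.Modules.restrictFunctor U.ι).map (Abelian.image.ι φ) = 0 := by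
    rw [← Functor.map_comp, Abelian.image.fac, h]
  have h1 : (Scheme.Modules.restrictFunctor U.ι).map (Abelian.factorThruImage φ) = 0 := by
    rw [← cancel_mono ((Scheme.Modules.restrictFunctor U.ι).map (Abelian.image.ι φ)), h0,
      zero_comp]
  exact IsZero.of_epi_eq_zero _ h1

end Img

/-! ### the main theorem -/

section Main
variable (n : ℕ) (k : Type u) [Field k] {X : Scheme.{u}}
  (ι : X ⟶ Proj (CohB1.polyGrading n k)) [IsClosedImmersion ι]
variable [HasInjectiveResolutions (ModSite.Mod (Proj (CohB1.polyGrading n k)).sheaf)]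

/-- **S11915.** -/
theorem hom_eq_zero_of_zero_near_generic (r : ℕ) (hr : r ≤ n)
    (heq : ∀ Z : Set X, Z ∈ irreducibleComponents X →
      topologicalKrullDim Z = (r : WithBot ℕ∞))
    (ω : X.Modules)
    (hω : Nonempty ((Scheme.Modules.pushforward ι).obj ω ≅
      (ModSite.extSh (O := (Proj (CohB1.polyGrading n k)).sheaf)
        ((Scheme.Modules.pushforward ι).obj (unitMod X)) (n - r)).obj (om n k)))
    (F : X.Modules) (hF : Coh.IsCoh F) (φ : F ⟶ ω)
    (hφ : ∀ x : X, closure ({x} : Set X) ∈ irreducibleComponents X →
      ∃ U : X.Opens, x ∈ U ∧ (Scheme.Modules.restrictFunctor U.ι).map φ = 0) :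
    φ = 0 := by
  letI : X.Over (Spec (CommRingCat.of k)) := ⟨ι ≫ CohB1.ProjSpace.toSpec n k⟩
  have hι : ι ≫ CohB1.ProjSpace.toSpec n k = X ↘ Spec (CommRingCat.of k) := rfl
  haveI : IsLocallyNoetherian X := LocallyOfFiniteType.isLocallyNoetherian ι
  haveI : CompactSpace X := QuasiCompact.compactSpace_of_compactSpace ι
  have hdim : topologicalKrullDim X ≤ (r : WithBot ℕ∞) :=
    Groth.Agent.H5.Snap.dim_le_of_forall_irreducibleComponents _ (fun Z hZ => (heq Z hZ).le)
  obtain ⟨t, ht⟩ := DZ.exists_dualizing' n k ι hι r hr hdim ω hω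
  obtain ⟨e⟩ := hω
  have hP : Coh.IsCoh ((Scheme.Modules.pushforward ι).obj ω) :=
    QC.isCoh_of_iso e.symm (isCoh_extSh (hasRes_PN n k) (n - r) _ (isCoh_push_unit n k ι)
      (om n k) (isCoh_twist' n k _))
  have hωc : Coh.IsCoh ω := isCoh_of_isCoh_push ι ω hP
  have hG : Coh.IsCoh (Abelian.image φ) :=
    QC.isCoh_kernel (cokernel.π φ) hωc (QC.isCoh_cokernel φ hF hωc)
  have hfac : Abelian.factorThruImage φ ≫ Abelian.image.ι φ = φ := Abelian.image.fac φ
  suffices hm : Abelian.image.ι φ = 0 by rw [← hfac, hm, comp_zero]
  haveI : (Abelian.image φ).IsQuasicoherent := hG.1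
  have hstalk : ∀ x : X, closure ({x} : Set X) ∈ irreducibleComponents X →
      Subsingleton ((Abelian.image φ).presheaf.stalk x) := fun x hx => by
    obtain ⟨U, hxU, hU⟩ := hφ x hx
    exact subsingleton_stalk_image_of_restrict_eq_zero φ U hU hxU
  -- the scheme-theoretic support
  obtain ⟨J, hJdef⟩ : ∃ J : X.IdealSheafData, J = QC.annIdeal (Abelian.image φ) hG.2 :=
    ⟨_, rfl⟩
  have hker : J.subschemeι.ker = J := Scheme.IdealSheafData.ker_subschemeι J
  have hkil : ∀ (U : X.affineOpens) (a : Γ(X, U.1)), a ∈ J.subschemeι.ker.ideal U →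
      ∀ s : Γ(Abelian.image φ, U.1), a • s = 0 := by
    intro U a ha s
    rw [hker, hJdef, QC.annIdeal_ideal] at ha
    exact Module.mem_annihilator.mp ha s
  haveI : IsIso ((Scheme.Modules.pullbackPushforwardAdjunction J.subschemeι).unit.app
      (Abelian.image φ)) := (QC.isIso_unit_closedImmersion_iff J.subschemeι _).mpr hkil
  have hrange : Set.range J.subschemeι =
      {x | ¬ Subsingleton ((Abelian.image φ).presheaf.stalk x)} := by
    rw [Scheme.IdealSheafData.range_subschemeι, hJdef]
    exact QC.support_annIdeal _ hG.2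
  have hgenS : ∀ x : X, closure ({x} : Set X) ∈ irreducibleComponents X →
      x ∉ Set.range J.subschemeι := by
    intro x hx hmem
    rw [hrange] at hmem
    exact hmem (hstalk x hx)
  have hclosed : IsClosed (Set.range J.subschemeι) :=
    J.subschemeι.isClosedEmbedding.isClosed_range
  rcases Nat.eq_zero_or_pos r with h0 | hpos
  · -- the support is empty
    have hempty : ∀ x : X, Subsingleton ((Abelian.image φ).presheaf.stalk x) := by
      intro x
      by_contra hx
      have hxS : x ∈ Set.range J.subschemeι := by rw [hrange]; exact hx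
      have hc := chain_add_one_le r heq (Set.range J.subschemeι) hclosed hgenS
        (RelSeries.singleton _ ⟨closure {(⟨x, hxS⟩ : Set.range J.subschemeι)},
          isIrreducible_singleton.closure, isClosed_closure⟩)
      omega
    exact (QC.isZero_of_subsingleton_stalks _ hempty).eq_of_src _ _
  · have hdimZ : topologicalKrullDim J.subscheme ≤ ((r - 1 : ℕ) : WithBot ℕ∞) := by
      have e1 : topologicalKrullDim J.subscheme =
          topologicalKrullDim (Set.range J.subschemeι) :=
        IsHomeomorph.topologicalKrullDim_eq _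
          (J.subschemeι.isClosedEmbedding.isEmbedding.toHomeomorph).isHomeomorph
      rw [e1]
      unfold topologicalKrullDim
      refine iSup_le fun l => ?_
      have hc := chain_add_one_le r heq (Set.range J.subschemeι) hclosed hgenS l
      exact_mod_cast (by omega : l.length ≤ r - 1)
    haveI : IsLocallyNoetherian J.subscheme :=
      LocallyOfFiniteType.isLocallyNoetherian J.subschemeι
    haveI : CompactSpace J.subscheme := QuasiCompact.compactSpace_of_compactSpace J.subschemeι
    have hcohZ : Coh.IsCoh ((Scheme.Modules.pullback J.subschemeι).obj (Abelian.image φ)) :=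
      ⟨QC.qc_pullback J.subschemeι _, QC.isFiniteType_pullback J.subschemeι _ hG.2⟩
    have h1 : Subsingleton (Coh.HH J.subscheme
        ((Scheme.Modules.pullback J.subschemeι).obj (Abelian.image φ)) r) :=
      Groth.Agent.H5.GV.subsingleton_HH_of_isCoh (r - 1) hdimZ _ hcohZ r (by omega)
    have h2 : Subsingleton (Coh.HH X ((Scheme.Modules.pushforward J.subschemeι).obj
        ((Scheme.Modules.pullback J.subschemeι).obj (Abelian.image φ))) r) :=
      (CL.subsingleton_HH_push_iff J.subschemeι _ r).mpr h1
    have hvan : Subsingleton (Coh.HH X (Abelian.image φ) r) :=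
      CL.subsingleton_of_iso
        (asIso ((Scheme.Modules.pullbackPushforwardAdjunction J.subschemeι).unit.app
          (Abelian.image φ))).symm r h2
    obtain ⟨φ₀, -, huniq⟩ := ht (Abelian.image φ) hG 0
    have hm0 : Abelian.image.ι φ = φ₀ :=
      huniq _ (fun x => by rw [Subsingleton.elim x 0]; simp)
    have h00 : (0 : Abelian.image φ ⟶ ω) = φ₀ :=
      huniq 0 (fun x => by rw [Subsingleton.elim x 0]; simp)
    rw [hm0, ← h00]

end Main

end Groth.Agent.LD.XS.GZ
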