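import Groth.Agent.Lib.Lead.XS.GenRank
import Groth.Agent.Lib.Lead.XS.Dualizing
import Groth.Agent.Lib.Lead.XS.KilEdge
import Groth.Agent.Lib.Lead.CohLES.DualLin
import Groth.Agent.Lib.Lead.Curve.Euler
import Groth.Agent.Lib.Helper2.StalkSpec
import Groth.Agent.Lib.Lead.QCQS.Base
import Groth.Agent.Lib.Helper5.AG.ProjProper

/-!
# The trace of a dualizing pair on an integral projective scheme

For `X` integral, closed in `P^n_k`, of dimension `r`, with `k` algebraically closed in the
function field: the trace `t : H^r(X, ω) → k` of a dualizing pair is bijective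
(Hartshorne III.7.6 and its corollaries). The steps:

* the local Ext sheaf `𝓔xt^{n-r}(ι_* O_X, ω_P)` is killed by the ideal of `X`, hence of the form
  `ι_* ω₀`;
* dualizing pairs are unique, hence `ι_* ω ≅ 𝓔xt^{n-r}(ι_* O_X, ω_P)`;
* `ω` is torsion-free of rank one at the generic point, hence `End(ω)` embeds into the function
  field; it is finite over `k`, hence equal to `k`;
* `H^r(ω)^* ≃ End(ω) = k`.
-/

set_option autoImplicit false
set_option linter.style.haveILetI false
noncomputable section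
universe w v u
open CategoryTheory Limits AlgebraicGeometry TopologicalSpace Opposite Abelian

attribute [-instance] Groth.Agent.LD.QC.stalkModule
attribute [local instance] Groth.Agent.LD.MS.hasSheafHom

namespace Groth.Agent.LD.XS.LE

variable {𝒜 : Type u} [Category.{v} 𝒜] [Abelian 𝒜]
variable {Φ : 𝒜 ⥤ 𝒜} [Φ.Additive] {ε : ∀ Y : 𝒜, Φ.obj Y ⟶ Y} {P : 𝒜 → Prop}

/-- under the hypotheses of the edge isomorphism, the first non-vanishing derived functor takes
values in the class `P`. -/
theorem P_rightDerived [HasInjectiveResolutions 𝒜] (h : Hyp Φ ε P) (Z : 𝒜) (r : ℕ)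
    (hvan : ∀ q, q < r → IsZero ((Φ.rightDerived q).obj Z)) :
    P ((Φ.rightDerived r).obj Z) := by
  let I : InjectiveResolution Z := injectiveResolution Z
  have hvan' : ∀ q, q < r → IsZero ((JJ Φ I).homology q) := fun q hq =>
    (hvan q hq).of_iso (I.isoRightDerivedObj Φ q).symm
  let e : (Φ.rightDerived r).obj Z ≅ (JJ Φ I).homology r := I.isoRightDerivedObj Φ r
  suffices hH : P ((JJ Φ I).homology r) from h.sub e.hom inferInstance hH
  cases r with
  | zero =>
    exact h.sub (CochainComplex.isoHomologyπ₀ (JJ Φ I)).inv inferInstance (P_cycles I h 0)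
  | succ p =>
    have hs := sInj_cycles I h p (fun q hq => hvan' q (by omega)) p le_rfl
    obtain ⟨s, ℓ, hs1, -⟩ := exists_splitting_succ I h p hs
    haveI : Mono s := mono_of_mono_fac hs1
    exact h.sub s inferInstance (P_cycles I h (p + 1))

end Groth.Agent.LD.XS.LE

namespace Groth.Agent.LD.XS.DT

open Twist Groth.Agent.LD.QC Groth.Agent.LD Groth.Agent.LD.PN Groth.Agent.LD.TW
  Groth.Agent.LD.PD.HA Groth.Agent.LD.XS Groth.Agent.H1.CohLen Groth.Agent.H1.SchFlat
  Groth.Agent.H1.StalkGen Groth.Agent.H2.StalkSpec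

/-! ### algebra -/

section Alg

lemma isSimpleModule_of_finrank {K V : Type*} [CommRing K] [AddCommGroup V] [Module K V]
    (hK : IsField K) (h : Module.finrank K V = 1) : IsSimpleModule K V := by
  letI := hK.toField
  exact isSimpleModule_iff_finrank_eq_one.mpr h

/-- a finite algebra over `k` acting faithfully on a one-dimensional vector space over an
extension in which `k` is algebraically closed is `k`. -/
theorem exists_eq_algebraMap {k K E V : Type*} [Field k] [CommRing K] [Ring E] [Algebra k E]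
    [Module.Finite k E] [AddCommGroup V] [Module K V] [IsSimpleModule K V] (hK : IsField K)
    (g : k →+* K) (halg : ∀ a : K, g.IsIntegralElem a → a ∈ Set.range g)
    (S : E →+* Module.End K V)
    (hS : ∀ c : k, S (algebraMap k E c) = algebraMap K (Module.End K V) (g c))
    (hinj : Function.Injective S) (φ : E) : ∃ c : k, φ = algebraMap k E c := by
  haveI := IsSimpleModule.nontrivial K V
  obtain ⟨v₀, hv₀⟩ := exists_ne (0 : V)
  have hgen : ∀ w : V, ∃ c : K, c • v₀ = w := fun w => by
    obtain ⟨c, hc⟩ := IsSimpleModule.toSpanSingleton_surjective K hv₀ w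
    exact ⟨c, by rwa [LinearMap.toSpanSingleton_apply] at hc⟩
  have hfree : ∀ c : K, c • v₀ = 0 → c = 0 := by
    intro c hc
    by_contra hne
    obtain ⟨b, hb⟩ := hK.mul_inv_cancel hne
    apply hv₀
    calc v₀ = (b * c) • v₀ := by rw [mul_comm, hb, one_smul]
      _ = 0 := by rw [mul_smul, hc, smul_zero]
  obtain ⟨lam, hlam⟩ := hgen (S φ v₀)
  have hSφ : S φ = algebraMap K (Module.End K V) lam := by
    apply LinearMap.ext
    intro w
    obtain ⟨c, rfl⟩ := hgen w
    rw [map_smul, ← hlam, Module.algebraMap_end_apply, smul_comm]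
  obtain ⟨p, hp, hpφ⟩ := IsIntegral.of_finite k φ
  have h1 : Polynomial.eval₂ g lam p = 0 := by
    have h2 : S (Polynomial.eval₂ (algebraMap k E) φ p) = 0 := by rw [hpφ, map_zero]
    rw [Polynomial.hom_eval₂] at h2
    have h3 : S.comp (algebraMap k E) = (algebraMap K (Module.End K V)).comp g :=
      RingHom.ext hS
    rw [h3, hSφ, ← Polynomial.hom_eval₂] at h2
    have h4 : Polynomial.eval₂ g lam p • v₀ = 0 := by
      have h5 := LinearMap.congr_fun h2 v₀
      rwa [Module.algebraMap_end_apply, LinearMap.zero_apply] at h5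
    exact hfree _ h4
  obtain ⟨c, hc⟩ := halg lam ⟨p, hp, h1⟩
  exact ⟨c, hinj (by rw [hS, hSφ, hc])⟩

end Alg

/-! ### stalks of endomorphisms -/

section Stalk
variable {X : Scheme.{u}}

lemma stalkFun_id (ω : X.Modules) (x : X) (m : ω.presheaf.stalk x) :
    stalkFun (𝟙 ω) x m = m := by
  obtain ⟨U, hxU, s, rfl⟩ := TopCat.Presheaf.exists_germ_eq ω.presheaf m
  rw [stalkFun_germ]
  rfl

lemma stalkFun_zero {F G : X.Modules} (x : X) (m : F.presheaf.stalk x) :
    stalkFun (0 : F ⟶ G) x m = 0 := by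
  obtain ⟨U, hxU, s, rfl⟩ := TopCat.Presheaf.exists_germ_eq F.presheaf m
  rw [stalkFun_germ]
  exact map_zero _

lemma stalkFun_add_hom {F G : X.Modules} (φ ψ : F ⟶ G) (x : X) (m : F.presheaf.stalk x) :
    stalkFun (φ + ψ) x m = stalkFun φ x m + stalkFun ψ x m := by
  obtain ⟨U, hxU, s, rfl⟩ := TopCat.Presheaf.exists_germ_eq F.presheaf m
  rw [stalkFun_germ, stalkFun_germ, stalkFun_germ]
  exact map_add _ _ _

/-- the action on the stalk at a point, as a ring homomorphism. -/
def stalkEnd (ω : X.Modules) (x : X) :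
    End ω →+* Module.End (X.presheaf.stalk x) (ω.presheaf.stalk x) where
  toFun φ := stalkLin φ x
  map_one' := LinearMap.ext fun m => stalkFun_id ω x m
  map_mul' φ ψ := LinearMap.ext fun m => StalkExt.stalkFun_comp ψ φ x m
  map_zero' := LinearMap.ext fun m => stalkFun_zero x m
  map_add' φ ψ := LinearMap.ext fun m => stalkFun_add_hom φ ψ x m

lemma stalkEnd_apply (ω : X.Modules) (x : X) (φ : End ω) (m : ω.presheaf.stalk x) :
    stalkEnd ω x φ m = stalkFun φ x m := rfl

/-- **a morphism into a module with torsion-free stalks on an integral scheme is determined by its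
stalk at the generic point.** -/
theorem hom_eq_zero_of_stalkFun_generic [IsIntegral X] (ω : X.Modules) [ω.IsQuasicoherent]
    (htf : ∀ x : X, Submodule.torsion (X.presheaf.stalk x) (ω.presheaf.stalk x) = ⊥)
    {F : X.Modules} (φ : F ⟶ ω) (h : ∀ m, stalkFun φ (genericPoint X) m = 0) : φ = 0 := by
  apply Scheme.Modules.hom_ext
  intro U
  ext s
  have key : φ.app U s = 0 := by
    apply section_eq_zero_of_germ ω
    intro y hy
    have hsp : genericPoint X ⤳ y := genericPoint_specializes y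
    obtain ⟨m, hm⟩ : ∃ m : ω.presheaf.stalk y, m = ω.presheaf.germ U y hy (φ.app U s) :=
      ⟨_, rfl⟩
    rw [← hm]
    have h1 : (ω.presheaf.stalkSpecializes hsp).hom m = 0 := by
      rw [hm, stalkSpecializes_germ ω hsp U hy, ← stalkFun_germ φ (genericPoint X) U _ s]
      exact h _
    letI := specModule ω hsp
    haveI := isLocalizedModule_specLinear ω hsp
    obtain ⟨⟨a, ha⟩, hac⟩ := (IsLocalizedModule.eq_zero_iff (primeOf hsp).asIdeal.primeCompl
      (specLinear ω hsp)).mp h1
    have ha0 : a ≠ 0 := by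
      intro h0
      apply ha
      rw [h0]
      exact Ideal.zero_mem _
    have hmem : m ∈ Submodule.torsion (X.presheaf.stalk y) (ω.presheaf.stalk y) :=
      (Submodule.mem_torsion_iff m).mpr ⟨⟨a, mem_nonZeroDivisors_of_ne_zero ha0⟩, hac⟩
    rw [htf y] at hmem
    exact (Submodule.mem_bot _).mp hmem
  exact key

end Stalk

/-! ### the endomorphisms of a dualizing module -/

section Geo
variable (k : Type u) [Field k] {X : Scheme.{u}} [X.Over (Spec (CommRingCat.of k))]

lemma stalkFun_smul_id (ω : X.Modules) (c : k) (x : X) (m : ω.presheaf.stalk x) :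
    stalkFun (c • 𝟙 ω) x m =
      (X.presheaf.germ ⊤ x trivial).hom (Coh.toGlobal (X ↘ Spec (CommRingCat.of k)) c) • m := by
  obtain ⟨U, hxU, s, rfl⟩ := TopCat.Presheaf.exists_germ_eq ω.presheaf m
  have h0 : (c • 𝟙 ω : ω ⟶ ω).app U s =
      X.presheaf.map (homOfLE (le_top : U ≤ ⊤)).op
        (Coh.toGlobal (X ↘ Spec (CommRingCat.of k)) c) • s :=
    KLin.smul_app_apply c (𝟙 ω) U s
  rw [stalkFun_germ, h0]
  have h1 := QC.germ_smul ω x U hxU (X.presheaf.map (homOfLE (le_top : U ≤ ⊤)).op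
    (Coh.toGlobal (X ↘ Spec (CommRingCat.of k)) c)) s
  rw [sgerm_res x le_top hxU] at h1
  exact h1

lemma stalkEnd_algebraMap (ω : X.Modules) (x : X) (c : k) :
    stalkEnd ω x (algebraMap k (End ω) c) =
      algebraMap (X.presheaf.stalk x) (Module.End (X.presheaf.stalk x) (ω.presheaf.stalk x))
        ((X.presheaf.germ ⊤ x trivial).hom (Coh.toGlobal (X ↘ Spec (CommRingCat.of k)) c)) := by
  apply LinearMap.ext
  intro m
  rw [Module.algebraMap_end_apply, Algebra.algebraMap_eq_smul_one]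
  exact stalkFun_smul_id k ω c x m

/-- **the trace of a dualizing pair is bijective** when `ω` is torsion-free of rank one at the
generic point and `k` is algebraically closed in the function field. -/
theorem bijective_trace [IsIntegral X] [IsProper (X ↘ Spec (CommRingCat.of k))] (r : ℕ)
    (ω : X.Modules) (hω : Coh.IsCoh ω) (t : Coh.HH X ω r →ₗ[k] k)
    (hd : ∀ F : X.Modules, Coh.IsCoh F → CL.IsDualFor k r ω t F)
    (htf : ∀ x : X, Submodule.torsion (X.presheaf.stalk x) (ω.presheaf.stalk x) = ⊥)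
    (hrk : Module.finrank (X.presheaf.stalk (genericPoint X))
      (ω.presheaf.stalk (genericPoint X)) = 1)
    (hK : IsField (X.presheaf.stalk (genericPoint X)))
    (halg : ∀ a : X.presheaf.stalk (genericPoint X),
      ((X.presheaf.germ ⊤ (genericPoint X) trivial).hom.comp
        (Coh.toGlobal (X ↘ Spec (CommRingCat.of k)))).IsIntegralElem a →
      a ∈ Set.range ((X.presheaf.germ ⊤ (genericPoint X) trivial).hom.comp
        (Coh.toGlobal (X ↘ Spec (CommRingCat.of k))))) :
    Function.Bijective t := by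
  haveI : ω.IsQuasicoherent := hω.1
  haveI hsimple : IsSimpleModule (X.presheaf.stalk (genericPoint X))
      (ω.presheaf.stalk (genericPoint X)) := isSimpleModule_of_finrank hK hrk
  haveI : Module.Finite k (Coh.HH X ω r) := Curve.finite_HH k X ω hω r
  obtain ⟨Θe, hΘe⟩ : ∃ Θe : (ω ⟶ ω) ≃ₗ[k] Module.Dual k (Coh.HH X ω r),
      ∀ φ : ω ⟶ ω, Θe φ = CL.Θ k r t φ :=
    ⟨CL.ΘEquiv k r t ω (hd ω hω), fun φ => rfl⟩
  haveI : Module.Finite k (End ω) := Module.Finite.equiv Θe.symm
  have hinj : Function.Injective (stalkEnd ω (genericPoint X)) := by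
    rw [injective_iff_map_eq_zero]
    intro φ hφ
    exact hom_eq_zero_of_stalkFun_generic ω htf φ (fun m => LinearMap.congr_fun hφ m)
  have hEnd : ∀ φ : End ω, ∃ c : k, φ = algebraMap k (End ω) c :=
    exists_eq_algebraMap hK _ halg (stalkEnd ω (genericPoint X))
      (fun c => stalkEnd_algebraMap k ω (genericPoint X) c) hinj
  have hΘ1 : Θe (𝟙 ω) = t := by
    rw [hΘe]
    apply LinearMap.ext
    intro x
    rw [CL.Θ_apply, CL.HHmap_id]
    rfl
  have hspan : ∀ ψ : Module.Dual k (Coh.HH X ω r), ∃ c : k, ψ = c • t := by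
    intro ψ
    obtain ⟨c, hc⟩ := hEnd (Θe.symm ψ)
    refine ⟨c, ?_⟩
    have h2 : Θe (c • (𝟙 ω : ω ⟶ ω)) = c • Θe (𝟙 ω) := Θe.map_smul c _
    rw [hΘ1] at h2
    have h3 : Θe.symm ψ = c • (𝟙 ω : ω ⟶ ω) := by
      rw [hc, Algebra.algebraMap_eq_smul_one]
      rfl
    calc ψ = Θe (Θe.symm ψ) := (Θe.apply_symm_apply ψ).symm
      _ = Θe (c • (𝟙 ω : ω ⟶ ω)) := congrArg Θe h3
      _ = c • t := h2
  constructor
  · rw [injective_iff_map_eq_zero]
    intro x hx
    apply (Module.forall_dual_apply_eq_zero_iff k x).mp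
    intro ψ
    obtain ⟨c, rfl⟩ := hspan ψ
    rw [LinearMap.smul_apply, hx, smul_zero]
  · have ht0 : t ≠ 0 := by
      intro h0
      have h1 : (𝟙 ω : ω ⟶ ω) = 0 := by
        apply Θe.injective
        rw [map_zero]
        obtain ⟨c, hc⟩ := hspan (Θe (𝟙 ω))
        rw [hc, h0, smul_zero]
      have h2 : (1 : Module.End (X.presheaf.stalk (genericPoint X))
          (ω.presheaf.stalk (genericPoint X))) = 0 := by
        have h3 : (1 : End ω) = 0 := h1
        rw [← map_one (stalkEnd ω (genericPoint X)), h3, map_zero]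
      haveI := IsSimpleModule.nontrivial (X.presheaf.stalk (genericPoint X))
        (ω.presheaf.stalk (genericPoint X))
      obtain ⟨v, hv⟩ := exists_ne (0 : ω.presheaf.stalk (genericPoint X))
      exact hv (LinearMap.congr_fun h2 v)
    obtain ⟨x, hx⟩ : ∃ x, t x ≠ 0 := by
      by_contra hcon
      apply ht0
      apply LinearMap.ext
      intro x
      by_contra hx
      exact hcon ⟨x, hx⟩
    intro b
    exact ⟨(b / t x) • x, by rw [map_smul, smul_eq_mul, div_mul_cancel₀ _ hx]⟩

/-- **uniqueness of dualizing pairs.** -/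
theorem nonempty_iso_of_dualizing (r : ℕ) {ω ω' : X.Modules} (hω : Coh.IsCoh ω)
    (hω' : Coh.IsCoh ω') (t : Coh.HH X ω r →ₗ[k] k) (t' : Coh.HH X ω' r →ₗ[k] k)
    (hd : ∀ F : X.Modules, Coh.IsCoh F → CL.IsDualFor k r ω t F)
    (hd' : ∀ F : X.Modules, Coh.IsCoh F → CL.IsDualFor k r ω' t' F) : Nonempty (ω ≅ ω') := by
  obtain ⟨φ, hφ, -⟩ := hd ω' hω' t'
  obtain ⟨φ', hφ', -⟩ := hd' ω hω t
  have h1 : φ' ≫ φ = 𝟙 ω := (hd ω hω t).unique
    (fun x => by rw [CL.HHmap_comp, LinearMap.comp_apply, ← hφ, ← hφ'])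
    (fun x => by rw [CL.HHmap_id]; rfl)
  have h2 : φ ≫ φ' = 𝟙 ω' := (hd' ω' hω' t').unique
    (fun x => by rw [CL.HHmap_comp, LinearMap.comp_apply, ← hφ', ← hφ])
    (fun x => by rw [CL.HHmap_id]; rfl)
  exact ⟨⟨φ', φ, h1, h2⟩⟩

end Geo

/-! ### projective space -/

section PNSec
variable (n : ℕ) (k : Type u) [Field k] {X : Scheme.{u}}
  (ι : X ⟶ Proj (CohB1.polyGrading n k)) [IsClosedImmersion ι]
variable [HasInjectiveResolutions (ModSite.Mod (Proj (CohB1.polyGrading n k)).sheaf)]

/-- the local Ext sheaf in the codimension is killed by the ideal of `X`. -/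
theorem kil_EE (c : ℕ)
    (hd : topologicalKrullDim X + (c : WithBot ℕ∞) ≤ (n : WithBot ℕ∞)) :
    KE.Kil ι.ker (DZ.EE n k ι c) := by
  haveI : (unitMod X).IsQuasicoherent := (PF.isCoh_unitMod X).1
  haveI : ((Scheme.Modules.pushforward ι).obj (unitMod X)).IsQuasicoherent :=
    QC.qc_pushforward ι (unitMod X)
  have w : ClSub.idealModι ι.ker ≫ (ClSub.toSubscheme ι.ker ≫ (quotModIso ι).hom) = 0 :=
    (Category.assoc _ _ _).symm.trans
      ((congrArg (fun t => t ≫ (quotModIso ι).hom)
        (kernel.condition (ClSub.toSubscheme ι.ker))).trans zero_comp)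
  have hS : (ShortComplex.mk (ClSub.idealModι ι.ker)
      (ClSub.toSubscheme ι.ker ≫ (quotModIso ι).hom) w).ShortExact :=
    ShortComplex.shortExact_of_iso
      (ShortComplex.isoMk
        (S₁ := ShortComplex.mk (ClSub.idealModι ι.ker) (ClSub.toSubscheme ι.ker)
          (kernel.condition (ClSub.toSubscheme ι.ker)))
        (S₂ := ShortComplex.mk (ClSub.idealModι ι.ker)
          (ClSub.toSubscheme ι.ker ≫ (quotModIso ι).hom) w)
        (Iso.refl _) (Iso.refl _) (quotModIso ι) (by simp) (by simp))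
      (PD.shortExact_idealMod ι.ker)
  exact LE.P_rightDerived
    (KE.hyp ι.ker ((Scheme.Modules.pushforward ι).obj (unitMod X))
      (ClSub.toSubscheme ι.ker ≫ (quotModIso ι).hom) w hS (KE.kil_push ι (unitMod X)))
    (om n k) c (fun q hq => isZero_extSh_of_codim n k ι c hd q hq)

/-- **existence of a module `ω₀` on `X` with `ι_* ω₀ ≅ 𝓔xt^{n-r}(ι_* O_X, ω_P)`.** -/
theorem exists_dualizing_module (r : ℕ)
    (hd : topologicalKrullDim X + ((n - r : ℕ) : WithBot ℕ∞) ≤ (n : WithBot ℕ∞)) :
    ∃ ω₀ : X.Modules, Coh.IsCoh ω₀ ∧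
      Nonempty ((Scheme.Modules.pushforward ι).obj ω₀ ≅ DZ.EE n k ι (n - r)) := by
  have hE : Coh.IsCoh (DZ.EE n k ι (n - r)) :=
    isCoh_extSh (hasRes_PN n k) (n - r) _ (isCoh_push_unit n k ι) (om n k) (isCoh_twist' n k _)
  haveI := hE.1
  haveI hiso : IsIso ((Scheme.Modules.pullbackPushforwardAdjunction ι).unit.app
      (DZ.EE n k ι (n - r))) :=
    (QC.isIso_unit_closedImmersion_iff ι _).mpr (kil_EE n k ι (n - r) hd)
  refine ⟨(Scheme.Modules.pullback ι).obj (DZ.EE n k ι (n - r)), ?_,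
    ⟨(asIso ((Scheme.Modules.pullbackPushforwardAdjunction ι).unit.app
      (DZ.EE n k ι (n - r)))).symm⟩⟩
  exact GZ.isCoh_of_isCoh_push ι _
    (QC.isCoh_of_iso (asIso ((Scheme.Modules.pullbackPushforwardAdjunction ι).unit.app
      (DZ.EE n k ι (n - r)))) hE)

end PNSec

section Final
variable (n : ℕ) (k : Type u) [Field k] {X : Scheme.{u}} [X.Over (Spec (CommRingCat.of k))]
  (ι : X ⟶ Proj (CohB1.polyGrading n k)) [IsClosedImmersion ι]

/-- **S11907.** -/
theorem bijective_trace_of_dualizing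
    (hι : ι ≫ CohB1.ProjSpace.toSpec n k = X ↘ Spec (CommRingCat.of k)) [IsIntegral X] (r : ℕ)
    (hr : topologicalKrullDim X = (r : WithBot ℕ∞))
    (halg : ∀ a : X.presheaf.stalk (genericPoint X),
      ((X.presheaf.germ ⊤ (genericPoint X) trivial).hom.comp
        (Coh.toGlobal (X ↘ Spec (CommRingCat.of k)))).IsIntegralElem a →
      a ∈ Set.range ((X.presheaf.germ ⊤ (genericPoint X) trivial).hom.comp
        (Coh.toGlobal (X ↘ Spec (CommRingCat.of k)))))
    (ω : X.Modules) (hω : Coh.IsCoh ω) (t : Coh.HH X ω r →ₗ[k] k)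
    (hd : ∀ F : X.Modules, Coh.IsCoh F → CL.IsDualFor k r ω t F) : Function.Bijective t := by
  haveI hinjres : HasInjectiveResolutions (ModSite.Mod (Proj (CohB1.polyGrading n k)).sheaf) :=
    Groth.Agent.LD.QCQS.hasInjRes (Proj (CohB1.polyGrading n k))
  haveI : IsProper (X ↘ Spec (CommRingCat.of k)) := by
    rw [← hι]
    let q : Proj (CohB1.polyGrading n k) ⟶ Spec (CommRingCat.of k) := CohB1.ProjSpace.toSpec n k
    haveI : IsProper q := Groth.Agent.H5.AG.isProper_toSpec n k
    exact (inferInstance : IsProper (ι ≫ q))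
  have hPdim : topologicalKrullDim (Proj (CohB1.polyGrading n k)) = n :=
    Groth.Agent.H5.IntN.dim_projSpace k n
  have hrn : r ≤ n := by
    have hle : topologicalKrullDim X ≤ topologicalKrullDim (Proj (CohB1.polyGrading n k)) :=
      ι.isClosedEmbedding.toIsEmbedding.toIsInducing.topologicalKrullDim_le
    rw [hr, hPdim] at hle
    have h1 : ((r : ℕ∞) : WithBot ℕ∞) ≤ ((n : ℕ∞) : WithBot ℕ∞) := by exact_mod_cast hle
    have h2 : (r : ℕ∞) ≤ (n : ℕ∞) := WithBot.coe_le_coe.mp h1
    exact_mod_cast h2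
  have heq : ∀ Z : Set X, Z ∈ irreducibleComponents X →
      topologicalKrullDim Z = (r : WithBot ℕ∞) := by
    intro Z hZ
    rw [irreducibleComponents_eq_singleton, Set.mem_singleton_iff] at hZ
    subst hZ
    rw [← hr]
    exact (Homeomorph.Set.univ X).isHomeomorph.topologicalKrullDim_eq _
  have hd' : topologicalKrullDim X + ((n - r : ℕ) : WithBot ℕ∞) ≤ (n : WithBot ℕ∞) := by
    have h1 : ((r : ℕ) : WithBot ℕ∞) + ((n - r : ℕ) : WithBot ℕ∞) = (n : WithBot ℕ∞) := by
      rw [← Nat.cast_add, Nat.add_sub_cancel' hrn]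
    rw [hr]
    exact h1.le
  obtain ⟨ω₀, hω₀c, ⟨e₀⟩⟩ := exists_dualizing_module n k ι r hd'
  obtain ⟨t₀, ht₀⟩ := DZ.exists_dualizing' n k ι hι r hrn hr.le ω₀ ⟨e₀⟩
  obtain ⟨e⟩ := nonempty_iso_of_dualizing k r hω hω₀c t t₀ hd (fun F hF => ht₀ F hF)
  have hωE : Nonempty ((Scheme.Modules.pushforward ι).obj ω ≅
      (ModSite.extSh (O := (Proj (CohB1.polyGrading n k)).sheaf)
        ((Scheme.Modules.pushforward ι).obj (unitMod X)) (n - r)).obj (om n k)) :=
    ⟨(Scheme.Modules.pushforward ι).mapIso e ≪≫ e₀⟩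
  obtain ⟨htf, hrk⟩ := GenRank.torsionFree_and_rank_one n k ι r hrn heq ω hωE
  have hη : closure ({genericPoint X} : Set X) ∈ irreducibleComponents X := by
    rw [(genericPoint_spec X).def, irreducibleComponents_eq_singleton]
    exact Set.mem_singleton _
  have hK : IsField (X.presheaf.stalk (genericPoint X)) :=
    Groth.Agent.H9.FLH.isField_stalk_of_isMaxPt X (genericPoint X)
      ((Groth.Agent.H9.GSD.isMaxPt_iff X (genericPoint X)).mp hη)
  exact bijective_trace k r ω hω t hd htf (hrk _ hη) hK halg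

end Final

end Groth.Agent.LD.XS.DT
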