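import Groth.Agent.Lib.Lead.XS.Adj
import Groth.Agent.Lib.Helper2.WeilStalk
import Groth.Agent.Lib.Lead.QC.TensorDescAll
import Groth.Agent.Lib.Lead.QC.ResolProp
import Groth.Agent.Lib.Lead.QC.SheafIso
import Groth.Agent.Lib.Lead.QC.Extend
import Groth.Agent.Lib.Lead.QC.InvBasis

/-! # `M ⊗ 𝓗om(L, O) ≅ 𝓗om(L, M)` for `L` finite locally free, `M` arbitrary

The canonical morphism `θ_M : M ⊗ L^∨ ⟶ 𝓗om(L, M)`, `m ⊗ δ ↦ (l ↦ δ(l) m)`, is constructed for all
modules and shown to be an isomorphism, natural in `M`, when `L` is finite locally free.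
-/

set_option autoImplicit false
set_option linter.style.haveILetI false
noncomputable section
universe u
open CategoryTheory Limits AlgebraicGeometry TopologicalSpace Opposite TensorProduct

namespace Groth.Agent.LD.XS.DI

open Groth.Agent.H2.HomSh Groth.Agent.LD

attribute [-instance] Groth.Agent.LD.QC.stalkModule

variable {X : Scheme.{u}}

/-- the dual `𝓗om(L, O)`. -/
abbrev Dl (L : X.Modules) : X.Modules := RefHull.homSh L (QC.unitMod X)

/-- sections of the structure module, as functions. -/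
def toFn (V : X.Opens) (c : Γ(QC.unitMod X, V)) : Γ(X, V) := c

section Sec
variable {L M M' : X.Modules}

/-- `a ↦ a • m_y` on the stalk of the structure module. -/
def mulStalk {U : X.Opens} (m : Γ(M, U)) (y : U) :
    (QC.unitMod X).presheaf.stalk y.1 →ₗ[X.presheaf.stalk y.1] M.presheaf.stalk y.1 :=
  (LinearMap.toSpanSingleton (X.presheaf.stalk y.1) (M.presheaf.stalk y.1)
    (M.presheaf.germ U y.1 y.2 m)).comp (unitStalkEquiv y.1).symm.toLinearMap

lemma mulStalk_apply {U : X.Opens} (m : Γ(M, U)) (y : U)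
    (c : (QC.unitMod X).presheaf.stalk y.1) :
    mulStalk m y c = (unitStalkEquiv y.1).symm c • M.presheaf.germ U y.1 y.2 m := rfl

lemma mulStalk_germ {U : X.Opens} (m : Γ(M, U)) (y : U) {W : X.Opens} (hy : y.1 ∈ W)
    (a : Γ(X, W)) :
    mulStalk m y ((QC.unitMod X).presheaf.germ W y.1 hy a) =
      X.presheaf.germ W y.1 hy a • M.presheaf.germ U y.1 y.2 m := by
  have h : (unitStalkEquiv y.1).symm ((QC.unitMod X).presheaf.germ W y.1 hy a) =
      X.presheaf.germ W y.1 hy a :=
    (LinearEquiv.symm_apply_eq _).mpr (Groth.Agent.H2.Weil.unitStalkEquiv_germ W y.1 hy a).symm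
  rw [mulStalk_apply, h]

lemma mulStalk_add {U : X.Opens} (m m' : Γ(M, U)) (y : U) :
    mulStalk (m + m') y = mulStalk m y + mulStalk m' y := by
  apply LinearMap.ext
  intro c
  rw [LinearMap.add_apply, mulStalk_apply, mulStalk_apply, mulStalk_apply, map_add, smul_add]

lemma mulStalk_smul {U : X.Opens} (r : Γ(X, U)) (m : Γ(M, U)) (y : U) :
    mulStalk (r • m) y = X.presheaf.germ U y.1 y.2 r • mulStalk m y := by
  apply LinearMap.ext
  intro c
  rw [LinearMap.smul_apply, mulStalk_apply, mulStalk_apply, Mero.germ_smul, smul_comm]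

lemma mulStalk_res {U V : X.Opens} (h : V ≤ U) (m : Γ(M, U)) (y : V) :
    mulStalk (M.presheaf.map (homOfLE h).op m) y = mulStalk m ⟨y.1, h y.2⟩ := by
  apply LinearMap.ext
  intro c
  rw [mulStalk_apply, mulStalk_apply, QC.germ_res]

/-- the section `l ↦ δ(l) • m` of `𝓗om(L, M)`. -/
def smulSec {U : X.Opens} (m : Γ(M, U)) (δ : Γ(Dl L, U)) : Γ(RefHull.homSh L M, U) :=
  ⟨fun y => (mulStalk m y).comp (δ.1 y), fun V i l x => by
    obtain ⟨W, hxW, j, a, hW⟩ := δ.2 V i l x
    refine ⟨W, hxW, j, toFn W a • M.presheaf.map (j ≫ i).op m, fun y => ?_⟩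
    have e := hW y
    dsimp only at e
    change mulStalk m ⟨y.1, i.le (j.le y.2)⟩
      (δ.1 ⟨y.1, i.le (j.le y.2)⟩ (L.presheaf.germ V y.1 (j.le y.2) l)) = _
    rw [e, mulStalk_germ, Mero.germ_smul, TopCat.Presheaf.germ_res_apply]
    rfl⟩

lemma smulSec_val {U : X.Opens} (m : Γ(M, U)) (δ : Γ(Dl L, U)) (y : U) :
    (smulSec m δ).1 y = (mulStalk m y).comp (δ.1 y) := rfl

lemma app_smulSec_self {U : X.Opens} (m : Γ(M, U)) (δ : Γ(Dl L, U)) (l : Γ(L, U)) :
    app (smulSec m δ) le_rfl l = toFn U (app δ le_rfl l) • m := by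
  apply app_eq_of_germ
  intro y hy
  change _ = mulStalk m ⟨y, hy⟩ (δ.1 ⟨y, hy⟩ (L.presheaf.germ U y hy l))
  rw [← germ_app δ le_rfl l y hy, mulStalk_germ, Mero.germ_smul]
  rfl

lemma smulSec_res {U V : X.Opens} (h : V ≤ U) (m : Γ(M, U)) (δ : Γ(Dl L, U)) :
    (RefHull.homSh L M).presheaf.map (homOfLE h).op (smulSec m δ) =
      smulSec (M.presheaf.map (homOfLE h).op m) ((Dl L).presheaf.map (homOfLE h).op δ) := by
  apply hom_ext
  intro x hx
  rw [res_val, smulSec_val, smulSec_val, res_val, mulStalk_res]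

/-- `smulSec` on the structure module is the scalar multiplication. -/
lemma smulSec_unit {U : X.Opens} (c : Γ(QC.unitMod X, U)) (δ : Γ(Dl L, U)) :
    smulSec c δ = toFn U c • δ := by
  apply hom_ext
  intro x hx
  rw [smul_val, smulSec_val]
  apply LinearMap.ext
  intro v
  rw [LinearMap.comp_apply, LinearMap.smul_apply, mulStalk_apply]
  generalize δ.1 ⟨x, hx⟩ v = w
  rw [← Groth.Agent.H2.Weil.unitStalkEquiv_germ U x hx c, ← map_smul, smul_eq_mul, mul_comm,
    ← smul_eq_mul, map_smul, LinearEquiv.apply_symm_apply]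
  rfl

/-- the bilinear maps `(m, δ) ↦ (l ↦ δ(l) • m)`. -/
def smulB (L M : X.Modules) (U : X.Opens) :
    Γ(M, U) →ₗ[Γ(X, U)] Γ(Dl L, U) →ₗ[Γ(X, U)] Γ(RefHull.homSh L M, U) :=
  LinearMap.mk₂ Γ(X, U) (fun m δ => smulSec m δ)
    (fun m m' δ => hom_ext _ _ fun x hx => by
      rw [add_val, smulSec_val, smulSec_val, smulSec_val, mulStalk_add, LinearMap.add_comp])
    (fun c m δ => hom_ext _ _ fun x hx => by
      rw [smul_val, smulSec_val, smulSec_val, mulStalk_smul, LinearMap.smul_comp])
    (fun m δ δ' => hom_ext _ _ fun x hx => by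
      rw [add_val, smulSec_val, smulSec_val, smulSec_val, add_val, LinearMap.comp_add])
    (fun c m δ => hom_ext _ _ fun x hx => by
      rw [smul_val, smulSec_val, smulSec_val, smul_val, LinearMap.comp_smul])

variable (L M) in
/-- the canonical morphism `M ⊗ L^∨ ⟶ 𝓗om(L, M)`. -/
def theta : CohB1.tensorMod M (Dl L) ⟶ RefHull.homSh L M :=
  QC.tensorDescAll M (Dl L) (RefHull.homSh L M) (smulB L M)
    (fun _ _ h m δ => smulSec_res h m δ)

lemma theta_tmul (U : X.Opens) (m : Γ(M, U)) (δ : Γ(Dl L, U)) :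
    (theta L M).app U (SecTwist.tmul M (Dl L) U m δ) = smulSec m δ :=
  QC.tensorDescAll_app_tmul M (Dl L) (RefHull.homSh L M) (smulB L M)
    (fun _ _ h m δ => smulSec_res h m δ) U m δ

/-- naturality of `θ` in `M`. -/
lemma theta_natural (L : X.Modules) {M M' : X.Modules} (f : M ⟶ M') :
    KoszTw.tensorMap f (𝟙 (Dl L)) ≫ theta L M' = theta L M ≫ HF.postHom L f := by
  apply QC.hom_ext_tmul
  intro U m δ
  rw [Scheme.Modules.Hom.comp_app, Scheme.Modules.Hom.comp_app, ConcreteCategory.comp_apply,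
    ConcreteCategory.comp_apply, KoszTw.tensorMap_tmul, theta_tmul, theta_tmul, HF.postHom_app]
  apply hom_ext
  intro x hx
  rw [HF.postSec_val, smulSec_val, smulSec_val]
  apply LinearMap.ext
  intro v
  change mulStalk (f.app U m) ⟨x, hx⟩ (δ.1 ⟨x, hx⟩ v) =
    RefHull.stalkMapₗ f x (mulStalk m ⟨x, hx⟩ (δ.1 ⟨x, hx⟩ v))
  rw [mulStalk_apply, mulStalk_apply, map_smul, RefHull.stalkMapₗ_germ]

lemma app_sum {Z : X.Modules} {V V' : X.Opens} {ι : Type*} (s : Finset ι)
    (g : ι → Γ(RefHull.homSh L Z, V)) (h : V' ≤ V) (m : Γ(L, V')) :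
    app (∑ i ∈ s, g i) h m = ∑ i ∈ s, app (g i) h m := by
  classical
  induction s using Finset.induction_on with
  | empty =>
    rw [Finset.sum_empty, Finset.sum_empty]
    exact app_zero_hom h m
  | insert a s ha ih => rw [Finset.sum_insert ha, Finset.sum_insert ha, app_add_hom, ih]

lemma tmul_sum_right (M N : X.Modules) (V : X.Opens) {ι : Type*} (s : Finset ι) (m : Γ(M, V))
    (f : ι → Γ(N, V)) :
    SecTwist.tmul M N V m (∑ i ∈ s, f i) = ∑ i ∈ s, SecTwist.tmul M N V m (f i) := by
  change QC.tensorSec M N V (m ⊗ₜ ∑ i ∈ s, f i) = ∑ i ∈ s, QC.tensorSec M N V (m ⊗ₜ f i)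
  rw [TensorProduct.tmul_sum, map_sum]

end Sec

/-- a dual basis of `L` over `V`: sections `e i` of `L` and `δ i` of `L^∨`, dual to each other,
such that sections of `𝓗om(L, -)` over `V` are determined by their values on the `e i`. -/
structure DualBasis (L : X.Modules) (V : X.Opens) (n : ℕ) where
  e : Fin n → Γ(L, V)
  δ : Fin n → Γ(Dl L, V)
  ext : ∀ (Z : X.Modules) (g g' : Γ(RefHull.homSh L Z, V)),
    (∀ i, app g le_rfl (e i) = app g' le_rfl (e i)) → g = g'
  kron : ∀ i j, toFn V (app (δ i) le_rfl (e j)) = if i = j then 1 else 0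

namespace DualBasis
variable {L : X.Modules} {V : X.Opens} {n : ℕ} (B : DualBasis L V n)

lemma expand {Z : X.Modules} (g : Γ(RefHull.homSh L Z, V)) :
    ∑ i, smulSec (app g le_rfl (B.e i)) (B.δ i) = g := by
  apply B.ext Z
  intro j
  rw [app_sum]
  have h : ∀ i, app (smulSec (app g le_rfl (B.e i)) (B.δ i)) le_rfl (B.e j) =
      (if i = j then (1 : Γ(X, V)) else 0) • app g le_rfl (B.e i) := by
    intro i
    rw [app_smulSec_self]
    exact congrArg (fun c : Γ(X, V) => c • app g le_rfl (B.e i)) (B.kron i j)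
  rw [Finset.sum_congr rfl fun i _ => h i]
  simp only [ite_smul, one_smul, zero_smul]
  rw [Finset.sum_ite_eq' Finset.univ j]
  simp

include B in
lemma surjective (M : X.Modules) : Function.Surjective ((theta L M).app V) := by
  intro g
  refine ⟨∑ i, SecTwist.tmul M (Dl L) V (app g le_rfl (B.e i)) (B.δ i), ?_⟩
  rw [map_sum]
  rw [Finset.sum_congr rfl fun i _ => theta_tmul V (app g le_rfl (B.e i)) (B.δ i)]
  exact B.expand g

lemma tensor_expand (M : X.Modules) (z : Γ(M, V) ⊗[Γ(X, V)] Γ(Dl L, V)) :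
    QC.tensorSec M (Dl L) V z = ∑ i, SecTwist.tmul M (Dl L) V
      (app ((theta L M).app V (QC.tensorSec M (Dl L) V z)) le_rfl (B.e i)) (B.δ i) := by
  induction z using TensorProduct.induction_on with
  | zero =>
    rw [map_zero]
    symm
    apply Finset.sum_eq_zero
    intro i _
    rw [map_zero, app_zero_hom]
    exact QC.tmul_zero_left M (Dl L) V (B.δ i)
  | tmul m μ =>
    change SecTwist.tmul M (Dl L) V m μ = ∑ i, SecTwist.tmul M (Dl L) V
      (app ((theta L M).app V (SecTwist.tmul M (Dl L) V m μ)) le_rfl (B.e i)) (B.δ i)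
    have h1 : ∀ i, SecTwist.tmul M (Dl L) V
        (app ((theta L M).app V (SecTwist.tmul M (Dl L) V m μ)) le_rfl (B.e i)) (B.δ i) =
        SecTwist.tmul M (Dl L) V m (smulSec (app μ le_rfl (B.e i)) (B.δ i)) := by
      intro i
      rw [theta_tmul, app_smulSec_self, QC.tmul_smul_left, ← QC.tmul_smul_right, smulSec_unit]
    rw [Finset.sum_congr rfl fun i _ => h1 i, ← tmul_sum_right]
    exact congrArg (fun t => SecTwist.tmul M (Dl L) V m t) (B.expand μ).symm
  | add a b ha hb =>
    have hs : ∀ x y : Γ(CohB1.tensorMod M (Dl L), V),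
        (∑ i, SecTwist.tmul M (Dl L) V (app ((theta L M).app V (x + y)) le_rfl (B.e i)) (B.δ i)) =
        (∑ i, SecTwist.tmul M (Dl L) V (app ((theta L M).app V x) le_rfl (B.e i)) (B.δ i)) +
        ∑ i, SecTwist.tmul M (Dl L) V (app ((theta L M).app V y) le_rfl (B.e i)) (B.δ i) := by
      intro x y
      rw [← Finset.sum_add_distrib]
      apply Finset.sum_congr rfl
      intro i _
      rw [map_add, app_add_hom, QC.tmul_add_left]
    rw [map_add, hs]
    exact congrArg₂ (· + ·) ha hb

end DualBasis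

/-- injectivity of `θ` on sections over `V` when all smaller opens carry dual bases. -/
theorem injective_app_theta {L : X.Modules} (M : X.Modules) {V : X.Opens} {n : ℕ}
    (Bs : ∀ V' : X.Opens, V' ≤ V → DualBasis L V' n) :
    Function.Injective ((theta L M).app V) := by
  rw [injective_iff_map_eq_zero]
  intro t ht
  choose W hW hxW z hz using fun x : V =>
    QC.tensorSec_locally_surjective M (Dl L) V t x.1 x.2
  apply QC.section_ext_of_cover (CohB1.tensorMod M (Dl L)) W hW
  · intro x hx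
    exact Opens.mem_iSup.2 ⟨⟨x, hx⟩, hxW ⟨x, hx⟩⟩
  · intro x
    have h0 : (theta L M).app (W x) (QC.tensorSec M (Dl L) (W x) (z x)) = 0 := by
      rw [hz x, QC.app_res, ht, map_zero]
    rw [map_zero, ← hz x, (Bs (W x) (hW x)).tensor_expand M (z x)]
    apply Finset.sum_eq_zero
    intro i _
    rw [h0, app_zero_hom]
    exact QC.tmul_zero_left M (Dl L) (W x) _

section Affine
variable {L : X.Modules} [L.IsQuasicoherent] {U : X.Opens} (hU : IsAffineOpen U) {n : ℕ}
  (φ : Γ(L, U) ≃ₗ[Γ(X, U)] (Fin n → Γ(X, U)))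

/-- the `i`-th coordinate form. -/
def coordLin (i : Fin n) : Γ(L, U) →ₗ[Γ(X, U)] Γ(QC.unitMod X, U) :=
  (LinearMap.proj i).comp φ.toLinearMap

omit [L.IsQuasicoherent] in
lemma expand_affine (l : Γ(L, U)) : l = ∑ i, φ l i • φ.symm (Pi.single i 1) := by
  apply φ.injective
  rw [map_sum]
  simp only [map_smul, LinearEquiv.apply_symm_apply]
  funext j
  rw [Finset.sum_apply]
  simp [Pi.single_apply]

/-- the dual basis over `V ≤ U` attached to a trivialization of `L` over the affine open `U`. -/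
def dualBasisOfAffine {V : X.Opens} (hVU : V ≤ U) : DualBasis L V n where
  e i := L.presheaf.map (homOfLE hVU).op (φ.symm (Pi.single i 1))
  δ i := (Dl L).presheaf.map (homOfLE hVU).op (ofLinear hU (coordLin φ i))
  ext Z g g' h := by
    apply hom_ext_affine hU hVU
    intro l
    have key : ∀ g'' : Γ(RefHull.homSh L Z, V),
        app g'' le_rfl (L.presheaf.map (homOfLE hVU).op l) =
          ∑ i, X.presheaf.map (homOfLE hVU).op (φ l i) •
            app g'' le_rfl (L.presheaf.map (homOfLE hVU).op (φ.symm (Pi.single i 1))) := by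
      intro g''
      have h1 : L.presheaf.map (homOfLE hVU).op l =
          ∑ i, X.presheaf.map (homOfLE hVU).op (φ l i) •
            L.presheaf.map (homOfLE hVU).op (φ.symm (Pi.single i 1)) := by
        conv_lhs => rw [expand_affine φ l]
        rw [map_sum]
        exact Finset.sum_congr rfl fun i _ => QC.smul_res L hVU (φ l i) _
      rw [h1]
      change appLin g'' le_rfl (∑ i, _) = _
      rw [map_sum]
      exact Finset.sum_congr rfl fun i _ => by rw [map_smul]; rfl
    rw [key g, key g']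
    exact Finset.sum_congr rfl fun i _ => by rw [h i]
  kron i j := by
    have h1 : app ((Dl L).presheaf.map (homOfLE hVU).op (ofLinear hU (coordLin φ i))) le_rfl
        (L.presheaf.map (homOfLE hVU).op (φ.symm (Pi.single j 1))) =
        (QC.unitMod X).presheaf.map (homOfLE hVU).op
          (app (ofLinear hU (coordLin φ i)) le_rfl (φ.symm (Pi.single j 1))) :=
      (app_res_hom hVU (ofLinear hU (coordLin φ i)) le_rfl _).trans
        (app_res (ofLinear hU (coordLin φ i)) le_rfl hVU (φ.symm (Pi.single j 1)))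
    have h2 : app (ofLinear hU (coordLin φ i)) le_rfl (φ.symm (Pi.single j 1)) =
        coordLin φ i (φ.symm (Pi.single j 1)) :=
      LinearMap.congr_fun (appLin_ofLinear hU (coordLin φ i)) _
    have h3 : toFn U (coordLin φ i (φ.symm (Pi.single j 1))) = if i = j then 1 else 0 := by
      change (φ (φ.symm (Pi.single j 1))) i = _
      rw [LinearEquiv.apply_symm_apply, Pi.single_apply]
    rw [h1, h2]
    change X.presheaf.map (homOfLE hVU).op (toFn U (coordLin φ i (φ.symm (Pi.single j 1)))) = _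
    rw [h3]
    split_ifs
    · exact map_one _
    · exact map_zero _

end Affine

/-- **`θ_M` is an isomorphism for `L` finite locally free.** -/
theorem isIso_theta (L M : X.Modules) [L.IsQuasicoherent] (hL : FlatMod.IsFinLocFree L) :
    IsIso (theta L M) := by
  apply QC.isIso_of_local_bijective
  intro x W hx
  obtain ⟨U, n, hU, hxU, hUW, ⟨φ⟩⟩ := RP2.exists_affine_equiv_of_isFinLocFree L hL W x hx
  exact ⟨U, hxU, hUW, injective_app_theta M (fun V' h => dualBasisOfAffine hU φ h),
    (dualBasisOfAffine hU φ le_rfl).surjective M⟩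

/-- **`- ⊗ L^∨ ≅ 𝓗om(L, -)`** for `L` finite locally free. -/
def thetaIso (L : X.Modules) [L.IsQuasicoherent] (hL : FlatMod.IsFinLocFree L) :
    QC.twF (Dl L) ≅ homShF L :=
  NatIso.ofComponents (fun M => @asIso _ _ _ _ (theta L M) (isIso_theta L M hL)) (by
    intro M M' f
    change (QC.twF (Dl L)).map f ≫ theta L M' = theta L M ≫ HF.postHom L f
    rw [QC.twF_map]
    exact theta_natural L f)

end Groth.Agent.LD.XS.DI
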