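import Groth.Agent.Lib.Lead.XS.Adj
import Groth.Agent.Lib.Lead.QC.ProjFormulaLF
import Groth.Agent.Lib.Helper2.HomSh3

/-! # The right adjoint of `F ⊗ -` is the sheaf Hom `𝓗om(F, -)` -/

set_option autoImplicit false
set_option linter.style.haveILetI false
noncomputable section
universe u
open CategoryTheory Limits AlgebraicGeometry TopologicalSpace Opposite

namespace Groth.Agent.LD.XS

open Groth.Agent.H2.HomSh Groth.Agent.LD

attribute [-instance] Groth.Agent.LD.QC.stalkModule

variable {X : Scheme.{u}}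

/-- `F ⊗ - ≅ - ⊗ F`. -/
def ltIso (F : X.Modules) : (DCoh.tensorBi (X := X)).obj F ≅ QC.twF F :=
  NatIso.ofComponents (fun M => QC.tensorCommAll F M) (by
    intro G H i
    change (DCoh.tensorBi.obj F).map i ≫ (QC.tensorCommAll F H).hom =
      (QC.tensorCommAll F G).hom ≫ (QC.twF F).map i
    have h1 : (DCoh.tensorBi.obj F).map i = KoszTw.tensorMap (𝟙 F) i :=
      KoszTw.tensorBi_obj_map F i
    have h2 : (QC.twF F).map i = KoszTw.tensorMap i (𝟙 F) := QC.twF_map F i
    have key : KoszTw.tensorMap (𝟙 F) i ≫ (QC.tensorCommAll F H).hom =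
        (QC.tensorCommAll F G).hom ≫ KoszTw.tensorMap i (𝟙 F) := by
      apply QC.hom_ext_tmul
      intro U f g
      rw [Scheme.Modules.Hom.comp_app, Scheme.Modules.Hom.comp_app, ConcreteCategory.comp_apply,
        ConcreteCategory.comp_apply, KoszTw.tensorMap_tmul, QC.tensorCommAll_hom_app_tmul,
        QC.tensorCommAll_hom_app_tmul, KoszTw.tensorMap_tmul]
    exact (congrArg (fun t => t ≫ (QC.tensorCommAll F H).hom) h1).trans
      (key.trans (congrArg (fun t => (QC.tensorCommAll F G).hom ≫ t) h2.symm)))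

/-- **the right adjoint of `F ⊗ -` is the explicit sheaf Hom**, for `F` quasi-coherent. -/
def dcohHomIso (F : X.Modules) [F.IsQuasicoherent] [DCoh.HasSheafHom F] :
    DCoh.sheafHom F ≅ homShF F :=
  (DCoh.sheafHomAdj F).rightAdjointUniq ((adjR F).ofNatIsoLeft (ltIso F).symm)

/-- coherence of the sheaf Hom. -/
theorem isCoh_dcoh_sheafHom [IsLocallyNoetherian X] (F G : X.Modules) (hF : Coh.IsCoh F)
    (hG : Coh.IsCoh G) [DCoh.HasSheafHom F] : Coh.IsCoh ((DCoh.sheafHom F).obj G) := by
  haveI := hF.1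
  exact QC.isCoh_of_iso ((dcohHomIso F).app G).symm (isCoh_homSh hF hG)

end Groth.Agent.LD.XS
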