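import Groth.Agent.Lib.Lead.XS.QcDual
import Groth.Agent.Lib.Lead.RS.FibreDim
import Groth.Agent.Lib.Lead.RS.Sections
import Groth.Agent.Lib.Lead.AS.Closed
import Groth.Agent.Lib.Lead.PN.ClosedSub
import Groth.Agent.Lib.Lead.QC.Push
import Groth.Agent.Lib.Lead.SC.RPush
import Groth.Agent.Lib.Lead.SC.Affine
import Groth.Agent.Lib.Helper2.LerayLin
import Groth.Agent.Lib.Helper5.AG.ProjProper
import Groth.Agent.Lib.Helper7.ClImmMod
import Groth.Agent.H4.PSch4
import Groth.Agent.S0002
import Groth.Agent.S0059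

/-! # Relative dualizing pairs: vanishing above the fibre dimension, the criterion through the
twisting sheaves, and finite morphisms -/

set_option autoImplicit false
set_option linter.style.haveILetI false
noncomputable section
universe u
open CategoryTheory Limits Opposite Abelian AlgebraicGeometry TopologicalSpace

namespace Groth.Agent.LD.XS.RD

open Groth.Agent.LD

section Vanish

variable {X Y : Scheme.{u}} (f : X ⟶ Y) [IsProper f] [IsLocallyNoetherian Y]

/-- the higher direct images of a coherent module along a proper morphism vanish above the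
dimension of the fibres. -/
theorem isZero_Rpush_of_fiber_dim [HasInjectiveResolutions X.Modules] (d : ℕ)
    (hd : ∀ y : Y, topologicalKrullDim ↥(f.fiber y) ≤ d)
    (M : X.Modules) (hM : Coh.IsCoh M) (p : ℕ) (hp : d < p) :
    IsZero ((Coh.Rpush f p).obj M) := by
  have hfin : RS.FinCoh.{u} := fun A _ _ Y _ _ N hN n => Groth.Agent.S0002.result A Y N hN n
  have hFF : RS.FormalHyp.{u} := fun A _ _ I X _ _ M hM p =>
    Groth.Agent.S0059.result A I X M hM p
  haveI := hM.1
  apply Groth.Agent.H4.PSch4.isZero_of_local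
  intro y
  letI : (pullback f (Y.fromSpecStalk y)).Over (Spec (CommRingCat.of (Y.presheaf.stalk y))) :=
    ⟨pullback.snd f (Y.fromSpecStalk y)⟩
  have hsq' : IsPullback (pullback.fst f (Y.fromSpecStalk y))
      ((pullback f (Y.fromSpecStalk y)) ↘ Spec (CommRingCat.of (Y.presheaf.stalk y))) f
      (Y.fromSpecStalk y) := IsPullback.of_hasPullback f (Y.fromSpecStalk y)
  have hF₁ : Coh.IsCoh ((Scheme.Modules.pullback (pullback.fst f (Y.fromSpecStalk y))).obj M) :=
    ⟨QC.qc_pullback _ M, QC.isFiniteType_pullback _ M hM.2⟩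
  have hlim : Formal.HHlim (IsLocalRing.maximalIdeal (Y.presheaf.stalk y))
      ((Scheme.Modules.pullback (pullback.fst f (Y.fromSpecStalk y))).obj M) p = ⊥ := by
    rw [eq_bot_iff]
    intro x _
    rw [AddSubgroup.mem_bot]
    funext n
    haveI : Subsingleton (Formal.HHmodPow (IsLocalRing.maximalIdeal (Y.presheaf.stalk y))
        ((Scheme.Modules.pullback (pullback.fst f (Y.fromSpecStalk y))).obj M) p n) :=
      SC.subsingleton_HH_of_killedBy_pow f y _ _ hsq' d (hd y) _
        (Groth.Agent.H2.FormalEq.isCoh_modPow _ (n + 1) hF₁) (n + 1)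
        (Groth.Agent.H2.FormalEq.killedBy_modPow _ (n + 1) _) p hp
    exact Subsingleton.elim _ _
  obtain ⟨V, hyV, hzV⟩ := RS.exists_nbhd_isZero_Rpush f hfin hFF M hM y p _ _ hsq' hlim
  exact ⟨V.toScheme, V.ι, inferInstance, ⟨⟨y, hyV⟩, rfl⟩, hzV⟩

/-- **relative Grothendieck vanishing over an affine base**: the cohomology of a coherent module
on a scheme proper over a Noetherian affine scheme vanishes above the dimension of the fibres. -/
theorem subsingleton_HH_of_fiber_dim [IsAffine Y] (d : ℕ)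
    (hd : ∀ y : Y, topologicalKrullDim ↥(f.fiber y) ≤ d)
    (M : X.Modules) (hM : Coh.IsCoh M) (p : ℕ) (hp : d < p) : Subsingleton (Coh.HH X M p) := by
  haveI := QCQS.hasInjRes X
  haveI := hM.1
  have hz := isZero_Rpush_of_fiber_dim f d hd M hM p hp
  haveI : Subsingleton Γ(RS.RN f M p, ⊤) := AS.subsingleton_sections_of_isZero hz ⊤
  exact (RS.secEquiv f M p).symm.toEquiv.subsingleton

end Vanish

section Rel

variable (A : Type u) [CommRing A] [IsNoetherianRing A] (n r : ℕ) {X : Scheme.{u}}
  [X.Over (Spec (CommRingCat.of A))]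
  (ι : X ⟶ Proj (CohB1.polyGrading n A)) [IsClosedImmersion ι]

/-- **the criterion through the twisting sheaves** (S13310): on a closed subscheme of `P^n_A`
with fibres of dimension at most `r`, a pair `(ω, tr)` which is dualizing for all the `O_X(m)` is an
`r`-dualizing pair. -/
theorem isRDualOver_of_twists
    (hι : ι ≫ CohB1.ProjSpace.toSpec n A = X ↘ Spec (CommRingCat.of A))
    (hfib : ∀ y : ↥(Spec (CommRingCat.of A)),
      topologicalKrullDim ↥((X ↘ Spec (CommRingCat.of A)).fiber y) ≤ (r : WithBot ℕ∞))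
    (ω : X.Modules) (hω : Coh.IsQCoh ω) (tr : Coh.HH X ω r →ₗ[A] A)
    (h : ∀ m : ℤ, Function.Bijective
      (Canon.dualityMap A X r ω tr
        ((Scheme.Modules.pullback ι).obj (Twist.twist (CohB1.polyGrading n A) m)))) :
    Canon.IsRDualOver A X r ω tr := by
  haveI : CompactSpace X := QuasiCompact.compactSpace_of_compactSpace ι
  haveI : IsLocallyNoetherian X := LocallyOfFiniteType.isLocallyNoetherian ι
  haveI : QuasiSeparatedSpace X := inferInstance
  haveI : IsProper (X ↘ Spec (CommRingCat.of A)) := by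
    rw [← hι]
    let q : Proj (CohB1.polyGrading n A) ⟶ Spec (CommRingCat.of A) := CohB1.ProjSpace.toSpec n A
    haveI : IsProper q := Groth.Agent.H5.AG.isProper_toSpec n A
    exact (inferInstance : IsProper (ι ≫ q))
  haveI : (Scheme.Modules.pushforward ι).Faithful :=
    Groth.Agent.H7.ClImmMod.faithful_pushforward ι
  refine QD.isRDualOver_of_fp A r ω hω tr (fun F hF => ?_)
  have hFc : Coh.IsCoh F := by
    haveI := hF
    exact ⟨inferInstance, inferInstance⟩
  refine CL.isDualFor_of_devissage r tr (fun M => Coh.IsCoh M) ?_ ?_ F hFc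
  · intro M hM
    haveI := hM.1
    have hpush : Coh.IsCoh ((Scheme.Modules.pushforward ι).obj M) := PN.isCoh_push n A ι M hM
    obtain ⟨m₀, hm⟩ := PN.exists_epi_sigma_twist n A _ hpush.1 hpush.2
    obtain ⟨K, p, hp⟩ := hm m₀ le_rfl
    haveI := hp
    haveI := PN.qc_twist n A (-(m₀ : ℤ))
    let L : X.Modules :=
      (Scheme.Modules.pullback ι).obj (Twist.twist (CohB1.polyGrading n A) (-(m₀ : ℤ)))
    haveI hLqc : L.IsQuasicoherent := QC.qc_pullback ι _
    have hLft : L.IsFiniteType := QC.isFiniteType_pullback ι _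
      (QC.isFiniteType_of_isInvertible _ (PN.isInvertible_twist n A _))
    let adj := Scheme.Modules.pullbackPushforwardAdjunction ι
    let q : (∐ fun _ : Fin K => L) ⟶ M := Sigma.desc (fun j =>
      (adj.homEquiv (Twist.twist (CohB1.polyGrading n A) (-(m₀ : ℤ))) M).symm
        (Sigma.ι (fun _ : Fin K => Twist.twist (CohB1.polyGrading n A) (-(m₀ : ℤ))) j ≫ p))
    have hqj : ∀ j : Fin K, Sigma.ι (fun _ : Fin K => L) j ≫ q =
        (adj.homEquiv (Twist.twist (CohB1.polyGrading n A) (-(m₀ : ℤ))) M).symm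
          (Sigma.ι (fun _ : Fin K => Twist.twist (CohB1.polyGrading n A) (-(m₀ : ℤ))) j ≫ p) :=
      fun j => Sigma.ι_desc _ _
    have hq : Epi q := by
      refine ⟨fun {T} g g' hgg => ?_⟩
      apply (Scheme.Modules.pushforward ι).map_injective
      rw [← cancel_epi p]
      apply Sigma.hom_ext
      intro j
      have h1 : (Sigma.ι (fun _ : Fin K => L) j ≫ q) ≫ g =
          (Sigma.ι (fun _ : Fin K => L) j ≫ q) ≫ g' := by
        rw [Category.assoc, Category.assoc, hgg]
      rw [hqj] at h1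
      rw [← adj.homEquiv_naturality_right_symm, ← adj.homEquiv_naturality_right_symm] at h1
      have h2 := (adj.homEquiv _ _).symm.injective h1
      simpa only [Category.assoc] using h2
    have hEqc : (∐ fun _ : Fin K => L).IsQuasicoherent := QC.qc_sigma_fin _ K
    have hEft : (∐ fun _ : Fin K => L).IsFiniteType := QC.isFiniteType_sigma_fin _ hLft K
    have hKqc : (kernel q).IsQuasicoherent := QC.qc_kernel q hEqc hM.1
    refine ⟨ShortComplex.mk (kernel.ι q) q (kernel.condition q), ?_, ⟨Iso.refl _⟩,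
      ⟨hKqc, QC.isFiniteType_of_mono (kernel.ι q) hKqc hEqc hEft⟩, ?_⟩
    · exact { exact := ShortComplex.exact_of_f_is_kernel _ (kernelIsKernel q)
              mono_f := inferInstanceAs (Mono (kernel.ι q))
              epi_g := hq }
    · exact CL.isDualFor_sigma r tr L K ((CL.isDualFor_iff A r ω tr L).mpr (h (-(m₀ : ℤ))))
  · intro M hM
    exact subsingleton_HH_of_fiber_dim (X ↘ Spec (CommRingCat.of A)) r hfib M hM (r + 1)
      (Nat.lt_succ_self r)

end Rel

section Fin

variable (A : Type u) [CommRing A] {X Z : Scheme.{u}} [X.Over (Spec (CommRingCat.of A))]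
  [Z.Over (Spec (CommRingCat.of A))] (π : X ⟶ Z) [IsAffineHom π]

/-- **dualizing pairs along affine (e.g. finite) morphisms** (S13311): if `(ω_Z, tr_Z)` is
`r`-dualizing on `Z` and `ω_X` represents `F ↦ Hom(π_* F, ω_Z)`, then `ω_X` carries a trace making
it `r`-dualizing on `X`. -/
theorem exists_rdual_of_affine
    (hπ : π ≫ (Z ↘ Spec (CommRingCat.of A)) = X ↘ Spec (CommRingCat.of A)) (r : ℕ)
    (ωZ : Z.Modules) (trZ : Coh.HH Z ωZ r →ₗ[A] A) (hZ : Canon.IsRDualOver A Z r ωZ trZ)
    (ωX : X.Modules) (hωX : Coh.IsQCoh ωX) (τ : (Scheme.Modules.pushforward π).obj ωX ⟶ ωZ)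
    (huniv : ∀ F : X.Modules, Coh.IsQCoh F →
      Function.Bijective (fun φ : F ⟶ ωX => (Scheme.Modules.pushforward π).map φ ≫ τ)) :
    ∃ trX : Coh.HH X ωX r →ₗ[A] A, Canon.IsRDualOver A X r ωX trX := by
  haveI : π.IsOver (Spec (CommRingCat.of A)) := ⟨hπ⟩
  have hvan : ∀ (G : X.Modules) [G.IsQuasicoherent] (q : ℕ),
      IsZero (((SC.pushAb π.base).rightDerived (q + 1)).obj (Coh.toAb G)) := fun G _ q =>
    SC.isZero_rightDerived_push π.base {V : Z.Opens | IsAffineOpen V} Z.isBasis_affineOpens 0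
      (fun V hV i _ => SC.subsingleton_ext_of_isAffineOpen G i (π ⁻¹ᵁ V) (hV.preimage π)) q
      (Nat.zero_le _)
  haveI : ωX.IsQuasicoherent := hωX
  let e : ∀ (G : X.Modules) [G.IsQuasicoherent],
      Coh.HH Z ((Scheme.Modules.pushforward π).obj G) r ≃ₗ[A] Coh.HH X G r :=
    fun G _ => Groth.Agent.H2.Leray.HHpushforwardEquiv π A G (hvan G) r
  have he : ∀ (G : X.Modules) [G.IsQuasicoherent]
      (y : Coh.HH Z ((Scheme.Modules.pushforward π).obj G) r),
      e G y = Groth.Agent.H2.Leray.edgeLin π A G r y := fun G _ y => rfl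
  refine ⟨(trZ ∘ₗ CL.HHmap A τ r) ∘ₗ (e ωX).symm.toLinearMap, hωX, fun F hF => ?_⟩
  haveI : F.IsQuasicoherent := hF
  have hpq : ((Scheme.Modules.pushforward π).obj F).IsQuasicoherent := QC.qc_pushforward π F
  have h1 := huniv F hF
  have h2 := hZ.2 _ hpq
  have key : Canon.dualityMap A X r ωX ((trZ ∘ₗ CL.HHmap A τ r) ∘ₗ (e ωX).symm.toLinearMap) F =
      (fun θ : Coh.HH Z ((Scheme.Modules.pushforward π).obj F) r →ₗ[A] A =>
          θ ∘ₗ (e F).symm.toLinearMap) ∘
        (Canon.dualityMap A Z r ωZ trZ ((Scheme.Modules.pushforward π).obj F)) ∘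
        (fun φ : F ⟶ ωX => (Scheme.Modules.pushforward π).map φ ≫ τ) := by
    funext φ
    apply LinearMap.ext
    intro x
    obtain ⟨y, rfl⟩ := (e F).surjective x
    have hnat : CL.HHmap A φ r (e F y) =
        e ωX (CL.HHmap A ((Scheme.Modules.pushforward π).map φ) r y) := by
      rw [he, he]
      exact (Groth.Agent.H2.Leray.edgeLin_map π A φ r y).symm
    change trZ (CL.HHmap A τ r ((e ωX).symm (CL.HHmap A φ r (e F y)))) =
      trZ (CL.HHmap A ((Scheme.Modules.pushforward π).map φ ≫ τ) r ((e F).symm (e F y)))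
    rw [hnat, LinearEquiv.symm_apply_apply, LinearEquiv.symm_apply_apply, CL.HHmap_comp]
    rfl
  rw [key]
  refine Function.Bijective.comp ?_ (Function.Bijective.comp h2 h1)
  constructor
  · intro θ θ' hθ
    apply LinearMap.ext
    intro y
    have h3 := LinearMap.congr_fun hθ (e F y)
    simpa using h3
  · intro ψ
    refine ⟨ψ ∘ₗ (e F).toLinearMap, ?_⟩
    apply LinearMap.ext
    intro x
    simp

end Fin

end Groth.Agent.LD.XS.RD
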