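import Groth.Agent.Lib.Lead.PD.HomAdj
import Groth.Agent.Lib.Lead.QC.FreeData
import Groth.Agent.Lib.Lead.QC.TwistEquiv
import Groth.Agent.Lib.Lead.RP.ConjExact
import Groth.Agent.Lib.Lead.MS.TensorColim
import Groth.Prelude.Def_ExtSupp

/-! # The sheaf Hom out of a quasi-coherent module is the internal Hom

For `K` quasi-coherent on a scheme `X`, the explicit sheaf Hom `𝓗om(K, -)` is right adjoint to
`- ⊗ K` on all `O_X`-modules; hence it is isomorphic to the chosen internal Hom
`ModSite.sheafHom K`, compatibly with the contravariant functoriality in `K`.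
-/

set_option autoImplicit false
set_option linter.style.haveILetI false
noncomputable section
universe u
open CategoryTheory Limits AlgebraicGeometry TopologicalSpace Opposite

namespace Groth.Agent.LD.XS

open Groth.Agent.H2.HomSh Groth.Agent.LD Groth.Agent.LD.PD.HA

attribute [-instance] Groth.Agent.LD.QC.stalkModule

variable {X : Scheme.{u}} {K E Z Z' M M' : X.Modules}

/-- sections are determined by their restrictions to affine opens. -/
lemma section_ext_affine (T : X.Modules) {U : X.Opens} (s t : Γ(T, U))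
    (h : ∀ (V : X.affineOpens) (hV : V.1 ≤ U),
      T.presheaf.map (homOfLE hV).op s = T.presheaf.map (homOfLE hV).op t) : s = t := by
  apply section_ext_germ
  intro x hx
  obtain ⟨W, hW, hxW, hWU⟩ := exists_isAffineOpen_mem_and_subset hx
  have hWU' : W ≤ U := hWU
  have h1 := TopCat.Presheaf.germ_res_apply T.presheaf (homOfLE hWU') x hxW s
  have h2 := TopCat.Presheaf.germ_res_apply T.presheaf (homOfLE hWU') x hxW t
  have h3 := h ⟨W, hW⟩ hWU'
  exact h1.symm.trans ((congrArg (fun z => T.presheaf.germ W x hxW z) h3).trans h2)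

/-- `♯ ∘ ♭ = id`, for arbitrary `M`. -/
lemma sharp_flat_gen [K.IsQuasicoherent] (lam : CohB1.tensorMod K M ⟶ Z) :
    sharp (flat lam) = lam := by
  apply QC.hom_ext_tmul
  intro U v μ
  rw [sharp_app_tmul]
  apply section_ext_affine
  intro V hV
  have h1 : Z.presheaf.map (homOfLE hV).op (app ((flat lam).app U μ) le_rfl v) =
      app ((flat lam).app U μ) hV (K.presheaf.map (homOfLE hV).op v) :=
    (app_res ((flat lam).app U μ) le_rfl hV v).symm
  have h2 : app ((flat lam).app U μ) hV (K.presheaf.map (homOfLE hV).op v) =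
      app ((RefHull.homSh K Z).presheaf.map (homOfLE hV).op ((flat lam).app U μ)) le_rfl
        (K.presheaf.map (homOfLE hV).op v) :=
    (app_res_hom hV ((flat lam).app U μ) le_rfl _).symm
  have h3 : (RefHull.homSh K Z).presheaf.map (homOfLE hV).op ((flat lam).app U μ) =
      flatLin lam V (M.presheaf.map (homOfLE hV).op μ) := by
    rw [← QC.app_res (flat lam) hV μ, flat_app]
  rw [h1, h2, h3, app_flatLin, ← QC.tmul_res, QC.app_res]

/-! ### the module on the right -/

/-- `♯` with the module on the right. -/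
def sharpR (ξ : M ⟶ RefHull.homSh K Z) : CohB1.tensorMod M K ⟶ Z :=
  (QC.tensorCommAll M K).hom ≫ sharp ξ

lemma sharpR_app_tmul (ξ : M ⟶ RefHull.homSh K Z) (U : X.Opens) (μ : Γ(M, U)) (v : Γ(K, U)) :
    (sharpR ξ).app U (SecTwist.tmul M K U μ v) = app (ξ.app U μ) le_rfl v := by
  change (sharp ξ).app U ((QC.tensorCommAllHom M K).app U (SecTwist.tmul M K U μ v)) = _
  rw [QC.tensorCommAllHom_app_tmul, sharp_app_tmul]

/-- `♭` with the module on the right. -/
def flatR [K.IsQuasicoherent] (lam : CohB1.tensorMod M K ⟶ Z) : M ⟶ RefHull.homSh K Z :=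
  flat ((QC.tensorCommAll M K).inv ≫ lam)

lemma sharpR_flatR [K.IsQuasicoherent] (lam : CohB1.tensorMod M K ⟶ Z) :
    sharpR (flatR lam) = lam := by
  unfold sharpR flatR
  rw [sharp_flat_gen, Iso.hom_inv_id_assoc]

lemma sharpR_injective [K.IsQuasicoherent] (ξ ξ' : M ⟶ RefHull.homSh K Z)
    (h : sharpR ξ = sharpR ξ') : ξ = ξ' := by
  apply sharp_injective
  exact (cancel_epi (QC.tensorCommAll M K).hom).mp h

lemma flatR_sharpR [K.IsQuasicoherent] (ξ : M ⟶ RefHull.homSh K Z) :
    flatR (sharpR ξ) = ξ :=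
  sharpR_injective _ _ (sharpR_flatR _)

lemma sharpR_comp_left (f : M' ⟶ M) (ξ : M ⟶ RefHull.homSh K Z) :
    sharpR (f ≫ ξ) = KoszTw.tensorMap f (𝟙 K) ≫ sharpR ξ := by
  apply QC.hom_ext_tmul
  intro U μ v
  rw [sharpR_app_tmul]
  change _ = (sharpR ξ).app U ((KoszTw.tensorMap f (𝟙 K)).app U (SecTwist.tmul M' K U μ v))
  rw [KoszTw.tensorMap_tmul, sharpR_app_tmul]
  rfl

lemma sharpR_comp_right (ξ : M ⟶ RefHull.homSh K Z) (g : Z ⟶ Z') :
    sharpR (ξ ≫ HF.postHom K g) = sharpR ξ ≫ g := by
  apply QC.hom_ext_tmul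
  intro U μ v
  rw [sharpR_app_tmul]
  change app (HF.postSec g (ξ.app U μ)) le_rfl v =
    g.app U ((sharpR ξ).app U (SecTwist.tmul M K U μ v))
  rw [HF.app_postSec, sharpR_app_tmul]

lemma sharpR_preHom (u : K ⟶ E) (ζ : M ⟶ RefHull.homSh E Z) :
    sharpR (ζ ≫ preHom u Z) = KoszTw.tensorMap (𝟙 M) u ≫ sharpR ζ := by
  apply QC.hom_ext_tmul
  intro U μ v
  rw [sharpR_app_tmul]
  change app (preSec u (ζ.app U μ)) le_rfl v =
    (sharpR ζ).app U ((KoszTw.tensorMap (𝟙 M) u).app U (SecTwist.tmul M K U μ v))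
  rw [KoszTw.tensorMap_tmul, sharpR_app_tmul, app_preSec]
  rfl

/-! ### the functor `𝓗om(K, -)` -/

lemma stalkMapₗ_id (Z : X.Modules) (x : X) : RefHull.stalkMapₗ (𝟙 Z) x = LinearMap.id := by
  apply LinearMap.ext
  intro v
  obtain ⟨W, hx, m, rfl⟩ := TopCat.Presheaf.exists_germ_eq Z.presheaf v
  rw [RefHull.stalkMapₗ_germ]
  rfl

lemma postSec_id {U : X.Opens} (g : Γ(RefHull.homSh K Z, U)) : HF.postSec (𝟙 Z) g = g := by
  apply hom_ext
  intro x hx
  rw [HF.postSec_val, stalkMapₗ_id]
  exact LinearMap.id_comp _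

lemma postHom_id (K Z : X.Modules) : HF.postHom K (𝟙 Z) = 𝟙 (RefHull.homSh K Z) := by
  apply QC.hom_ext_affine
  intro U g
  exact postSec_id g

/-- the sheaf Hom as a functor of the second variable. -/
def homShF (K : X.Modules) : X.Modules ⥤ X.Modules where
  obj Z := RefHull.homSh K Z
  map g := HF.postHom K g
  map_id Z := postHom_id K Z
  map_comp g g' := HF.postHom_comp K g g'

/-- the tensor-Hom bijection. -/
def homEquivR (K : X.Modules) [K.IsQuasicoherent] (M Z : X.Modules) :
    ((QC.twF K).obj M ⟶ Z) ≃ (M ⟶ (homShF K).obj Z) where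
  toFun lam := flatR (K := K) (M := M) (Z := Z) lam
  invFun ξ := sharpR (K := K) (M := M) (Z := Z) ξ
  left_inv lam := sharpR_flatR (K := K) (M := M) (Z := Z) lam
  right_inv ξ := flatR_sharpR (K := K) (M := M) (Z := Z) ξ

/-- **the tensor-Hom adjunction** for a quasi-coherent module. -/
def adjR (K : X.Modules) [K.IsQuasicoherent] : QC.twF K ⊣ homShF K :=
  Adjunction.mkOfHomEquiv
    { homEquiv := homEquivR K
      homEquiv_naturality_left_symm := by
        intro M' M Z f ξ
        change sharpR (K := K) (f ≫ ξ) = (QC.twF K).map f ≫ sharpR (K := K) ξ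
        rw [QC.twF_map]
        exact sharpR_comp_left f ξ
      homEquiv_naturality_right := by
        intro M Z Z' lam g
        apply sharpR_injective
        change sharpR (flatR (K := K) (M := M) (lam ≫ g)) =
          sharpR (flatR (K := K) (M := M) lam ≫ HF.postHom K g)
        rw [sharpR_flatR, sharpR_comp_right, sharpR_flatR] }

lemma adjR_homEquiv_symm (K : X.Modules) [K.IsQuasicoherent] (M Z : X.Modules)
    (ξ : M ⟶ RefHull.homSh K Z) :
    ((adjR K).homEquiv M Z).symm ξ = sharpR ξ := by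
  rw [adjR, Adjunction.mkOfHomEquiv_homEquiv]
  rfl

attribute [local instance] Groth.Agent.LD.MS.hasSheafHom

/-- **the internal Hom out of a quasi-coherent module is the sheaf Hom.** -/
def homIso (K : X.Modules) [K.IsQuasicoherent] :
    ModSite.sheafHom (O := X.sheaf) K ≅ homShF K :=
  (ModSite.sheafHomAdj (O := X.sheaf) K).rightAdjointUniq (adjR K)

/-- contravariant functoriality of the sheaf Hom, as a natural transformation. -/
def preNat (u : K ⟶ E) : homShF E ⟶ homShF K where
  app Z := preHom u Z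
  naturality Z Z' g := by
    change HF.postHom E g ≫ preHom u Z' = preHom u Z ≫ HF.postHom K g
    apply QC.hom_ext_affine
    intro U s
    change preSec u (HF.postSec g s) = HF.postSec g (preSec u s)
    apply hom_ext
    intro x hx
    rfl

/-- `𝓗om(u, -)` is the conjugate of `- ⊗ u`. -/
lemma conj_app_eq_preHom [K.IsQuasicoherent] [E.IsQuasicoherent] (u : K ⟶ E) (Z : X.Modules) :
    (conjugateEquiv (adjR E) (adjR K) ((ModSite.tensorBi X.sheaf).flip.map u)).app Z =
      preHom u Z := by
  have h := RP.ConjExact.homEquiv_symm_conj (adjR K) (adjR E)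
    ((ModSite.tensorBi X.sheaf).flip.map u) (P := RefHull.homSh E Z) (Q := Z)
    (𝟙 ((homShF E).obj Z))
  have h' := (congrArg (fun t => ((adjR K).homEquiv (RefHull.homSh E Z) Z).symm t)
    (Category.id_comp ((conjugateEquiv (adjR E) (adjR K)
      ((ModSite.tensorBi X.sheaf).flip.map u)).app Z))).symm.trans h
  apply ((adjR K).homEquiv (RefHull.homSh E Z) Z).symm.injective
  refine h'.trans ?_
  rw [adjR_homEquiv_symm, adjR_homEquiv_symm]
  have h2 := sharpR_preHom u (𝟙 (RefHull.homSh E Z))
  have h3 : sharpR (preHom u Z) = KoszTw.tensorMap (𝟙 (RefHull.homSh E Z)) u ≫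
      sharpR (𝟙 (RefHull.homSh E Z)) :=
    (congrArg (fun t => sharpR t) (Category.id_comp (preHom u Z))).symm.trans h2
  refine Eq.trans ?_ h3.symm
  congr 1
  exact KoszTw.tensorBi_obj_map (RefHull.homSh E Z) u

lemma conj_eq_preNat [K.IsQuasicoherent] [E.IsQuasicoherent] (u : K ⟶ E) :
    conjugateEquiv (adjR E) (adjR K) ((ModSite.tensorBi X.sheaf).flip.map u) = preNat u := by
  apply NatTrans.ext
  funext Z
  exact conj_app_eq_preHom u Z

/-- the comparison isomorphisms are compatible with the functoriality in the first variable. -/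
theorem sheafHomMap_comp_homIso [K.IsQuasicoherent] [E.IsQuasicoherent] (u : K ⟶ E) :
    ExtSupp.sheafHomMap (O := X.sheaf) u ≫ (homIso K).hom = (homIso E).hom ≫ preNat u := by
  rw [← conj_eq_preNat]
  have hL := conjugateEquiv_comp (ModSite.sheafHomAdj (O := X.sheaf) E)
    (ModSite.sheafHomAdj (O := X.sheaf) K) (adjR K)
    ((ModSite.tensorBi X.sheaf).flip.map u) (𝟙 _)
  have hR := conjugateEquiv_comp (ModSite.sheafHomAdj (O := X.sheaf) E) (adjR E) (adjR K)
    (𝟙 _) ((ModSite.tensorBi X.sheaf).flip.map u)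
  have hm : (𝟙 _ ≫ (ModSite.tensorBi X.sheaf).flip.map u : QC.twF K ⟶ QC.twF E) =
      (ModSite.tensorBi X.sheaf).flip.map u ≫ 𝟙 _ :=
    (Category.id_comp _).trans (Category.comp_id _).symm
  exact hL.trans ((congrArg (fun t => conjugateEquiv (ModSite.sheafHomAdj (O := X.sheaf) E)
    (adjR K) t) hm).trans hR.symm)

lemma sheafHomMap_app_homIso [K.IsQuasicoherent] [E.IsQuasicoherent] (u : K ⟶ E) (G : X.Modules) :
    (ExtSupp.sheafHomMap (O := X.sheaf) u).app G ≫ (homIso K).hom.app G =
      (homIso E).hom.app G ≫ preHom u G := by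
  have h := congrArg (fun t => t.app G) (sheafHomMap_comp_homIso u)
  exact h

end Groth.Agent.LD.XS
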