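import Groth.Agent.Lib.Lead.XS.Shift
import Groth.Agent.Lib.Lead.PD.HomAdj2
import Groth.Agent.Lib.Lead.QC.SerreSupp
import Groth.Agent.Lib.Lead.QC.Coh
import Groth.Agent.Lib.Lead.QC.Closure
import Groth.Agent.Lib.Lead.QC.LocFree

/-! # Local Ext sheaves of coherent modules: vanishing criteria and coherence

On a locally Noetherian scheme with enough finite locally free modules: `𝓔xt^j(F, G) = 0` iff
`Ext^j(F_x, G_x) = 0` for all `x`; closed points suffice for `G` quasi-coherent on a quasi-compact
scheme; and `𝓔xt^j(F, G)` is coherent for `F`, `G` coherent.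
-/

set_option autoImplicit false
set_option linter.style.haveILetI false
noncomputable section
universe u
open CategoryTheory Limits AlgebraicGeometry TopologicalSpace Opposite Abelian

namespace Groth.Agent.LD.XS

open Groth.Agent.H2.HomSh Groth.Agent.LD Groth.Agent.LD.PD.HA

attribute [-instance] Groth.Agent.LD.QC.stalkModule
attribute [local instance] Groth.Agent.LD.MS.hasSheafHom

variable {X : Scheme.{u}}

/-- every coherent module is a quotient of a finite locally free module. -/
def HasRes (X : Scheme.{u}) : Prop :=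
  ∀ F : X.Modules, Coh.IsCoh F →
    ∃ (L : X.Modules) (π : L ⟶ F), FlatMod.IsFinLocFree L ∧ Epi π

lemma exists_ses [IsLocallyNoetherian X] (hX : HasRes X) (F : X.Modules) (hF : Coh.IsCoh F) :
    ∃ (K L : X.Modules) (ι : K ⟶ L) (π : L ⟶ F) (w : ι ≫ π = 0),
      (ShortComplex.mk ι π w).ShortExact ∧ FlatMod.IsFinLocFree L ∧ Coh.IsCoh K := by
  obtain ⟨L, π, hL, hπ⟩ := hX F hF
  have hLqc := QC.qc_of_isFinLocFree L hL
  haveI := QC.isFinitePresentation_of_isFinLocFree L hL
  have hLft : L.IsFiniteType := inferInstance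
  have hKqc : (kernel π).IsQuasicoherent := QC.qc_kernel π hLqc hF.1
  refine ⟨kernel π, L, kernel.ι π, π, kernel.condition π, ?_, hL,
    ⟨hKqc, QC.isFiniteType_of_mono (kernel.ι π) hKqc hLqc hLft⟩⟩
  exact { exact := ShortComplex.exact_of_f_is_kernel _ (kernelIsKernel π)
          mono_f := inferInstanceAs (Mono (kernel.ι π))
          epi_g := hπ }

/-- all-points version of `epi_preHom_of_closed_points`. -/
theorem epi_preHom_of_stalks {K E : X.Modules} (u : K ⟶ E) (Z : X.Modules)
    (hK : K.IsFinitePresentation) (hE : E.IsFinitePresentation)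
    (h : ∀ x : X, ∀ θ : RefHull.StalkHom K Z x,
      ∃ Θ : RefHull.StalkHom E Z x, θ = Θ.comp (RefHull.stalkMapₗ u x)) :
    Epi (preHom u Z) := by
  rw [Groth.Agent.H4.FlatPull1.epi_iff_stalk]
  intro x
  rw [ModuleCat.epi_iff_surjective]
  intro g
  obtain ⟨Θ, hΘ⟩ := h x (RefHull.evalStalk K Z x g)
  obtain ⟨g', hg'⟩ := evalStalk_surjective (G := Z) hE x Θ
  refine ⟨g', ?_⟩
  rw [stalkFunctor_map_eq]
  apply (evalStalk_bijective (G := Z) hK x).1
  rw [evalStalk_preHom, hg', ← hΘ]

variable [HasInjectiveResolutions (ModSite.Mod X.sheaf)]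

/-- **vanishing of the local Ext sheaf gives vanishing of the Ext of the stalks.** -/
theorem ext_stalk_of_isZero [IsLocallyNoetherian X] (hX : HasRes X) :
    ∀ (j : ℕ) (F : X.Modules), Coh.IsCoh F → ∀ (G : X.Modules),
      IsZero ((ModSite.extSh (O := X.sheaf) F j).obj G) → ∀ x : X,
      Subsingleton (Ext ((DerSch.stalkFunctor X x).obj F)
        ((DerSch.stalkFunctor X x).obj G) j) := by
  intro j
  cases j with
  | zero =>
    intro F hF G hz x
    haveI := hF.1
    have hfp := QC.isFinitePresentation_of_qc_ft F hF.1 hF.2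
    have hz' : IsZero (RefHull.homSh F G) := IsZero.of_iso hz (e0 F G)
    rw [subsingleton_ext_zero_stalk_iff]
    exact fun θ => stalkHom_eq_zero_of_isZero F G hfp hz' x θ
  | succ j =>
    induction j with
    | zero =>
      intro F hF G hz x
      obtain ⟨K, L, ι, π, w, hS, hL, hK⟩ := exists_ses hX F hF
      haveI : K.IsQuasicoherent := hK.1
      haveI : L.IsQuasicoherent := QC.qc_of_isFinLocFree L hL
      have hKfp := QC.isFinitePresentation_of_qc_ft K hK.1 hK.2
      obtain ⟨e⟩ := nonempty_cokernel_iso (S := ShortComplex.mk ι π w) hS hL G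
      have hz' : IsZero (cokernel (preHom ι G)) := IsZero.of_iso hz e
      have hepi : Epi (preHom ι G) := Preadditive.epi_of_isZero_cokernel _ hz'
      refine (subsingleton_ext_one_stalk_iff hS hL G x).mpr ?_
      exact fun θ => stalk_extend_of_epi_preHom ι G hKfp hepi x θ
    | succ j ih =>
      intro F hF G hz x
      obtain ⟨K, L, ι, π, w, hS, hL, hK⟩ := exists_ses hX F hF
      obtain ⟨e⟩ := nonempty_shift_iso (S := ShortComplex.mk ι π w) hS hL G j
      have hz' : IsZero ((ModSite.extSh (O := X.sheaf) K (j + 1)).obj G) := IsZero.of_iso hz e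
      have h1 := ih K hK G hz' x
      exact (subsingleton_ext_succ_stalk_iff hS hL x _ j).mpr h1

/-- **vanishing of the Ext of the stalks at the closed points gives vanishing of the local Ext
sheaf**, for a quasi-coherent second variable on a quasi-compact scheme. -/
theorem isZero_of_ext_closed_stalks [IsLocallyNoetherian X] [CompactSpace X] (hX : HasRes X) :
    ∀ (j : ℕ) (F : X.Modules), Coh.IsCoh F → ∀ (G : X.Modules) [G.IsQuasicoherent],
      (∀ x : X, IsClosed ({x} : Set X) →
        Subsingleton (Ext ((DerSch.stalkFunctor X x).obj F)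
          ((DerSch.stalkFunctor X x).obj G) j)) →
      IsZero ((ModSite.extSh (O := X.sheaf) F j).obj G) := by
  intro j
  cases j with
  | zero =>
    intro F hF G _ h
    haveI := hF.1
    have hfp := QC.isFinitePresentation_of_qc_ft F hF.1 hF.2
    have hz : IsZero (RefHull.homSh F G) :=
      isZero_homSh_of_closed_points F G hfp
        (fun x hx θ => (subsingleton_ext_zero_stalk_iff F G x).mp (h x hx) θ)
    exact IsZero.of_iso hz (e0 F G).symm
  | succ j =>
    induction j with
    | zero =>
      intro F hF G _ h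
      obtain ⟨K, L, ι, π, w, hS, hL, hK⟩ := exists_ses hX F hF
      haveI : K.IsQuasicoherent := hK.1
      haveI : L.IsQuasicoherent := QC.qc_of_isFinLocFree L hL
      have hKfp := QC.isFinitePresentation_of_qc_ft K hK.1 hK.2
      have hLfp := QC.isFinitePresentation_of_isFinLocFree L hL
      obtain ⟨e⟩ := nonempty_cokernel_iso (S := ShortComplex.mk ι π w) hS hL G
      haveI hepi : Epi (preHom ι G) :=
        epi_preHom_of_closed_points ι G hKfp hLfp
          (fun x hx => (subsingleton_ext_one_stalk_iff hS hL G x).mp (h x hx))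
      exact IsZero.of_iso (isZero_cokernel_of_epi (preHom ι G)) e.symm
    | succ j ih =>
      intro F hF G _ h
      obtain ⟨K, L, ι, π, w, hS, hL, hK⟩ := exists_ses hX F hF
      obtain ⟨e⟩ := nonempty_shift_iso (S := ShortComplex.mk ι π w) hS hL G j
      have h1 := ih K hK G
        (fun x hx => (subsingleton_ext_succ_stalk_iff hS hL x _ j).mp (h x hx))
      exact IsZero.of_iso h1 e.symm

/-- **the local Ext sheaves of coherent modules are coherent.** -/
theorem isCoh_extSh [IsLocallyNoetherian X] (hX : HasRes X) :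
    ∀ (j : ℕ) (F : X.Modules), Coh.IsCoh F → ∀ (G : X.Modules), Coh.IsCoh G →
      Coh.IsCoh ((ModSite.extSh (O := X.sheaf) F j).obj G) := by
  intro j
  cases j with
  | zero =>
    intro F hF G hG
    haveI := hF.1
    exact QC.isCoh_of_iso (e0 F G) (isCoh_homSh hF hG)
  | succ j =>
    induction j with
    | zero =>
      intro F hF G hG
      obtain ⟨K, L, ι, π, w, hS, hL, hK⟩ := exists_ses hX F hF
      haveI : K.IsQuasicoherent := hK.1
      haveI : L.IsQuasicoherent := QC.qc_of_isFinLocFree L hL
      haveI := QC.isFinitePresentation_of_isFinLocFree L hL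
      have hLc : Coh.IsCoh L := ⟨inferInstance, inferInstance⟩
      obtain ⟨e⟩ := nonempty_cokernel_iso (S := ShortComplex.mk ι π w) hS hL G
      have h1 := isCoh_homSh hLc hG
      have h2 := isCoh_homSh hK hG
      have hq : (cokernel (preHom ι G)).IsQuasicoherent := QC.qc_cokernel _ h1.1 h2.1
      have hc : Coh.IsCoh (cokernel (preHom ι G)) :=
        ⟨hq, QC.isFiniteType_of_epi (cokernel.π (preHom ι G)) h2.1 hq h2.2⟩
      exact QC.isCoh_of_iso e hc
    | succ j ih =>
      intro F hF G hG
      obtain ⟨K, L, ι, π, w, hS, hL, hK⟩ := exists_ses hX F hF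
      obtain ⟨e⟩ := nonempty_shift_iso (S := ShortComplex.mk ι π w) hS hL G j
      exact QC.isCoh_of_iso e (ih K hK G hG)

end Groth.Agent.LD.XS
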