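import Groth.Agent.Lib.Lead.XS.Vanish
import Groth.Agent.Lib.Lead.QC.TensorFormulas
import Groth.Agent.Lib.Lead.QC.SubExtRestrict
import Groth.Agent.Lib.Lead.QCQS.RestrictOI
import Groth.Agent.Lib.Lead.QCQS.Base
import Groth.Agent.Lib.Lead.EZ.PostcompNat
import Groth.Agent.Lib.Lead.SC.MapResNat
import Groth.Agent.Lib.Lead.EZ.DerivedIso
import Groth.Agent.H4.GenSec
import Groth.Agent.H4.PSch4

/-! # Restriction of the sheaf Hom and of the local Ext sheaves to an open subscheme

For `F` quasi-coherent on `X` and an open immersion `j : U ⟶ X`: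
`𝓗om(F, G)|_U ≅ 𝓗om(F|_U, G|_U)` naturally in `G`, hence `𝓔xt^q(F, G)|_U ≅ 𝓔xt^q(F|_U, G|_U)`.
Consequence: the local Ext sheaves of coherent modules on a locally Noetherian scheme are coherent.
-/

set_option autoImplicit false
set_option linter.style.haveILetI false
noncomputable section
universe u
open CategoryTheory Limits AlgebraicGeometry TopologicalSpace Opposite

namespace Groth.Agent.LD.XS

open Groth.Agent.H2.HomSh Groth.Agent.LD Groth.Agent.LD.PD.HA

attribute [-instance] Groth.Agent.LD.QC.stalkModule

variable {U X : Scheme.{u}} (j : U ⟶ X) [IsOpenImmersion j] (F G : X.Modules)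

/-- evaluation `𝓗om(F, G) ⊗ F ⟶ G`. -/
def evHom (F G : X.Modules) : CohB1.tensorMod (RefHull.homSh F G) F ⟶ G :=
  sharpR (𝟙 (RefHull.homSh F G))

lemma evHom_app_tmul (V : X.Opens) (g : Γ(RefHull.homSh F G, V)) (m : Γ(F, V)) :
    (evHom F G).app V (SecTwist.tmul _ F V g m) = app g le_rfl m := by
  unfold evHom
  rw [sharpR_app_tmul]
  rfl

/-- the comparison `𝓗om(F, G)|_U ⟶ 𝓗om(F|_U, G|_U)`. -/
def restrHom [F.IsQuasicoherent] :
    (RefHull.homSh F G).restrict j ⟶ RefHull.homSh (F.restrict j) (G.restrict j) :=
  haveI := QC.qc_restrict j F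
  flatR (K := F.restrict j) (QC.restrictTensorHom j (RefHull.homSh F G) F ≫
    (Scheme.Modules.restrictFunctor j).map (evHom F G))

lemma app_restrHom [F.IsQuasicoherent] (W : U.Opens)
    (g : Γ((RefHull.homSh F G).restrict j, W)) (m : Γ(F.restrict j, W)) :
    app ((restrHom j F G).app W g) le_rfl m =
      app (show Γ(RefHull.homSh F G, j ''ᵁ W) from g) le_rfl (show Γ(F, j ''ᵁ W) from m) := by
  haveI := QC.qc_restrict j F
  have h := sharpR_app_tmul (restrHom j F G) W g m
  refine h.symm.trans ?_
  have h2 : sharpR (restrHom j F G) = QC.restrictTensorHom j (RefHull.homSh F G) F ≫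
      (Scheme.Modules.restrictFunctor j).map (evHom F G) := by
    unfold restrHom
    exact sharpR_flatR _
  rw [h2]
  change (evHom F G).app (j ''ᵁ W) ((QC.restrictTensorHom j (RefHull.homSh F G) F).app W
    (SecTwist.tmul _ _ W g m)) = _
  rw [QC.restrictTensorHom_tmul]
  exact evHom_app_tmul F G (j ''ᵁ W) g m

lemma restrHom_bijective [F.IsQuasicoherent] (W : U.Opens) (hW : IsAffineOpen W) :
    Function.Bijective ((restrHom j F G).app W) := by
  haveI := QC.qc_restrict j F
  have hW' : IsAffineOpen (j ''ᵁ W) := hW.image_of_isOpenImmersion j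
  constructor
  · intro g g' h
    have key : (show Γ(RefHull.homSh F G, j ''ᵁ W) from g) =
        (show Γ(RefHull.homSh F G, j ''ᵁ W) from g') := by
      apply appLin_injective hW'
      apply LinearMap.ext
      intro m
      rw [appLin_apply, appLin_apply]
      have h1 := app_restrHom j F G W g m
      have h2 := app_restrHom j F G W g' m
      exact h1.symm.trans ((congrArg (fun t => app t le_rfl (show Γ(F.restrict j, W) from m)) h).trans h2)
    exact key
  · intro t
    let T := appLin t (le_refl W)
    let T' : Γ(F, j ''ᵁ W) →ₗ[Γ(X, j ''ᵁ W)] Γ(G, j ''ᵁ W) :=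
      { toFun := fun m => T m
        map_add' := fun a b => T.map_add a b
        map_smul' := fun r m => by
          have hr : (j.appIso W).inv.hom ((j.appIso W).hom.hom r) = r := by
            change ((j.appIso W).hom ≫ (j.appIso W).inv).hom r = r
            rw [Iso.hom_inv_id]
            rfl
          have h1 : (r • m : Γ(F, j ''ᵁ W)) =
              (((j.appIso W).hom.hom r) • (show Γ(F.restrict j, W) from m) :
                Γ(F.restrict j, W)) := by
            change r • m = (j.appIso W).inv.hom ((j.appIso W).hom.hom r) • m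
            rw [hr]
          have h2 : ∀ n : Γ(G, j ''ᵁ W),
              (((j.appIso W).hom.hom r) • (show Γ(G.restrict j, W) from n) :
                Γ(G.restrict j, W)) = (r • n : Γ(G, j ''ᵁ W)) := by
            intro n
            change (j.appIso W).inv.hom ((j.appIso W).hom.hom r) • n = r • n
            rw [hr]
          exact (congrArg T h1).trans ((T.map_smul _ _).trans (h2 _)) }
    refine ⟨(show Γ((RefHull.homSh F G).restrict j, W) from ofLinear hW' T'), ?_⟩
    apply appLin_injective hW
    apply LinearMap.ext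
    intro m
    rw [appLin_apply, appLin_apply, app_restrHom]
    have h3 := congrArg (fun L => L (show Γ(F, j ''ᵁ W) from m)) (appLin_ofLinear hW' T')
    exact h3

instance isIso_restrHom [F.IsQuasicoherent] : IsIso (restrHom j F G) :=
  QC.isIso_of_bijective_affine _ (fun W => restrHom_bijective j F G W.1 W.2)

lemma restrHom_natural [F.IsQuasicoherent] {G G' : X.Modules} (φ : G ⟶ G') :
    (Scheme.Modules.restrictFunctor j).map (HF.postHom F φ) ≫ restrHom j F G' =
      restrHom j F G ≫ HF.postHom (F.restrict j) ((Scheme.Modules.restrictFunctor j).map φ) := by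
  haveI := QC.qc_restrict j F
  apply QC.hom_ext_affine
  intro W g
  apply appLin_injective W.2
  apply LinearMap.ext
  intro m
  rw [appLin_apply, appLin_apply]
  change app ((restrHom j F G').app W.1 (HF.postSec φ (show Γ(RefHull.homSh F G, j ''ᵁ W.1) from g)))
      le_rfl m =
    app (HF.postSec ((Scheme.Modules.restrictFunctor j).map φ) ((restrHom j F G).app W.1 g))
      le_rfl m
  rw [app_restrHom, HF.app_postSec, HF.app_postSec, app_restrHom]
  rfl

/-- **restriction of the sheaf Hom to an open subscheme**, as functors of the second variable. -/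
def homShRestrIso [F.IsQuasicoherent] :
    homShF F ⋙ Scheme.Modules.restrictFunctor j ≅
      Scheme.Modules.restrictFunctor j ⋙ homShF (F.restrict j) :=
  NatIso.ofComponents (fun G => @asIso _ _ _ _ (restrHom j F G) (isIso_restrHom j F G))
    (fun {G G'} φ => restrHom_natural j F φ)

/-- every coherent module on an affine scheme is a quotient of a finite free module. -/
lemma hasRes_of_isAffine (X : Scheme.{u}) [IsAffine X] : HasRes X := by
  intro F hF
  haveI := hF.1
  haveI : Module.Finite Γ(X, ⊤) Γ(F, ⊤) :=
    QC.finite_sections_of_isFiniteType F hF.2 (isAffineOpen_top X)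
  obtain ⟨n, t, ht⟩ := Module.Finite.exists_fin (R := Γ(X, ⊤)) (M := Γ(F, ⊤))
  exact ⟨_, QC.homOfSections F t, QC.isFinLocFree_freeMod X n,
    Groth.Agent.H4.GenSec.epi_homOfSections_of_isAffine F t ht⟩

section Ext

attribute [local instance] Groth.Agent.LD.MS.hasSheafHom

/-- restriction to an open subscheme, between the categories of modules on the sites. -/
def Rj : ModSite.Mod X.sheaf ⥤ ModSite.Mod U.sheaf := Scheme.Modules.restrictFunctor j

instance : (Rj j).Additive := inferInstanceAs ((Scheme.Modules.restrictFunctor j).Additive)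
instance : PreservesFiniteLimits (Rj j) :=
  inferInstanceAs (PreservesFiniteLimits (Scheme.Modules.restrictFunctor j))
instance : PreservesFiniteColimits (Rj j) :=
  inferInstanceAs (PreservesFiniteColimits (Scheme.Modules.restrictFunctor j))
instance : (Rj j).PreservesInjectiveObjects :=
  inferInstanceAs ((Scheme.Modules.restrictFunctor j).PreservesInjectiveObjects)
instance : (Rj j).PreservesEpimorphisms := inferInstance
instance : (Rj j).PreservesHomology := Functor.preservesHomology_of_preservesEpis_and_kernels _

variable [HasInjectiveResolutions (ModSite.Mod X.sheaf)]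
  [HasInjectiveResolutions (ModSite.Mod U.sheaf)]

/-- restriction of the internal Hom to an open subscheme. -/
def sheafHomRestrIsoSch [F.IsQuasicoherent] :
    ModSite.sheafHom (O := X.sheaf) F ⋙ Rj j ≅
      Rj j ⋙ ModSite.sheafHom (O := U.sheaf) (F.restrict j) :=
  haveI := QC.qc_restrict j F
  Functor.isoWhiskerRight (homIso F) (Rj j) ≪≫ homShRestrIso j F ≪≫
    Functor.isoWhiskerLeft (Rj j) (homIso (F.restrict j)).symm

/-- **restriction of the local Ext sheaves to an open subscheme.** -/
def extShRestrIsoSch [F.IsQuasicoherent] (q : ℕ) :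
    ModSite.extSh (O := X.sheaf) F q ⋙ Rj j ≅
      Rj j ⋙ ModSite.extSh (O := U.sheaf) (F.restrict j) q :=
  (EZ.rightDerivedPostcompNatIso (ModSite.sheafHom (O := X.sheaf) F) (Rj j) q).symm ≪≫
    EZ.rightDerivedIsoOfIso (sheafHomRestrIsoSch j F) q ≪≫
    (SC.rightDerivedCompNatIso (Rj j)
      (ModSite.sheafHom (O := U.sheaf) (F.restrict j))
      (Rj j ⋙ ModSite.sheafHom (O := U.sheaf) (F.restrict j))
      (Iso.refl _) q).symm

/-- the local Ext sheaves restricted to an open subscheme, objectwise. -/
def extShRestrObjIso [F.IsQuasicoherent] (q : ℕ) (G : X.Modules) :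
    (Scheme.Modules.restrictFunctor j).obj ((ModSite.extSh (O := X.sheaf) F q).obj G) ≅
      (ModSite.extSh (O := U.sheaf) (F.restrict j) q).obj (G.restrict j) :=
  (extShRestrIsoSch j F q).app G

end Ext

end Groth.Agent.LD.XS
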