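import Groth.Agent.Lib.Lead.XS.LeftHom
import Groth.Agent.Lib.Helper2.FormalModI
import Groth.Agent.Lib.Lead.QC.FinPres

/-!
# The sheaf Hom of associated modules on an affine scheme

`𝓗om(M~, N~) ≅ Hom_A(M, N)~` on `Spec A` for `M` finitely presented.
-/

set_option autoImplicit false
set_option linter.style.haveILetI false
noncomputable section
universe u
open CategoryTheory Limits AlgebraicGeometry TopologicalSpace Opposite

namespace Groth.Agent.LD.XS

open Groth.Agent.H2.HomSh Groth.Agent.LD

attribute [-instance] Groth.Agent.LD.QC.stalkModule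

section Smul
variable {R : CommRingCat.{u}}

/-- on `Spec R`, the action of a global function is the action of the corresponding element of
`R`. -/
lemma smul_eq_hom_smul (P : (Spec R).Modules) (g : Γ(Spec R, ⊤)) (x : Γ(P, ⊤)) :
    g • x = ((Scheme.ΓSpecIso R).hom g : R) • x := by
  have h1 : (Scheme.ΓSpecIso R).inv ((Scheme.ΓSpecIso R).hom g) = g :=
    Iso.hom_inv_id_apply (Scheme.ΓSpecIso R) g
  have h2 : ((Spec R).presheaf.map (⊤ : (Spec R).Opens).leTop.op) g = g := by
    have h0 : ((⊤ : (Spec R).Opens).leTop).op = 𝟙 (op ⊤) := rfl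
    rw [h0, CategoryTheory.Functor.map_id]
    rfl
  calc g • x = ((Spec R).presheaf.map (⊤ : (Spec R).Opens).leTop.op
        ((Scheme.ΓSpecIso R).inv ((Scheme.ΓSpecIso R).hom g))) • x := by rw [h1, h2]
    _ = ((Scheme.ΓSpecIso R).hom g : R) • x := (Scheme.Modules.smul_Spec_def _ x).symm

lemma hom_smul_eq (P : (Spec R).Modules) (a : R) (x : Γ(P, ⊤)) :
    a • x = ((Scheme.ΓSpecIso R).inv a : Γ(Spec R, ⊤)) • x := by
  have h : ((Scheme.ΓSpecIso R).hom ((Scheme.ΓSpecIso R).inv a) : R) = a :=
    Iso.inv_hom_id_apply (Scheme.ΓSpecIso R) a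
  rw [smul_eq_hom_smul, h]

end Smul

variable (A : Type u) [CommRing A] (M N : Type u) [AddCommGroup M] [Module A M]
  [AddCommGroup N] [Module A N]

/-- `M ≃ Γ(M~, ⊤)`. -/
def tEquiv : M ≃+ Γ(tilde (R := CommRingCat.of A) (ModuleCat.of A M), ⊤) :=
  (tilde.isoTop (R := CommRingCat.of A) (ModuleCat.of A M)).toLinearEquiv.toAddEquiv

lemma tEquiv_smul (a : A) (m : M) :
    tEquiv A M (a • m) =
      ((Scheme.ΓSpecIso (CommRingCat.of A)).inv a : Γ(Spec (CommRingCat.of A), ⊤)) •
        tEquiv A M m := by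
  have h := (tilde.isoTop (R := CommRingCat.of A) (ModuleCat.of A M)).toLinearEquiv.map_smul a m
  exact h.trans (hom_smul_eq (R := CommRingCat.of A) _ a _)

lemma tEquiv_symm_smul (g : Γ(Spec (CommRingCat.of A), ⊤))
    (x : Γ(tilde (R := CommRingCat.of A) (ModuleCat.of A M), ⊤)) :
    (tEquiv A M).symm (g • x) =
      ((Scheme.ΓSpecIso (CommRingCat.of A)).hom g : A) • (tEquiv A M).symm x := by
  apply (tEquiv A M).injective
  rw [AddEquiv.apply_symm_apply, tEquiv_smul, AddEquiv.apply_symm_apply]
  have h1 : (Scheme.ΓSpecIso (CommRingCat.of A)).inv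
      ((Scheme.ΓSpecIso (CommRingCat.of A)).hom g) = g :=
    Iso.hom_inv_id_apply (Scheme.ΓSpecIso (CommRingCat.of A)) g
  rw [h1]

/-- the map on global sections induced by a linear map. -/
def secLin (φ : M →ₗ[A] N) :
    Γ(tilde (R := CommRingCat.of A) (ModuleCat.of A M), ⊤) →ₗ[Γ(Spec (CommRingCat.of A), ⊤)]
      Γ(tilde (R := CommRingCat.of A) (ModuleCat.of A N), ⊤) where
  toFun x := tEquiv A N (φ ((tEquiv A M).symm x))
  map_add' x y := by rw [map_add, map_add, map_add]
  map_smul' g x := by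
    change tEquiv A N (φ ((tEquiv A M).symm (g • x))) =
      g • tEquiv A N (φ ((tEquiv A M).symm x))
    rw [tEquiv_symm_smul, LinearMap.map_smul, tEquiv_smul]
    have h1 : (Scheme.ΓSpecIso (CommRingCat.of A)).inv
        ((Scheme.ΓSpecIso (CommRingCat.of A)).hom g) = g :=
      Iso.hom_inv_id_apply (Scheme.ΓSpecIso (CommRingCat.of A)) g
    rw [h1]

lemma secLin_apply (φ : M →ₗ[A] N)
    (x : Γ(tilde (R := CommRingCat.of A) (ModuleCat.of A M), ⊤)) :
    secLin A M N φ x = tEquiv A N (φ ((tEquiv A M).symm x)) := rfl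

lemma secLin_add (φ φ' : M →ₗ[A] N) :
    secLin A M N (φ + φ') = secLin A M N φ + secLin A M N φ' := by
  apply LinearMap.ext
  intro x
  rw [LinearMap.add_apply, secLin_apply, secLin_apply, secLin_apply, LinearMap.add_apply,
    map_add]

lemma secLin_smul (b : A) (φ : M →ₗ[A] N) :
    secLin A M N (b • φ) =
      ((Scheme.ΓSpecIso (CommRingCat.of A)).inv b : Γ(Spec (CommRingCat.of A), ⊤)) •
        secLin A M N φ := by
  apply LinearMap.ext
  intro x
  rw [LinearMap.smul_apply, secLin_apply, secLin_apply, LinearMap.smul_apply, tEquiv_smul]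

lemma secLin_injective : Function.Injective (secLin A M N) := by
  intro φ φ' h
  apply LinearMap.ext
  intro m
  have h1 := LinearMap.congr_fun h (tEquiv A M m)
  rw [secLin_apply, secLin_apply, AddEquiv.symm_apply_apply] at h1
  exact (tEquiv A N).injective h1

lemma secLin_surjective : Function.Surjective (secLin A M N) := by
  intro ψ
  refine ⟨{ toFun := fun m => (tEquiv A N).symm (ψ (tEquiv A M m))
            map_add' := fun m m' => by rw [map_add, map_add, map_add]
            map_smul' := fun a m => ?_ }, ?_⟩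
  · change (tEquiv A N).symm (ψ (tEquiv A M (a • m))) = a • (tEquiv A N).symm (ψ (tEquiv A M m))
    rw [tEquiv_smul, LinearMap.map_smul, tEquiv_symm_smul]
    have h : ((Scheme.ΓSpecIso (CommRingCat.of A)).hom
        ((Scheme.ΓSpecIso (CommRingCat.of A)).inv a) : A) = a :=
      Iso.inv_hom_id_apply (Scheme.ΓSpecIso (CommRingCat.of A)) a
    rw [h]
  · apply LinearMap.ext
    intro x
    rw [secLin_apply]
    change tEquiv A N ((tEquiv A N).symm (ψ (tEquiv A M ((tEquiv A M).symm x)))) = ψ x
    rw [AddEquiv.apply_symm_apply, AddEquiv.apply_symm_apply]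

/-- **`𝓗om(M~, N~) ≅ Hom_A(M, N)~`** for `M` finitely presented. -/
theorem nonempty_homSh_tilde_iso [Module.FinitePresentation A M] :
    Nonempty (RefHull.homSh (tilde (R := CommRingCat.of A) (ModuleCat.of A M))
        (tilde (R := CommRingCat.of A) (ModuleCat.of A N)) ≅
      tilde (R := CommRingCat.of A) (ModuleCat.of A (M →ₗ[A] N))) := by
  have hFP : (tilde (R := CommRingCat.of A) (ModuleCat.of A M)).IsFinitePresentation :=
    (QC.spec_isFinitePresentation_tilde_iff (R := CommRingCat.of A) (ModuleCat.of A M)).mpr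
      ‹Module.FinitePresentation A M›
  haveI : (RefHull.homSh (tilde (R := CommRingCat.of A) (ModuleCat.of A M))
      (tilde (R := CommRingCat.of A) (ModuleCat.of A N))).IsQuasicoherent := qc_homSh hFP
  have hU : IsAffineOpen (⊤ : (Spec (CommRingCat.of A)).Opens) :=
    isAffineOpen_top (Spec (CommRingCat.of A))
  let E := secEquiv (F := tilde (R := CommRingCat.of A) (ModuleCat.of A M))
    (G := tilde (R := CommRingCat.of A) (ModuleCat.of A N)) hU
  let q : (ModuleCat.of A (M →ₗ[A] N) : ModuleCat.{u} (CommRingCat.of A)) →+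
      Γ(RefHull.homSh (tilde (R := CommRingCat.of A) (ModuleCat.of A M))
        (tilde (R := CommRingCat.of A) (ModuleCat.of A N)), ⊤) :=
    AddMonoidHom.mk' (fun φ : M →ₗ[A] N => E.symm (secLin A M N φ))
      (fun φ φ' => by rw [secLin_add, map_add])
  refine Groth.Agent.H2.FormalMod.nonempty_iso_tilde (B := CommRingCat.of A)
    (ModuleCat.of A (M →ₗ[A] N)) _ q ?_ ?_
  · intro b φ
    change E.symm (secLin A M N (b • φ)) = _ • E.symm (secLin A M N φ)
    rw [secLin_smul, map_smul]
  · constructor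
    · intro φ φ' h
      exact secLin_injective A M N (E.symm.injective h)
    · intro s
      obtain ⟨φ, hφ⟩ := secLin_surjective A M N (E s)
      refine ⟨φ, ?_⟩
      change E.symm (secLin A M N φ) = s
      rw [hφ, LinearEquiv.symm_apply_apply]

/-- **S9503.** -/
theorem s9503 [Module.FinitePresentation A M]
    [DCoh.HasSheafHom (tilde (R := CommRingCat.of A) (ModuleCat.of A M))] :
    Nonempty ((DCoh.sheafHom (tilde (R := CommRingCat.of A) (ModuleCat.of A M))).obj
        (tilde (R := CommRingCat.of A) (ModuleCat.of A N)) ≅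
      tilde (R := CommRingCat.of A) (ModuleCat.of A (M →ₗ[A] N))) := by
  obtain ⟨e⟩ := nonempty_homSh_tilde_iso A M N
  exact ⟨(dcohHomIso (tilde (R := CommRingCat.of A) (ModuleCat.of A M))).app
    (tilde (R := CommRingCat.of A) (ModuleCat.of A N)) ≪≫ e⟩

end Groth.Agent.LD.XS
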