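import Groth.Agent.Lib.Lead.XS.DualIso
import Groth.Agent.Lib.Lead.EZ.PostcompNat
import Groth.Agent.Lib.Lead.EZ.DerivedIso
import Groth.Agent.Lib.Lead.EZ.ExtAdj
import Groth.Agent.Lib.Lead.QC.TwistExt
import Groth.Agent.Lib.Lead.QC.ProjFormulaLF
import Groth.Agent.Lib.Lead.QCQS.Base

/-! # Ext sheaves and Ext groups of a tensor product with a finite locally free module

`𝓔xt^q(P, G) ≅ 𝓔xt^q(F, G) ⊗ L^∨` whenever `- ⊗ P ≅ (- ⊗ L) ⊗ F`, and
`Ext^i(F ⊗ E, G) ≃ Ext^i(F, G ⊗ E^∨)`, for `L`, `E` finite locally free.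
-/

set_option autoImplicit false
set_option linter.style.haveILetI false
noncomputable section
universe u
open CategoryTheory Limits AlgebraicGeometry TopologicalSpace Opposite

namespace Groth.Agent.LD.XS.DI

open Groth.Agent.H2.HomSh Groth.Agent.LD

attribute [-instance] Groth.Agent.LD.QC.stalkModule
attribute [local instance] Groth.Agent.LD.MS.hasSheafHom

variable {X : Scheme.{u}}

/-- `- ⊗ K`, between the categories of modules on the site. -/
def TwM (K : X.Modules) : ModSite.Mod X.sheaf ⥤ ModSite.Mod X.sheaf := QC.twF K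

instance (K : X.Modules) : (TwM K).Additive := inferInstanceAs ((QC.twF K).Additive)
instance (K : X.Modules) : PreservesFiniteColimits (TwM K) :=
  inferInstanceAs (PreservesFiniteColimits (QC.twF K))
instance (K : X.Modules) : (TwM K).PreservesEpimorphisms := inferInstance

section
variable (L : X.Modules) [L.IsQuasicoherent] (hL : FlatMod.IsFinLocFree L)

/-- the dual in the adjoint functor model and in the explicit model. -/
def dualIso : (ModSite.sheafHom (O := X.sheaf) L).obj (Coh.structureModule X) ≅ Dl L :=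
  (homIso L).app (QC.unitMod X)

/-- `𝓗om(L, -) ≅ - ⊗ L^∨`. -/
def sheafHomTwIso : ModSite.sheafHom (O := X.sheaf) L ≅ QC.twF (Dl L) :=
  homIso L ≪≫ (thetaIso L hL).symm

include hL in
lemma preservesFiniteLimits_twF_dual : PreservesFiniteLimits (QC.twF (Dl L)) := by
  haveI : PreservesLimitsOfSize.{0, 0} (homShF L) := (adjR L).rightAdjoint_preservesLimits
  haveI : PreservesFiniteLimits (homShF L) :=
    PreservesLimitsOfSize.preservesFiniteLimits.{0, 0} _
  exact preservesFiniteLimits_of_natIso (thetaIso L hL).symm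

include hL in
/-- **`𝓔xt^q(P, G) ≅ 𝓔xt^q(F, G) ⊗ L^∨`** when `- ⊗ P ≅ (- ⊗ L) ⊗ F`. -/
theorem nonempty_extSh_iso [HasInjectiveResolutions (ModSite.Mod X.sheaf)] (P F G : X.Modules)
    (iso : QC.twF L ⋙ QC.twF F ≅ QC.twF P) (q : ℕ) :
    Nonempty ((ModSite.extSh (O := X.sheaf) P q).obj G ≅
      CohB1.tensorMod ((ModSite.extSh (O := X.sheaf) F q).obj G)
        ((ModSite.sheafHom (O := X.sheaf) L).obj (Coh.structureModule X))) := by
  haveI : PreservesFiniteLimits (TwM (Dl L)) := preservesFiniteLimits_twF_dual L hL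
  haveI : (TwM (Dl L)).PreservesHomology :=
    Functor.preservesHomology_of_preservesEpis_and_kernels _
  let adj' : QC.twF P ⊣
      ModSite.sheafHom (O := X.sheaf) F ⋙ ModSite.sheafHom (O := X.sheaf) L :=
    ((ModSite.sheafHomAdj (O := X.sheaf) L).comp
      (ModSite.sheafHomAdj (O := X.sheaf) F)).ofNatIsoLeft iso
  let e1 : ModSite.sheafHom (O := X.sheaf) P ≅
      ModSite.sheafHom (O := X.sheaf) F ⋙ ModSite.sheafHom (O := X.sheaf) L :=
    (ModSite.sheafHomAdj (O := X.sheaf) P).rightAdjointUniq adj'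
  let e2 : ModSite.sheafHom (O := X.sheaf) F ⋙ ModSite.sheafHom (O := X.sheaf) L ≅
      ModSite.sheafHom (O := X.sheaf) F ⋙ TwM (Dl L) :=
    Functor.isoWhiskerLeft _ (sheafHomTwIso L hL)
  let i1 := EZ.rightDerivedIsoOfIso (e1 ≪≫ e2) q
  let i2 := EZ.rightDerivedPostcompNatIso (ModSite.sheafHom (O := X.sheaf) F) (TwM (Dl L)) q
  let A : X.Modules := (ModSite.extSh (O := X.sheaf) F q).obj G
  let j1 : (ModSite.extSh (O := X.sheaf) P q).obj G ≅ (TwM (Dl L)).obj A := (i1 ≪≫ i2).app G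
  let j2 : (TwM (Dl L)).obj A ≅ CohB1.tensorMod A (Dl L) := Iso.refl _
  let j3 : CohB1.tensorMod A (Dl L) ≅ CohB1.tensorMod A
      ((ModSite.sheafHom (O := X.sheaf) L).obj (Coh.structureModule X)) :=
    ((ModSite.tensorBi X.sheaf).obj A).mapIso (dualIso L).symm
  exact ⟨j1 ≪≫ j2 ≪≫ j3⟩

include hL in
/-- **`Ext^i(F ⊗ E, G) ≃ Ext^i(F, G ⊗ E^∨)`**. -/
theorem nonempty_ext_equiv [HasExt.{u} X.Modules] (F G : X.Modules) (i : ℕ) :
    Nonempty (Abelian.Ext (CohB1.tensorMod F L) G i ≃+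
      Abelian.Ext F (CohB1.tensorMod G
        ((ModSite.sheafHom (O := X.sheaf) L).obj (Coh.structureModule X))) i) := by
  haveI : HasInjectiveResolutions X.Modules := QCQS.hasInjRes X
  haveI := preservesFiniteLimits_twF_dual L hL
  let adj : QC.twF L ⊣ QC.twF (Dl L) := (adjR L).ofNatIsoRight (thetaIso L hL).symm
  haveI : (QC.twF L).PreservesMonomorphisms :=
    ⟨fun i _ => by rw [QC.twF_map]; exact QC.mono_tensorMap_of_isFinLocFree i L hL⟩
  haveI : (QC.twF (Dl L)).PreservesInjectiveObjects :=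
    Functor.preservesInjectiveObjects_of_adjunction_of_preservesMonomorphisms adj
  obtain ⟨eq⟩ := EZ.nonempty_ext_equiv_of_adj adj F G i
  let ψ : CohB1.tensorMod G (Dl L) ≅ CohB1.tensorMod G
      ((ModSite.sheafHom (O := X.sheaf) L).obj (Coh.structureModule X)) :=
    ((ModSite.tensorBi X.sheaf).obj G).mapIso (dualIso L).symm
  exact ⟨eq.trans (QC.extEquivRight (C := X.Modules) F ψ i)⟩

end

end Groth.Agent.LD.XS.DI
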