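import Groth.Agent.Lib.Lead.XS.Adj
import Groth.Agent.Lib.Lead.RP.ExtShRes
import Groth.Agent.Lib.Lead.EZ.HomLocFree
import Groth.Agent.Lib.Lead.SC.ZeroNat

/-! # Dimension shifting for the local Ext sheaves on a scheme

For a short exact sequence `0 → K → L → F → 0` of quasi-coherent modules with `L` finite locally
free: `𝓔xt¹(F, G) ≅ coker (𝓗om(L, G) → 𝓗om(K, G))` and `𝓔xt^{k+2}(F, G) ≅ 𝓔xt^{k+1}(K, G)`.
-/

set_option autoImplicit false
set_option linter.style.haveILetI false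
noncomputable section
universe u
open CategoryTheory Limits AlgebraicGeometry TopologicalSpace Opposite

namespace Groth.Agent.LD.XS

open Groth.Agent.H2.HomSh Groth.Agent.LD Groth.Agent.LD.PD.HA
open Groth.Agent.LD.RP Groth.Agent.LD.RP.ResDelta Groth.Agent.LD.SC.FunSES

attribute [-instance] Groth.Agent.LD.QC.stalkModule
attribute [local instance] Groth.Agent.LD.MS.hasSheafHom

variable {X : Scheme.{u}} [HasInjectiveResolutions (ModSite.Mod X.sheaf)]

instance sheafHom_preservesFiniteLimits (K : X.Modules) :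
    PreservesFiniteLimits (ModSite.sheafHom (O := X.sheaf) K) :=
  haveI : PreservesLimitsOfSize.{0, 0} (ModSite.sheafHom (O := X.sheaf) K) :=
    (ModSite.sheafHomAdj (O := X.sheaf) K).rightAdjoint_preservesLimits
  PreservesLimitsOfSize.preservesFiniteLimits.{0, 0} _

lemma isIso_toRightDerivedZero_app (K G : X.Modules) :
    IsIso ((ModSite.sheafHom (O := X.sheaf) K).toRightDerivedZero.app G) := by
  haveI : IsIso ((ModSite.sheafHom (O := X.sheaf) K).toRightDerivedZero) := inferInstance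
  exact NatIso.isIso_app_of_isIso _ _

/-- `𝓔xt⁰(K, G) ≅ 𝓗om(K, G)`. -/
def e0 (K : X.Modules) [K.IsQuasicoherent] (G : X.Modules) :
    RefHull.homSh K G ≅ (extDelta X.sheaf G).E 0 K :=
  ((homIso K).app G).symm ≪≫
    @asIso _ _ _ _ ((ModSite.sheafHom (O := X.sheaf) K).toRightDerivedZero.app G)
      (isIso_toRightDerivedZero_app K G)

lemma e0_natural {K E : X.Modules} [K.IsQuasicoherent] [E.IsQuasicoherent] (u : K ⟶ E)
    (G : X.Modules) :
    preHom u G ≫ (e0 K G).hom = (e0 E G).hom ≫ (extDelta X.sheaf G).map 0 u := by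
  have hn := toRightDerivedZero_naturality' (ExtSupp.sheafHomMap (O := X.sheaf) u) G
  have hc := sheafHomMap_app_homIso u G
  have hc' : ((homIso E).app G).inv ≫ (ExtSupp.sheafHomMap (O := X.sheaf) u).app G =
      preHom u G ≫ ((homIso K).app G).inv :=
    (Iso.inv_comp_eq _).mpr (((Iso.eq_comp_inv _).mpr hc).trans (Category.assoc _ _ _))
  change preHom u G ≫ ((homIso K).app G).inv ≫
      (ModSite.sheafHom (O := X.sheaf) K).toRightDerivedZero.app G =
    (((homIso E).app G).inv ≫ (ModSite.sheafHom (O := X.sheaf) E).toRightDerivedZero.app G) ≫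
      (NatTrans.rightDerived (ExtSupp.sheafHomMap (O := X.sheaf) u) 0).app G
  refine (Category.assoc _ _ _).symm.trans ?_
  refine (congrArg (fun t => t ≫
    (ModSite.sheafHom (O := X.sheaf) K).toRightDerivedZero.app G) hc'.symm).trans ?_
  refine (Category.assoc _ _ _).trans ?_
  refine (congrArg (fun t => ((homIso E).app G).inv ≫ t) hn).trans ?_
  exact (Category.assoc _ _ _).symm

theorem nonempty_zero_iso (K : X.Modules) [K.IsQuasicoherent] (G : X.Modules) :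
    Nonempty (RefHull.homSh K G ≅ (ModSite.extSh (O := X.sheaf) K 0).obj G) :=
  ⟨e0 K G⟩

section Abstract

universe v v' u₁ u₂
variable {𝒜 : Type u₁} [Category.{v} 𝒜] [Abelian 𝒜] {ℬ : Type u₂} [Category.{v'} ℬ] [Abelian ℬ]
  (D : CDelta 𝒜 ℬ) {S : ShortComplex 𝒜} (hS : S.ShortExact)

include hS in
theorem coker_of_ses (h1 : IsZero (D.E 1 S.X₂)) :
    Nonempty (cokernel (D.map 0 S.f) ≅ D.E 1 S.X₃) := by
  obtain ⟨δ, hδ⟩ := D.δex S hS
  obtain ⟨⟨w1, e1⟩, ⟨w2, e2⟩⟩ := hδ 0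
  haveI : Epi (δ 0) := e2.epi_f (h1.eq_of_tgt _ _)
  have hc : IsColimit (CokernelCofork.ofπ (δ 0) w1) := e1.gIsCokernel
  exact ⟨IsColimit.coconePointUniqueUpToIso (cokernelIsCokernel (D.map 0 S.f)) hc⟩

include hS in
theorem shift_of_ses (k : ℕ) (h1 : IsZero (D.E (k + 1) S.X₂)) (h2 : IsZero (D.E (k + 2) S.X₂)) :
    Nonempty (D.E (k + 1) S.X₁ ≅ D.E (k + 2) S.X₃) := by
  obtain ⟨δ, hδ⟩ := D.δex S hS
  obtain ⟨⟨w1, e1⟩, ⟨w2, e2⟩⟩ := hδ (k + 1)
  haveI : Mono (δ (k + 1)) := e1.mono_g (h1.eq_of_src _ _)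
  haveI : Epi (δ (k + 1)) := e2.epi_f (h2.eq_of_tgt _ _)
  haveI : IsIso (δ (k + 1)) := isIso_of_mono_of_epi _
  exact ⟨asIso (δ (k + 1))⟩

end Abstract

/-- **`𝓔xt¹(F, G)` as a cokernel.** -/
theorem nonempty_cokernel_iso {S : ShortComplex X.Modules} (hS : S.ShortExact)
    (hL : FlatMod.IsFinLocFree S.X₂) [S.X₁.IsQuasicoherent] [S.X₂.IsQuasicoherent]
    (G : X.Modules) :
    Nonempty (cokernel (preHom S.f G) ≅ (ModSite.extSh (O := X.sheaf) S.X₃ 1).obj G) := by
  have h1 : IsZero ((extDelta X.sheaf G).E 1 S.X₂) :=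
    EZ.isZero_extSh_of_isFinLocFree S.X₂ hL 0 G
  obtain ⟨i1⟩ := coker_of_ses (extDelta X.sheaf G) hS h1
  let i2 : cokernel (preHom S.f G) ≅ cokernel ((extDelta X.sheaf G).map 0 S.f) :=
    cokernel.mapIso _ _ (e0 S.X₂ G) (e0 S.X₁ G) (e0_natural S.f G)
  exact ⟨i2 ≪≫ i1⟩

/-- **dimension shifting.** -/
theorem nonempty_shift_iso {S : ShortComplex X.Modules} (hS : S.ShortExact)
    (hL : FlatMod.IsFinLocFree S.X₂) (G : X.Modules) (k : ℕ) :
    Nonempty ((ModSite.extSh (O := X.sheaf) S.X₁ (k + 1)).obj G ≅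
      (ModSite.extSh (O := X.sheaf) S.X₃ (k + 2)).obj G) := by
  have h1 : IsZero ((extDelta X.sheaf G).E (k + 1) S.X₂) :=
    EZ.isZero_extSh_of_isFinLocFree S.X₂ hL k G
  have h2 : IsZero ((extDelta X.sheaf G).E (k + 2) S.X₂) :=
    EZ.isZero_extSh_of_isFinLocFree S.X₂ hL (k + 1) G
  exact shift_of_ses (extDelta X.sheaf G) hS k h1 h2

end Groth.Agent.LD.XS
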