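import Groth.Agent.Lib.Lead.XS.DualExt
import Groth.Agent.Lib.Lead.QC.PullTensorInv
import Groth.Agent.Lib.Lead.QC.IdealMod
import Groth.Agent.Lib.Lead.QC.UnitIso
import Groth.Agent.Lib.Lead.QC.TwistEquiv
import Groth.Agent.Lib.Lead.QC.Pullback
import Groth.Agent.Lib.Helper5.Glue.F

/-!
# The dual of an invertible module is its tensor inverse

`𝓗om(N, O) ≅ N'` when `N ⊗ N' ≅ O` (uniqueness of right adjoints of `- ⊗ N`), and the consequence that
duals of invertible modules commute with pullback.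
-/

universe u
open CategoryTheory Limits AlgebraicGeometry TopologicalSpace Opposite

namespace Groth.Agent.LD.XS.DualInv

open Groth.Agent.LD

variable {X : Scheme.{u}}

/-- **the dual of a module with a tensor inverse is that inverse.** -/
theorem nonempty_dual_iso (N N' : X.Modules) [N.IsQuasicoherent]
    (e : CohB1.tensorMod N N' ≅ QC.unitMod X) : Nonempty (RefHull.dual N ≅ N') := by
  haveI : ModSite.HasSheafHom (O := X.sheaf) N := Groth.Agent.LD.MS.hasSheafHom _
  have adj1 : QC.twF N ⊣ ModSite.sheafHom (O := X.sheaf) N := ModSite.sheafHomAdj N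
  have adj2 : QC.twF N ⊣ QC.twF N' := (QC.twEquiv N N' e).toAdjunction
  have i : ModSite.sheafHom (O := X.sheaf) N ≅ QC.twF N' := adj1.rightAdjointUniq adj2
  have i1 : (ModSite.sheafHom (O := X.sheaf) N).obj (Coh.structureModule X) ≅
      CohB1.tensorMod (QC.unitMod X) N' := i.app (Coh.structureModule X)
  exact ⟨(DI.dualIso N).symm ≪≫ i1 ≪≫ QC.tensorCommGen _ _ ≪≫ QC.twFUnit.app N'⟩

/-- **duals of invertible modules commute with pullback.** -/
theorem nonempty_dual_pullback_iso {Y : Scheme.{u}} (g : Y ⟶ X) (L : X.Modules)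
    (hL : PicF.IsInvertible L) :
    Nonempty (RefHull.dual ((Scheme.Modules.pullback g).obj L) ≅
      (Scheme.Modules.pullback g).obj (RefHull.dual L)) := by
  obtain ⟨L', hL', ⟨e⟩⟩ := Groth.Agent.H5.Glue.exists_inverse L hL
  haveI := QC.qc_of_isInvertible L hL
  haveI := QC.qc_of_isInvertible L' hL'
  obtain ⟨a⟩ := nonempty_dual_iso L L' e
  have e' : CohB1.tensorMod ((Scheme.Modules.pullback g).obj L) ((Scheme.Modules.pullback g).obj L') ≅
      QC.unitMod Y :=
    (QC.pbTensorIsoR g L L' hL').symm ≪≫ (Scheme.Modules.pullback g).mapIso e ≪≫ QC.pullbackUnitIso g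
  haveI : ((Scheme.Modules.pullback g).obj L).IsQuasicoherent := QC.qc_pullback g L
  obtain ⟨b⟩ := nonempty_dual_iso _ _ e'
  exact ⟨b ≪≫ ((Scheme.Modules.pullback g).mapIso a).symm⟩

/-- **S16088**: the normal sheaf of an effective Cartier divisor is the restriction of `O(D)`. -/
theorem s16088 (S : Scheme.{u}) (𝓓 : S.IdealSheafData) (hD : BlowUp.IsEffCartierIdeal 𝓓) :
    Nonempty (RefHull.dual (Omega.conormal 𝓓.subschemeι) ≅
      (Scheme.Modules.pullback 𝓓.subschemeι).obj (RefHull.dual (ClSub.idealMod 𝓓))) := by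
  have hL : PicF.IsInvertible (ClSub.idealMod 𝓓) := (QC.isInvertible_idealMod_iff 𝓓).mpr hD
  have h := nonempty_dual_pullback_iso 𝓓.subschemeι (ClSub.idealMod 𝓓) hL
  have hk : (𝓓.subschemeι).ker = 𝓓 := Scheme.IdealSheafData.ker_subschemeι 𝓓
  unfold Omega.conormal
  rw [hk]
  exact h

end Groth.Agent.LD.XS.DualInv
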