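import Groth.Agent.Lib.Lead.QC.AnnIdeal
import Groth.Agent.Lib.Lead.MirFlat
import Groth.Agent.Lib.Helper1.CartierKit
import Groth.Agent.Lib.Helper1.CohLen
import Groth.Agent.Lib.Helper1.SmoothDepth
import Groth.Agent.Lib.Helper1.CMFlat
import Groth.Agent.Lib.Helper6.Ischebeck
import Groth.Agent.Lib.Helper6.DepthKit
import Groth.Agent.Lib.Helper6.TD2
import Groth.Agent.H4.US14

/-!
# Vanishing of `Ext^q(E_x, O_x)` below the codimension of the support

`X` locally of finite type over a field, equidimensional of dimension `n`, `E` coherent with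
`dim Supp E ≤ d`, `O_{X,x}` Cohen–Macaulay; then `Ext^q(E_x, O_{X,x}) = 0` for `q + d < n`
(Ischebeck's theorem plus the dimension formula).
-/

set_option autoImplicit false
set_option linter.style.haveILetI false

universe u

open CategoryTheory Limits AlgebraicGeometry TopologicalSpace Topology

attribute [-instance] Groth.Agent.LD.QC.stalkModule

namespace Groth.Agent.LD.XS.CodimExt

open Groth.Agent.LD.QC

section Top

/-- the closure of a point has dimension at most the height of the point in the specialization
order. -/
theorem dim_closure_le_height {T : Type*} [TopologicalSpace T] [QuasiSober T] [T0Space T] (x : T) :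
    topologicalKrullDim ↥(closure ({x} : Set T)) ≤
      ((@Order.height T (specializationPreorder T) x : ℕ∞) : WithBot ℕ∞) := by
  haveI : QuasiSober ↥(closure ({x} : Set T)) :=
    (isClosed_closure.isClosedEmbedding_subtypeVal).quasiSober
  letI := specializationPreorder T
  have e1 : topologicalKrullDim ↥(closure ({x} : Set T)) =
      @Order.krullDim ↥(closure ({x} : Set T)) (specializationPreorder _) :=
    Groth.Agent.H6.TD.topologicalKrullDim_eq_krullDim
  rw [e1, Order.height_eq_krullDim_Iic]
  refine @Order.krullDim_le_of_strictMono _ _ (specializationPreorder _) _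
    (fun y => (⟨y.1, specializes_iff_mem_closure.mpr y.2⟩ : Set.Iic x)) ?_
  intro a b hab
  have hab' := (@lt_iff_le_not_ge _ (specializationPreorder _) a b).mp hab
  refine lt_iff_le_not_ge.mpr ⟨?_, fun h => hab'.2 ?_⟩
  · exact (subtype_specializes_iff b a).mp hab'.1
  · exact (subtype_specializes_iff a b).mpr h

end Top

theorem height_add_coheight_le {α : Type*} [Preorder α] (a : α) :
    ((Order.height a + Order.coheight a : ℕ∞) : WithBot ℕ∞) ≤ Order.krullDim α := by
  haveI : Nonempty α := ⟨a⟩
  rw [Order.krullDim_eq_iSup_height_add_coheight_of_nonempty, WithBot.coe_le_coe]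
  exact le_iSup (fun a : α => Order.height a + Order.coheight a) a

variable {X : Scheme.{u}}

/-- the local ring of the annihilator subscheme has the dimension of the support of the stalk. -/
theorem ringKrullDim_stalk_annSubscheme (F : X.Modules) [F.IsQuasicoherent]
    (hF : F.IsFiniteType) (t : (annIdeal F hF).subscheme) :
    ringKrullDim ((annIdeal F hF).subscheme.presheaf.stalk t) =
      Module.supportDim (X.presheaf.stalk ((annIdeal F hF).subschemeι t))
        (F.presheaf.stalk ((annIdeal F hF).subschemeι t)) := by
  obtain ⟨U, hU, hxU, -⟩ := exists_isAffineOpen_mem_and_subset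
    (x := (annIdeal F hF).subschemeι t) (U := ⊤) trivial
  letI := stalkΓModule F ((annIdeal F hF).subschemeι t) U hxU
  haveI := isLocalizedModule_germ F hU ((annIdeal F hF).subschemeι t) hxU
  letI : Algebra Γ(X, U) (X.presheaf.stalk ((annIdeal F hF).subschemeι t)) :=
    X.presheaf.algebra_section_stalk ⟨(annIdeal F hF).subschemeι t, hxU⟩
  haveI := hU.isLocalization_stalk ⟨(annIdeal F hF).subschemeι t, hxU⟩
  haveI : Module.Finite Γ(X, U) Γ(F, U) := finite_sections_of_isFiniteType F hF hU
  haveI : IsScalarTower Γ(X, U) (X.presheaf.stalk ((annIdeal F hF).subschemeι t))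
      (F.presheaf.stalk ((annIdeal F hF).subschemeι t)) :=
    ⟨fun r s m => by
      change (r • s) • m = X.presheaf.germ U ((annIdeal F hF).subschemeι t) hxU r • (s • m)
      rw [Algebra.smul_def, mul_smul]
      rfl⟩
  haveI : Module.Finite (X.presheaf.stalk ((annIdeal F hF).subschemeι t))
      (F.presheaf.stalk ((annIdeal F hF).subschemeι t)) :=
    Groth.Agent.H1.CohLen.finite_stalk F hF _
  have hann : (Module.annihilator Γ(X, U) Γ(F, U)).map
      (algebraMap Γ(X, U) (X.presheaf.stalk ((annIdeal F hF).subschemeι t))) =
      Module.annihilator (X.presheaf.stalk ((annIdeal F hF).subschemeι t))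
        (F.presheaf.stalk ((annIdeal F hF).subschemeι t)) :=
    annihilator_map_of_isLocalizedModule
      (hU.primeIdealOf ⟨(annIdeal F hF).subschemeι t, hxU⟩).asIdeal.primeCompl
      (germLinear F ((annIdeal F hF).subschemeι t) U hxU)
  have hker := Groth.Agent.H1.CartierKit.ker_stalkMap_subschemeι (annIdeal F hF) ⟨U, hU⟩ t hxU
  have hker' : RingHom.ker ((annIdeal F hF).subschemeι.stalkMap t).hom =
      Module.annihilator (X.presheaf.stalk ((annIdeal F hF).subschemeι t))
        (F.presheaf.stalk ((annIdeal F hF).subschemeι t)) := by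
    rw [hker]
    exact hann
  have hsurj : Function.Surjective ((annIdeal F hF).subschemeι.stalkMap t).hom :=
    (annIdeal F hF).subschemeι.stalkMap_surjective t
  rw [Module.supportDim_eq_ringKrullDim_quotient_annihilator, ← hker']
  exact (ringKrullDim_eq_of_ringEquiv (RingHom.quotientKerEquivOfSurjective hsurj)).symm

/-- `dim Supp(F_x) + dim closure{x} ≤ dim Supp F`. -/
theorem supportDim_stalk_add_dim_closure_le (F : X.Modules) [F.IsQuasicoherent]
    (hF : F.IsFiniteType) (x : X) :
    Module.supportDim (X.presheaf.stalk x) (F.presheaf.stalk x) +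
      topologicalKrullDim ↥(closure ({x} : Set X)) ≤ topologicalKrullDim ↥(CohB1.support F) := by
  by_cases hx : Subsingleton (F.presheaf.stalk x)
  · rw [Module.supportDim_eq_bot_of_subsingleton, WithBot.bot_add]
    exact bot_le
  · have hsupp : ((annIdeal F hF).support : Set X) = CohB1.support F := support_annIdeal F hF
    have hxs : x ∈ Set.range (annIdeal F hF).subschemeι := by
      rw [(annIdeal F hF).range_subschemeι, hsupp]
      exact hx
    obtain ⟨t, rfl⟩ := hxs
    rw [← ringKrullDim_stalk_annSubscheme F hF t, ringKrullDim_stalk_eq_coheight t]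
    have h1 : topologicalKrullDim ↥(closure ({(annIdeal F hF).subschemeι t} : Set X)) ≤
        ((Order.height ((annIdeal F hF).subschemeι t) : ℕ∞) : WithBot ℕ∞) :=
      dim_closure_le_height _
    have h2 : Order.height ((annIdeal F hF).subschemeι t) ≤ Order.height t :=
      Groth.Agent.H6.TD.height_le_of_isClosedMap _
        (annIdeal F hF).subschemeι.isClosedEmbedding.isClosedMap t
    have h3 := height_add_coheight_le t
    have h4 : Order.krullDim (annIdeal F hF).subscheme =
        topologicalKrullDim (annIdeal F hF).subscheme :=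
      (Groth.Agent.H6.TD.topologicalKrullDim_eq_krullDim).symm
    have h5 : topologicalKrullDim (annIdeal F hF).subscheme ≤
        topologicalKrullDim ↥(CohB1.support F) :=
      ((annIdeal F hF).subschemeι.isEmbedding.isInducing.codRestrict (s := CohB1.support F)
        (fun z => by
          rw [← hsupp, ← (annIdeal F hF).range_subschemeι]
          exact ⟨z, rfl⟩)).topologicalKrullDim_le
    calc ((Order.coheight t : ℕ∞) : WithBot ℕ∞) +
          topologicalKrullDim ↥(closure ({(annIdeal F hF).subschemeι t} : Set X))
        ≤ ((Order.coheight t : ℕ∞) : WithBot ℕ∞) + ((Order.height t : ℕ∞) : WithBot ℕ∞) := by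
          gcongr
          exact h1.trans (WithBot.coe_le_coe.mpr h2)
      _ = ((Order.height t + Order.coheight t : ℕ∞) : WithBot ℕ∞) := by
          rw [WithBot.coe_add, add_comm]
      _ ≤ Order.krullDim (annIdeal F hF).subscheme := h3
      _ = _ := h4
      _ ≤ _ := h5

section Field

variable {k : Type u} [Field k] (gk : X ⟶ Spec (CommRingCat.of k))

/-- the dimension formula at a point of an equidimensional scheme locally of finite type over a
field. -/
theorem exists_dim_closure_add [LocallyOfFiniteType gk] (e : ℕ)
    (hXe : ∀ W ∈ irreducibleComponents (X : Type u), topologicalKrullDim W = e) (z : X) :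
    ∃ t : ℕ, topologicalKrullDim ↥(closure ({z} : Set X)) = (t : WithBot ℕ∞) ∧
      ringKrullDim (X.presheaf.stalk z) + (t : WithBot ℕ∞) = (e : WithBot ℕ∞) := by
  obtain ⟨s, hs, h1⟩ := Groth.Agent.H1.DimFormula.exists_localDim_eq_stalk_add_trdeg gk z
  obtain ⟨s', hs', h2⟩ := Groth.Agent.H1.ClosureDim.exists_trdeg_eq_dim_closure gk z
  have hss : s = s' := by
    have : (s : Cardinal) = s' := hs.symm.trans hs'
    exact_mod_cast this
  subst hss
  exact ⟨s, h2, by rw [← h1, Groth.Agent.LD.MirFlat.localDim_eq_of_equidim gk e hXe z]⟩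

/-- **Vanishing of `Ext^q(E_x, O_x)` below the codimension of the support.** -/
theorem subsingleton_ext_stalk_of_codim [LocallyOfFiniteType gk] (n : ℕ)
    (hXn : ∀ W ∈ irreducibleComponents (X : Type u), topologicalKrullDim W = n)
    (E : X.Modules) [E.IsQuasicoherent] (hE : E.IsFiniteType) (d : ℕ)
    (hd : topologicalKrullDim ↥(CohB1.support E) ≤ (d : WithBot ℕ∞))
    (x : X) (hCM : LocCoh.IsCohenMacaulayLocalRing (X.presheaf.stalk x)) (q : ℕ)
    (hq : q + d < n) :
    Subsingleton (Abelian.Ext (ModuleCat.of (X.presheaf.stalk x) (E.presheaf.stalk x))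
      (ModuleCat.of (X.presheaf.stalk x) (X.presheaf.stalk x)) q) := by
  haveI : IsLocallyNoetherian X := LocallyOfFiniteType.isLocallyNoetherian gk
  by_cases hx : Subsingleton (E.presheaf.stalk x)
  · exact Groth.Agent.H6.Isch.ext_subsingleton_of_subsingleton _ _ q
  · haveI : Nontrivial (E.presheaf.stalk x) := not_subsingleton_iff_nontrivial.mp hx
    haveI : Module.Finite (X.presheaf.stalk x) (E.presheaf.stalk x) :=
      Groth.Agent.H1.CohLen.finite_stalk E hE x
    obtain ⟨t, ht, hmt⟩ := exists_dim_closure_add gk n hXn x
    obtain ⟨r, hr⟩ := Groth.Agent.H4.US14.exists_supportDim_eq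
      (A := X.presheaf.stalk x) (M := E.presheaf.stalk x)
    have hineq := supportDim_stalk_add_dim_closure_le E hE x
    rw [hr, ht] at hineq
    have hrt : r + t ≤ d := by
      have := hineq.trans hd
      exact_mod_cast this
    have hdepth := hCM.supportDim_eq_depth
    rw [Module.supportDim_self_eq_ringKrullDim] at hdepth
    obtain ⟨m, hm, -⟩ := Groth.Agent.H6.Depth.exists_depth_eq (R := X.presheaf.stalk x)
      (X.presheaf.stalk x)
    rw [hdepth, hm] at hmt
    have hmn : m + t = n := by exact_mod_cast hmt
    exact Groth.Agent.H6.Isch.ischebeck (X.presheaf.stalk x) m hm r (E.presheaf.stalk x) hr.le q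
      (by omega)

end Field

end Groth.Agent.LD.XS.CodimExt
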