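import Groth.Agent.Lib.Lead.XS.StalkExt
import Groth.Agent.Lib.Lead.XS.GenZero
import Groth.Agent.Lib.Lead.XS.CodimExt
import Groth.Agent.Lib.Helper2.ExtReg4
import Groth.Agent.Lib.Helper5.FSm.FlatLift
import Groth.Agent.Lib.Helper9.Misc.RSL1
import Groth.Agent.Lib.Helper9.Misc.FLH5
import Groth.Agent.Lib.Helper9.Misc.GSD5
import Groth.Agent.Lib.Helper1.CohPush
import Groth.Agent.Lib.Helper1.StalkGen
import Groth.Agent.Lib.Helper1.SmoothDepth
import Groth.Agent.H4.LFP1
import Groth.Agent.H4.ProjSmooth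
import Groth.Agent.Lib.Helper5.Curve6.P1Deg
import Groth.Agent.Lib.Helper5.Curve6.P1Facts
import Groth.Agent.Lib.Helper5.IntN.Veronese
import Groth.Agent.Lib.Helper3.DomClosed
import Groth.Agent.Lib.Lead.QC.FiniteFree
import Groth.Agent.Lib.Lead.QC.SubExt
import Groth.Agent.Lib.Lead.QC.SerreSupp
import Groth.Agent.Lib.Lead.QC.Iso
import Groth.Agent.Lib.Lead.QC.StalkNbhd
import Groth.Agent.Lib.Lead.QC.Compact

/-!
# The dualizing sheaf of a reduced equidimensional projective scheme

For `ι : X ⟶ P^n_k` a reduced closed subscheme of pure dimension `r` and `ω` with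
`ι_* ω ≅ 𝓔xt^{n-r}(ι_* O_X, ω_P)`: all stalks of `ω` are torsion-free, and the stalks at the generic
points have rank one.
-/

set_option autoImplicit false
set_option linter.style.haveILetI false
noncomputable section
universe u
open CategoryTheory Limits AlgebraicGeometry TopologicalSpace Opposite Abelian

attribute [-instance] Groth.Agent.LD.QC.stalkModule
attribute [local instance] Groth.Agent.LD.MS.hasSheafHom

namespace Groth.Agent.LD.XS.GenRank

open Twist Groth.Agent.LD.QC Groth.Agent.LD Groth.Agent.LD.PN Groth.Agent.LD.TW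
  Groth.Agent.LD.PD.HA Groth.Agent.LD.XS Groth.Agent.H1.CohLen Groth.Agent.H1.StalkGen

/-! ### topology -/

section Top
variable {T : Type*} [TopologicalSpace T]

/-- a generic point in the closure of an open set of a Noetherian space lies in the open set. -/
theorem mem_of_mem_closure_of_generic [NoetherianSpace T] {η : T}
    (hη : closure ({η} : Set T) ∈ irreducibleComponents T) {U : Set T} (hU : IsOpen U)
    (h : η ∈ closure U) : η ∈ U := by
  obtain ⟨o, ho, ⟨z, hz⟩, hle⟩ :=
    NoetherianSpace.exists_isOpen_nonempty_subset_irreducibleComponent (closure {η}) hη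
  have hηo : η ∈ o := (specializes_iff_mem_closure.mpr (hle hz)).mem_open ho hz
  obtain ⟨w, hwo, hwU⟩ := mem_closure_iff.mp h o ho hηo
  exact (specializes_iff_mem_closure.mpr (hle hwo)).mem_open hU hwU

/-- an open neighbourhood of `x` all of whose generic points specialize to `x`. -/
theorem exists_open_nbhd_generic_specializes [NoetherianSpace T] (x : T) :
    ∃ O : Set T, IsOpen O ∧ x ∈ O ∧
      ∀ η ∈ O, closure ({η} : Set T) ∈ irreducibleComponents T → η ⤳ x := by
  refine ⟨(⋃₀ {C | C ∈ irreducibleComponents T ∧ x ∉ C})ᶜ, ?_, ?_, ?_⟩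
  · rw [Set.sUnion_eq_biUnion, isOpen_compl_iff]
    exact (NoetherianSpace.finite_irreducibleComponents.subset
      (fun C hC => hC.1)).isClosed_biUnion
      fun W hW => isClosed_of_mem_irreducibleComponents W hW.1
  · rintro ⟨C, ⟨_, hxC⟩, hx⟩
    exact hxC hx
  · intro η hηO hη
    by_contra hcon
    apply hηO
    exact ⟨closure {η}, ⟨hη, fun hx => hcon (specializes_iff_mem_closure.mpr hx)⟩,
      subset_closure (Set.mem_singleton η)⟩

end Top

/-! ### algebra -/

section Alg
open IsLocalRing RingTheory.Sequence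

lemma eq_sub_of_add_eq (d : WithBot ℕ∞) (t n : ℕ)
    (h : d + (t : WithBot ℕ∞) = (n : WithBot ℕ∞)) : d = ((n - t : ℕ) : WithBot ℕ∞) := by
  induction d using WithBot.recBotCoe with
  | bot => simp at h
  | coe e =>
    have h1 : (e + (t : ℕ∞) : ℕ∞) = (n : ℕ∞) := by exact_mod_cast h
    have he : e ≠ ⊤ := by
      intro h'
      rw [h'] at h1
      simp at h1
    lift e to ℕ using he
    have h2 : e + t = n := by exact_mod_cast h1
    have h3 : e = n - t := by omega
    subst h3
    norm_cast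

lemma finrank_eq_one_of_length {K V : Type*} [CommRing K] [AddCommGroup V] [Module K V]
    (hK : IsField K) (h : Module.length K V = 1) : Module.finrank K V = 1 := by
  letI := hK.toField
  exact isSimpleModule_iff_finrank_eq_one.mp (Module.length_eq_one_iff.mp h)

lemma length_self_of_isField {K : Type*} [CommRing K] (hK : IsField K) :
    Module.length K K = 1 := by
  rw [Module.length_eq_one_iff, isSimpleModule_self_iff_isUnit]
  exact ⟨⟨hK.exists_pair_ne⟩, fun x hx => isUnit_iff_exists_inv.mpr (hK.mul_inv_cancel hx)⟩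

variable (A : Type u) [CommRing A]

theorem length_quot_smul_top_eq_one [IsLocalRing A] (M : Type u) [AddCommGroup M] [Module A M]
    (eM : M ≃ₗ[A] A) :
    Module.length A (M ⧸ (maximalIdeal A • ⊤ : Submodule A M)) = 1 := by
  have hmap : Submodule.map (eM : M →ₗ[A] A) (maximalIdeal A • ⊤) =
      (maximalIdeal A : Submodule A A) := by
    rw [Submodule.map_smul'', Submodule.map_top, LinearEquiv.range, Ideal.smul_eq_mul,
      Ideal.mul_top]
  rw [(Submodule.Quotient.equiv _ _ eM hmap).length_eq]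
  haveI : IsSimpleModule A (A ⧸ (maximalIdeal A : Submodule A A)) :=
    isSimpleModule_iff_isCoatom.mpr (Ideal.isMaximal_def.mp inferInstance)
  exact Module.length_eq_one_iff.mpr this

/-- **`Ext^c(κ, A)` has length one for a regular local ring of dimension `c`** (more generally for
any simple module in the first and any free module of rank one in the second variable). -/
theorem length_ext_eq_one [IsRegularLocalRing A] (c : ℕ)
    (hc : ringKrullDim A = (c : WithBot ℕ∞))
    (B M : Type u) [AddCommGroup B] [Module A B] [AddCommGroup M] [Module A M]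
    (hB : Module.length A B = 1) (eM : M ≃ₗ[A] A) :
    Module.length A (Ext (ModuleCat.of A B) (ModuleCat.of A M) c) = 1 := by
  obtain ⟨m, b, hspan, hm⟩ := Groth.Agent.H5.FSm.exists_regular_parameters A
  have hmc : m = c := by
    have h1 : ((m : ℕ∞) : WithBot ℕ∞) = ((c : ℕ∞) : WithBot ℕ∞) := by
      exact_mod_cast hm.symm.trans hc
    have h2 : (m : ℕ∞) = (c : ℕ∞) := WithBot.coe_injective h1
    exact_mod_cast h2
  obtain ⟨xs, hxs⟩ : ∃ xs : List A, xs = List.ofFn b := ⟨_, rfl⟩
  have hlen : xs.length = c := by rw [hxs, List.length_ofFn, hmc]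
  have hset : {r | r ∈ List.ofFn b} = Set.range b := by
    ext y
    simp [List.mem_ofFn]
  have hI : Ideal.ofList xs = maximalIdeal A := by
    rw [hxs]
    show Ideal.span {r | r ∈ List.ofFn b} = _
    rw [hset, hspan]
  have hmem : ∀ y ∈ xs, y ∈ maximalIdeal A := by
    intro y hy
    rw [← hI]
    exact Ideal.subset_span hy
  have hfld : IsField (A ⧸ maximalIdeal A) :=
    (Ideal.Quotient.maximal_ideal_iff_isField_quotient _).mp inferInstance
  have hdim : ringKrullDim (A ⧸ Ideal.ofList xs) + (xs.length : WithBot ℕ∞) =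
      ringKrullDim A := by
    rw [hI, ringKrullDim_eq_zero_of_isField hfld, zero_add, hlen, hc]
  have hreg := Groth.Agent.H9.RSL.isRegular_of_dim A xs hmem hdim
  obtain ⟨Φ⟩ := Groth.Agent.H2.ExtReg.nonempty_ext_equiv xs hreg.toIsWeaklyRegular M
  haveI hsimp : IsSimpleModule A B := Module.length_eq_one_iff.mp hB
  obtain ⟨I, hImax, ⟨eB⟩⟩ := isSimpleModule_iff_quot_maximal.mp hsimp
  have hII : I = Ideal.ofList xs := (IsLocalRing.eq_maximalIdeal hImax).trans hI.symm
  subst hII
  rw [← hlen]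
  have e1 := Groth.Agent.H2.ExtReg.extCongrLeft eB.toModuleIso (ModuleCat.of A M) xs.length
  rw [(e1 ≪≫ₗ Φ).length_eq, hI]
  exact length_quot_smul_top_eq_one A M eM

end Alg

/-! ### sections -/

section Sec
variable {X : Scheme.{u}}

lemma exists_sections_smul_eq_zero (M : X.Modules) (x : X) (a : X.presheaf.stalk x)
    (m : M.presheaf.stalk x) (h : a • m = 0) :
    ∃ (W : X.Opens) (hx : x ∈ W) (f : Γ(X, W)) (s : Γ(M, W)),
      X.presheaf.germ W x hx f = a ∧ M.presheaf.germ W x hx s = m ∧ f • s = 0 := by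
  obtain ⟨V₁, hy₁, a₁, rfl⟩ := TopCat.Presheaf.exists_germ_eq X.presheaf a
  obtain ⟨V₂, hy₂, m₂, rfl⟩ := TopCat.Presheaf.exists_germ_eq M.presheaf m
  have hyW : x ∈ V₁ ⊓ V₂ := ⟨hy₁, hy₂⟩
  obtain ⟨a', ha'⟩ : ∃ a' : Γ(X, V₁ ⊓ V₂), a' = X.presheaf.map (homOfLE inf_le_left).op a₁ :=
    ⟨_, rfl⟩
  obtain ⟨m', hm'⟩ : ∃ m' : Γ(M, V₁ ⊓ V₂), m' = M.presheaf.map (homOfLE inf_le_right).op m₂ :=
    ⟨_, rfl⟩
  have hga : X.presheaf.germ (V₁ ⊓ V₂) x hyW a' = X.presheaf.germ V₁ x hy₁ a₁ := by
    rw [ha']; exact sgerm_res x inf_le_left hyW a₁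
  have hgm : M.presheaf.germ (V₁ ⊓ V₂) x hyW m' = M.presheaf.germ V₂ x hy₂ m₂ := by
    rw [hm']; exact germ_res M x inf_le_right hyW m₂
  have e1 : X.presheaf.germ (V₁ ⊓ V₂) x hyW a' • M.presheaf.germ (V₁ ⊓ V₂) x hyW m' = 0 := by
    rw [hga, hgm]; exact h
  have key : M.presheaf.germ (V₁ ⊓ V₂) x hyW (a' • m') = 0 :=
    (QC.germ_smul M x (V₁ ⊓ V₂) hyW a' m').trans e1
  obtain ⟨W, hW, hxW, h0⟩ := exists_res_eq_zero_of_germ_eq_zero M x hyW (a' • m') key
  refine ⟨W, hxW, X.presheaf.map (homOfLE hW).op a', M.presheaf.map (homOfLE hW).op m', ?_, ?_, ?_⟩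
  · exact (sgerm_res x hW hxW a').trans hga
  · exact (germ_res M x hW hxW m').trans hgm
  · exact (smul_res M hW a' m').symm.trans h0

/-- **torsion-freeness from the vanishing of morphisms which are zero near the generic points.** -/
theorem torsion_eq_bot_of_hom_zero [IsNoetherian X] [IsReduced X] (ω : X.Modules)
    (hω : Coh.IsCoh ω)
    (hz : ∀ (F : X.Modules), Coh.IsCoh F → ∀ φ : F ⟶ ω,
      (∀ x : X, closure ({x} : Set X) ∈ irreducibleComponents X →
        ∃ U : X.Opens, x ∈ U ∧ (Scheme.Modules.restrictFunctor U.ι).map φ = 0) → φ = 0)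
    (x : X) : Submodule.torsion (X.presheaf.stalk x) (ω.presheaf.stalk x) = ⊥ := by
  haveI : ω.IsQuasicoherent := hω.1
  rw [Submodule.eq_bot_iff]
  intro m hm
  obtain ⟨⟨a, ha⟩, ham⟩ := (Submodule.mem_torsion_iff m).mp hm
  have ham' : a • m = 0 := ham
  obtain ⟨W, hxW, f₀, s₀, hfa, hsm, hfs⟩ := exists_sections_smul_eq_zero ω x a m ham'
  obtain ⟨O, hO, hxO, hOgen⟩ := exists_open_nbhd_generic_specializes (T := X) x
  obtain ⟨U, hU⟩ : ∃ U : X.Opens, U = W ⊓ ⟨O, hO⟩ := ⟨_, rfl⟩
  have hxU : x ∈ U := by rw [hU]; exact ⟨hxW, hxO⟩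
  have hUW : U ≤ W := by rw [hU]; exact inf_le_left
  have hUO : ∀ y ∈ U, y ∈ O := by
    intro y hy
    rw [hU] at hy
    exact hy.2
  obtain ⟨f, hf⟩ : ∃ f : Γ(X, U), f = X.presheaf.map (homOfLE hUW).op f₀ := ⟨_, rfl⟩
  obtain ⟨s, hs⟩ : ∃ s : Γ(ω, U), s = ω.presheaf.map (homOfLE hUW).op s₀ := ⟨_, rfl⟩
  have hfs' : f • s = 0 := by
    rw [hf, hs, ← smul_res ω hUW f₀ s₀, hfs, map_zero]
  have hfa' : X.presheaf.germ U x hxU f = a := by
    rw [hf]; exact (sgerm_res x hUW hxU f₀).trans hfa
  have hsm' : ω.presheaf.germ U x hxU s = m := by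
    rw [hs]; exact (germ_res ω x hUW hxU s₀).trans hsm
  -- units at the generic points of `U`
  have hunit : ∀ (η : X) (hηU : η ∈ U), closure ({η} : Set X) ∈ irreducibleComponents X →
      IsUnit (X.presheaf.germ U η hηU f) := by
    intro η hηU hη
    have hsp : η ⤳ x := hOgen η (hUO η hηU) hη
    have hfld : IsField (X.presheaf.stalk η) :=
      Groth.Agent.H9.FLH.isField_stalk_of_isMaxPt X η ((Groth.Agent.H9.GSD.isMaxPt_iff X η).mp hη)
    letI alg : Algebra (X.presheaf.stalk x) (X.presheaf.stalk η) :=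
      (X.presheaf.stalkSpecializes hsp).hom.toAlgebra
    haveI hloc := isLocalization_stalkSpecializes hsp
    have h1 : algebraMap (X.presheaf.stalk x) (X.presheaf.stalk η) a ∈
        nonZeroDivisors (X.presheaf.stalk η) :=
      IsLocalization.map_nonZeroDivisors_le (primeOf hsp).asIdeal.primeCompl
        (X.presheaf.stalk η) (Submonoid.mem_map_of_mem _ ha)
    have h2 : X.presheaf.germ U η hηU f =
        (X.presheaf.stalkSpecializes hsp).hom (X.presheaf.germ U x hxU f) :=
      (ConcreteCategory.congr_hom (X.presheaf.germ_stalkSpecializes hxU hsp) f).symm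
    rw [h2, hfa']
    change IsUnit (algebraMap (X.presheaf.stalk x) (X.presheaf.stalk η) a)
    have hne : algebraMap (X.presheaf.stalk x) (X.presheaf.stalk η) a ≠ 0 :=
      nonZeroDivisors.ne_zero h1
    obtain ⟨b, hb⟩ := hfld.mul_inv_cancel hne
    exact isUnit_iff_exists_inv.mpr ⟨b, hb⟩
  -- the open set `V`
  obtain ⟨V, hV⟩ : ∃ V : X.Opens, V = X.basicOpen f ⊔
      ⟨(closure (U : Set X))ᶜ, isClosed_closure.isOpen_compl⟩ := ⟨_, rfl⟩
  have hVgen : ∀ η : X, closure ({η} : Set X) ∈ irreducibleComponents X → η ∈ V := by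
    intro η hη
    rw [hV]
    by_cases hηU : η ∈ U
    · exact Opens.mem_sup.mpr (Or.inl ((X.mem_basicOpen f η hηU).mpr (hunit η hηU hη)))
    · exact Opens.mem_sup.mpr
        (Or.inr (fun hcl => hηU (mem_of_mem_closure_of_generic hη U.2 hcl)))
  have hgerm : ∀ (y : X) (hyU : y ∈ U), y ∈ V → ω.presheaf.germ U y hyU s = 0 := by
    intro y hyU hyV
    rw [hV] at hyV
    have hyD : y ∈ X.basicOpen f := by
      rcases Opens.mem_sup.mp hyV with h | h
      · exact h
      · exact absurd (subset_closure hyU) h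
    have hu : IsUnit (X.presheaf.germ U y hyU f) := (X.mem_basicOpen f y hyU).mp hyD
    have h0 : X.presheaf.germ U y hyU f • ω.presheaf.germ U y hyU s = 0 := by
      have h3 := QC.germ_smul ω y U hyU f s
      rw [hfs', map_zero] at h3
      exact h3.symm
    exact hu.smul_eq_zero.mp h0
  -- the sections supported off `V`
  haveI hFqc : (subExt V.ι (𝟙 (ω.restrict V.ι))).IsQuasicoherent :=
    subExt_qc V.ι _ hω.1 inferInstance
  have hFc : Coh.IsCoh (subExt V.ι (𝟙 (ω.restrict V.ι))) :=
    QC.isCoh_of_mono (subExtι V.ι (𝟙 (ω.restrict V.ι))) hFqc hω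
  have hφ0 : subExtι V.ι (𝟙 (ω.restrict V.ι)) = 0 := by
    refine hz _ hFc _ (fun η hη => ⟨V, hVgen η hη, ?_⟩)
    apply Scheme.Modules.hom_ext
    intro W'
    ext t
    have key := (mem_subExt_iff' V.ι (𝟙 (ω.restrict V.ι)) (V.ι ''ᵁ W') W' le_rfl
      (V.ι.preimage_image_eq W').le
      ((subExtι V.ι (𝟙 (ω.restrict V.ι))).app (V.ι ''ᵁ W') t)).mp ⟨t, rfl⟩
    rw [res_self] at key
    exact key
  have hs0 : s = 0 := by
    have hres : ω.presheaf.map (homOfLE (V.ι.image_preimage_le U)).op s = 0 := by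
      apply section_eq_zero_of_germ ω
      intro y hy
      rw [germ_res ω y (V.ι.image_preimage_le U) hy s]
      exact hgerm y _ (V.ι_image_le _ hy)
    obtain ⟨t, ht⟩ := (mem_subExt_iff V.ι (𝟙 (ω.restrict V.ι)) U s).mpr hres
    rw [← ht, hφ0]
    rfl
  rw [← hsm', hs0, map_zero]

end Sec

/-! ### the rank at a point with a field as local ring -/

section Sch
variable {P X : Scheme.{u}}

theorem finrank_stalk_eq_one [IsLocallyNoetherian P] (hP : HasRes P)
    [HasInjectiveResolutions (ModSite.Mod P.sheaf)]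
    (ι : X ⟶ P) [IsClosedImmersion ι] (ωP : P.Modules) (hωP : FlatMod.IsFinLocFreeOfRank 1 ωP)
    (c : ℕ) (ω : X.Modules) [ω.IsQuasicoherent]
    (e : (Scheme.Modules.pushforward ι).obj ω ≅
      (ModSite.extSh (O := P.sheaf) ((Scheme.Modules.pushforward ι).obj (unitMod X)) c).obj ωP)
    (hcoh : Coh.IsCoh ((Scheme.Modules.pushforward ι).obj (unitMod X)))
    (x : X) (hx : IsField (X.presheaf.stalk x)) [IsRegularLocalRing (P.presheaf.stalk (ι x))]
    (hdim : ringKrullDim (P.presheaf.stalk (ι x)) = (c : WithBot ℕ∞)) :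
    Module.finrank (X.presheaf.stalk x) (ω.presheaf.stalk x) = 1 := by
  have hB : Module.length (P.presheaf.stalk (ι x))
      (((Scheme.Modules.pushforward ι).obj (unitMod X)).presheaf.stalk (ι x)) = 1 := by
    rw [length_stalk_push_closedImmersion ι (unitMod X) x, length_unit_stalk x]
    exact length_self_of_isField hx
  obtain ⟨hfree, hfin, hrk⟩ := Groth.Agent.H4.LFP1.stalk_of_isFinLocFreeOfRank 1 ωP hωP (ι x)
  haveI : Module.Free (P.presheaf.stalk (ι x)) (ωP.presheaf.stalk (ι x)) := hfree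
  haveI : Module.Finite (P.presheaf.stalk (ι x)) (ωP.presheaf.stalk (ι x)) := hfin
  have hrk' : Module.finrank (P.presheaf.stalk (ι x)) (ωP.presheaf.stalk (ι x)) = 1 := hrk
  obtain ⟨eM⟩ : Nonempty (ωP.presheaf.stalk (ι x) ≃ₗ[P.presheaf.stalk (ι x)]
      P.presheaf.stalk (ι x)) :=
    ⟨LinearEquiv.ofFinrankEq _ _ (by rw [hrk', Module.finrank_self])⟩
  obtain ⟨Θ⟩ := StalkExt.nonempty_stalk_extSh_equiv hP (ι x) c _ hcoh ωP
  have h1 := length_ext_eq_one (P.presheaf.stalk (ι x)) c hdim
    (((Scheme.Modules.pushforward ι).obj (unitMod X)).presheaf.stalk (ι x))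
    (ωP.presheaf.stalk (ι x)) hB eM
  have h2 : Module.length (P.presheaf.stalk (ι x))
      (((Scheme.Modules.pushforward ι).obj ω).presheaf.stalk (ι x)) = 1 :=
    (LinearEquiv.length_eq ((StalkExt.stalkEquivOfIso e (ι x)) ≪≫ₗ Θ)).trans h1
  rw [length_stalk_push_closedImmersion ι ω x] at h2
  exact finrank_eq_one_of_length hx h2

end Sch

/-! ### projective space -/

section PNSec
variable (n : ℕ) (k : Type u) [Field k] {X : Scheme.{u}}
  (ι : X ⟶ Proj (CohB1.polyGrading n k)) [IsClosedImmersion ι]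
variable [HasInjectiveResolutions (ModSite.Mod (Proj (CohB1.polyGrading n k)).sheaf)]

/-- **S11909.** -/
theorem torsionFree_and_rank_one [IsReduced X] (r : ℕ) (hr : r ≤ n)
    (heq : ∀ Z : Set X, Z ∈ irreducibleComponents X →
      topologicalKrullDim Z = (r : WithBot ℕ∞))
    (ω : X.Modules)
    (hω : Nonempty ((Scheme.Modules.pushforward ι).obj ω ≅
      (ModSite.extSh (O := (Proj (CohB1.polyGrading n k)).sheaf)
        ((Scheme.Modules.pushforward ι).obj (unitMod X)) (n - r)).obj (om n k))) :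
    (∀ x : X, Submodule.torsion (X.presheaf.stalk x) (ω.presheaf.stalk x) = ⊥) ∧
      ∀ x : X, closure ({x} : Set X) ∈ irreducibleComponents X →
        Module.finrank (X.presheaf.stalk x) (ω.presheaf.stalk x) = 1 := by
  haveI : IsLocallyNoetherian X := LocallyOfFiniteType.isLocallyNoetherian ι
  haveI : CompactSpace X := QuasiCompact.compactSpace_of_compactSpace ι
  haveI : IsNoetherian X := {}
  obtain ⟨e⟩ := hω
  have hP : Coh.IsCoh ((Scheme.Modules.pushforward ι).obj ω) :=
    QC.isCoh_of_iso e.symm (isCoh_extSh (hasRes_PN n k) (n - r) _ (isCoh_push_unit n k ι)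
      (om n k) (isCoh_twist' n k _))
  have hωc : Coh.IsCoh ω := GZ.isCoh_of_isCoh_push ι ω hP
  haveI : ω.IsQuasicoherent := hωc.1
  refine ⟨fun x => ?_, fun x hx => ?_⟩
  · exact torsion_eq_bot_of_hom_zero ω hωc
      (fun F hF φ hφ => GZ.hom_eq_zero_of_zero_near_generic n k ι r hr heq ω ⟨e⟩ F hF φ hφ) x
  · let q : Proj (CohB1.polyGrading n k) ⟶ Spec (CommRingCat.of k) := CohB1.ProjSpace.toSpec n k
    haveI : Smooth q := Groth.Agent.H4.ProjSmooth.smooth_toSpec n k
    haveI : IsRegularLocalRing ((Proj (CohB1.polyGrading n k)).presheaf.stalk (ι x)) :=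
      Groth.Agent.H1.SmoothDepth.isRegularLocalRing_stalk_of_smooth k q (ι x)
    have hxf : IsField (X.presheaf.stalk x) :=
      Groth.Agent.H9.FLH.isField_stalk_of_isMaxPt X x ((Groth.Agent.H9.GSD.isMaxPt_iff X x).mp hx)
    haveI : IsIntegral (Proj (CohB1.polyGrading n k)) :=
      Groth.Agent.H5.Curve6.isIntegral_projSpace k n
    have hPn : ∀ W ∈ irreducibleComponents (Proj (CohB1.polyGrading n k) : Type u),
        topologicalKrullDim W = n := by
      intro W hW
      rw [irreducibleComponents_eq_singleton, Set.mem_singleton_iff] at hW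
      subst hW
      have hd : topologicalKrullDim (Proj (CohB1.polyGrading n k)) = n :=
        Groth.Agent.H5.IntN.dim_projSpace k n
      rw [← hd]
      exact (Homeomorph.Set.univ _).isHomeomorph.topologicalKrullDim_eq _
    have hdim : ringKrullDim ((Proj (CohB1.polyGrading n k)).presheaf.stalk (ι x)) =
        ((n - r : ℕ) : WithBot ℕ∞) := by
      obtain ⟨t, ht, hadd⟩ :=
        CodimExt.exists_dim_closure_add q n hPn (ι x)
      have h1 : topologicalKrullDim ↥(closure ({x} : Set X)) =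
          topologicalKrullDim ↥(closure ({ι x} : Set (Proj (CohB1.polyGrading n k)))) :=
        Groth.Agent.H3.DomClosed.dim_closure_eq_of_closed_in_fibre q ι x
          (fun x' _ h => ι.isClosedEmbedding.injective h)
      have htr : (t : WithBot ℕ∞) = (r : WithBot ℕ∞) := by
        rw [← ht, ← h1]
        exact heq _ hx
      rw [htr] at hadd
      exact eq_sub_of_add_eq _ r n hadd
    have hom : FlatMod.IsFinLocFreeOfRank 1 (om n k) :=
      (QC.isInvertible_iff _).mp (Groth.Agent.H5.Curve6.isInvertible_twistProjSpace k n _)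
    exact finrank_stalk_eq_one (hasRes_PN n k) ι (om n k) hom (n - r) ω e
      (isCoh_push_unit n k ι) x hxf hdim

end PNSec

end Groth.Agent.LD.XS.GenRank
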