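import Groth.Agent.Lib.Lead.XS.HomTwist
import Groth.Agent.Lib.Lead.CohLES.Vanish
import Mathlib.Algebra.Homology.DerivedCategory.Ext.Linear

/-! # Cokernel presentations of `Ext¹` and of the sections of `𝓔xt¹`

Abstract steps of the dimension shifting for Hartshorne III.6.9. -/

set_option autoImplicit false
set_option linter.style.haveILetI false
noncomputable section
universe u
open CategoryTheory Limits AlgebraicGeometry TopologicalSpace Opposite Abelian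

namespace Groth.Agent.LD.XS

open Groth.Agent.LD Groth.Agent.LD.RP Groth.Agent.LD.RP.ResDelta

attribute [-instance] Groth.Agent.LD.QC.stalkModule
attribute [local instance] Groth.Agent.LD.MS.hasSheafHom

/-- two modules presented as cokernels of compatible maps are isomorphic. -/
theorem nonempty_linearEquiv_of_coker {A : Type*} [CommRing A]
    {M₁ M₂ P N₁ N₂ Q : Type*} [AddCommGroup M₁] [AddCommGroup M₂] [AddCommGroup P]
    [AddCommGroup N₁] [AddCommGroup N₂] [AddCommGroup Q]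
    [Module A M₁] [Module A M₂] [Module A P] [Module A N₁] [Module A N₂] [Module A Q]
    (f : M₁ →ₗ[A] M₂) (p : M₂ →ₗ[A] P) (hp : Function.Surjective p)
    (hpf : ∀ y, p (f y) = 0) (hex : ∀ x, p x = 0 → ∃ y, f y = x)
    (g : N₁ →ₗ[A] N₂) (q : N₂ →ₗ[A] Q) (hq : Function.Surjective q)
    (hqg : ∀ y, q (g y) = 0) (hex' : ∀ x, q x = 0 → ∃ y, g y = x)
    (τ₁ : M₁ ≃ₗ[A] N₁) (τ₂ : M₂ ≃ₗ[A] N₂) (hc : ∀ y, τ₂ (f y) = g (τ₁ y)) :
    Nonempty (P ≃ₗ[A] Q) := by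
  have hker : (LinearMap.ker p).map (τ₂ : M₂ →ₗ[A] N₂) = LinearMap.ker q := by
    ext x
    constructor
    · rintro ⟨m, hm, rfl⟩
      obtain ⟨y, rfl⟩ := hex m hm
      change q (τ₂ (f y)) = 0
      rw [hc]
      exact hqg _
    · intro hx
      obtain ⟨y', rfl⟩ := hex' x hx
      refine ⟨f (τ₁.symm y'), hpf _, ?_⟩
      change τ₂ (f (τ₁.symm y')) = g y'
      rw [hc, LinearEquiv.apply_symm_apply]
  exact ⟨(p.quotKerEquivOfSurjective hp).symm ≪≫ₗ
    Submodule.Quotient.equiv (LinearMap.ker p) (LinearMap.ker q) τ₂ hker ≪≫ₗ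
    q.quotKerEquivOfSurjective hq⟩

section FourTerm
variable {X : Scheme.{u}} (A : Type u) [CommRing A] [X.Over (Spec (CommRingCat.of A))]

lemma HHmap_zero' {M N : X.Modules} (i : ℕ) (x : Coh.HH X M i) :
    CL.HHmap A (0 : M ⟶ N) i x = 0 :=
  (CL.HHmap_apply A (0 : M ⟶ N) i x).trans
    ((CL.HHmapZ_apply (0 : M ⟶ N) i x).symm.trans (CL.HHmapZ_zero i x))

/-- global sections of a four term exact sequence `0 → A₀ → A₁ → A₂ → A₃ → 0` with
`H¹(A₀) = H²(A₀) = H¹(A₁) = 0`. -/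
theorem H0_fourTerm {A₀ A₁ A₂ A₃ : X.Modules} (a : A₀ ⟶ A₁) (b : A₁ ⟶ A₂) (c : A₂ ⟶ A₃)
    [Mono a] [Epi c] (wab : a ≫ b = 0) (wbc : b ≫ c = 0)
    (hab : (ShortComplex.mk a b wab).Exact) (hbc : (ShortComplex.mk b c wbc).Exact)
    (h01 : Subsingleton (Coh.HH X A₀ 1)) (h02 : Subsingleton (Coh.HH X A₀ 2))
    (h11 : Subsingleton (Coh.HH X A₁ 1)) :
    Function.Surjective (CL.HHmap A c 0) ∧
      (∀ x, CL.HHmap A c 0 x = 0 → ∃ y, CL.HHmap A b 0 y = x) ∧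
      ∀ y, CL.HHmap A c 0 (CL.HHmap A b 0 y) = 0 := by
  obtain ⟨K, p, j, hp, hj, hpj⟩ : ∃ (K : X.Modules) (p : A₁ ⟶ K) (j : K ⟶ A₂),
      Epi p ∧ Mono j ∧ p ≫ j = b :=
    ⟨_, Abelian.factorThruImage b, Abelian.image.ι b, inferInstance, inferInstance,
      Abelian.image.fac b⟩
  have wap : a ≫ p = 0 := by
    apply (cancel_mono j).mp
    rw [Category.assoc, hpj, wab, zero_comp]
  have wjc : j ≫ c = 0 := by
    apply (cancel_epi p).mp
    rw [← Category.assoc, hpj, wbc, comp_zero]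
  haveI : Mono (ShortComplex.mk a b wab).f := ‹Mono a›
  haveI : Epi (ShortComplex.mk b c wbc).g := ‹Epi c›
  have hS₁ : (ShortComplex.mk a p wap).ShortExact :=
    { exact := ShortComplex.exact_of_f_is_kernel _ (isKernelOfComp j b hab.fIsKernel wap hpj)
      mono_f := ‹Mono a›
      epi_g := hp }
  have hS₂ : (ShortComplex.mk j c wjc).ShortExact :=
    { exact := ShortComplex.exact_of_g_is_cokernel _
        (isCokernelOfComp p b hbc.gIsCokernel wjc hpj)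
      mono_f := hj
      epi_g := ‹Epi c› }
  have hK1 : Subsingleton (Coh.HH X K 1) := CL.subsingleton_right hS₁ 1 h11 h02
  have hsurj_p : Function.Surjective (CL.HHmapZ p 0) := CL.surjective_of_subsingleton hS₁ 0 h01
  have hsurj_c : Function.Surjective (CL.HHmapZ c 0) := CL.surjective_of_subsingleton hS₂ 0 hK1
  refine ⟨fun x => ?_, fun x hx => ?_, fun y => ?_⟩
  · obtain ⟨y, hy⟩ := hsurj_c x
    exact ⟨y, (CL.HHmap_apply A c 0 y).trans ((CL.HHmapZ_apply c 0 y).symm.trans hy)⟩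
  · obtain ⟨z, hz⟩ := CL.exact₂ hS₂ A 0 x hx
    obtain ⟨y, hy⟩ := hsurj_p z
    refine ⟨y, ?_⟩
    have h1 : CL.HHmap A p 0 y = z :=
      (CL.HHmap_apply A p 0 y).trans ((CL.HHmapZ_apply p 0 y).symm.trans hy)
    rw [← hpj, CL.HHmap_comp, LinearMap.comp_apply, h1]
    exact hz
  · rw [← LinearMap.comp_apply, ← CL.HHmap_comp, wbc]
    exact HHmap_zero' A 0 y

variable [HasInjectiveResolutions (ModSite.Mod X.sheaf)]

/-- the sections of `𝓔xt¹(F, G)` as a cokernel, for a presentation `0 → R → E → F → 0` with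
`𝓔xt¹(E, G) = 0`, when `H¹` and `H²` of `𝓗om(F, G)` and `H¹` of `𝓗om(E, G)` vanish. -/
theorem H0_extDelta (G : X.Modules) {S : ShortComplex X.Modules} (hS : S.ShortExact)
    (h1 : IsZero ((extDelta X.sheaf G).E 1 S.X₂))
    (h01 : Subsingleton (Coh.HH X ((extDelta X.sheaf G).E 0 S.X₃) 1))
    (h02 : Subsingleton (Coh.HH X ((extDelta X.sheaf G).E 0 S.X₃) 2))
    (h11 : Subsingleton (Coh.HH X ((extDelta X.sheaf G).E 0 S.X₂) 1)) :
    ∃ c : (extDelta X.sheaf G).E 0 S.X₁ ⟶ (extDelta X.sheaf G).E 1 S.X₃,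
      Function.Surjective (CL.HHmap A c 0) ∧
      (∀ x, CL.HHmap A c 0 x = 0 →
        ∃ y, CL.HHmap A ((extDelta X.sheaf G).map 0 S.f) 0 y = x) ∧
      ∀ y, CL.HHmap A c 0 (CL.HHmap A ((extDelta X.sheaf G).map 0 S.f) 0 y) = 0 := by
  obtain ⟨δ, hδ⟩ := (extDelta X.sheaf G).δex S hS
  obtain ⟨⟨w1, e1⟩, ⟨w2, e2⟩⟩ := hδ 0
  have he : Epi (δ 0) := e2.epi_f (h1.eq_of_tgt _ _)
  have hm : Mono ((extDelta X.sheaf G).map 0 S.g) := (extDelta X.sheaf G).mono_zero S hS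
  obtain ⟨w0, e0'⟩ := (extDelta X.sheaf G).exact₂ S hS 0
  exact ⟨δ 0, @H0_fourTerm X A _ _ _ _ _ _ ((extDelta X.sheaf G).map 0 S.g)
    ((extDelta X.sheaf G).map 0 S.f) (δ 0) hm he w0 w1 e0' e1 h01 h02 h11⟩

end FourTerm

section ExtSide
variable {X : Scheme.{u}} (A : Type u) [CommRing A] [X.Over (Spec (CommRingCat.of A))]
  [HasExt.{u} X.Modules] {S : ShortComplex X.Modules} (hS : S.ShortExact) (G : X.Modules)

/-- the connecting map `Hom(R, G) → Ext¹(F, G)`. -/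
def extConn : (S.X₁ ⟶ G) →ₗ[A] Ext S.X₃ G 1 :=
  (hS.extClass.precompOfLinear A G (show 1 + 0 = 1 from rfl)).comp
    (Ext.linearEquiv₀ (R := A)).symm.toLinearMap

lemma extConn_apply (ψ : S.X₁ ⟶ G) :
    extConn A hS G ψ = hS.extClass.comp (Ext.mk₀ ψ) (show 1 + 0 = 1 from rfl) := by
  change hS.extClass.comp ((Ext.linearEquiv₀ (R := A)).symm ψ) (show 1 + 0 = 1 from rfl) = _
  rw [Ext.linearEquiv₀_symm_apply]

lemma extConn_surjective (hE1 : Subsingleton (Ext S.X₂ G 1)) :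
    Function.Surjective (extConn A hS G) := by
  intro x₃
  obtain ⟨x₁, hx₁⟩ := Ext.contravariant_sequence_exact₃ hS G x₃ (Subsingleton.elim _ _)
    (show 1 + 0 = 1 from rfl)
  refine ⟨Ext.linearEquiv₀ (R := A) x₁, ?_⟩
  rw [extConn_apply, Ext.mk₀_linearEquiv₀_apply]
  exact hx₁

lemma extConn_comp (φ : S.X₂ ⟶ G) : extConn A hS G (S.f ≫ φ) = 0 := by
  rw [extConn_apply, ← Ext.mk₀_comp_mk₀, ← Ext.comp_assoc_of_second_deg_zero, hS.extClass_comp,
    Ext.zero_comp]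

lemma extConn_exact (ψ : S.X₁ ⟶ G) (h : extConn A hS G ψ = 0) :
    ∃ φ : S.X₂ ⟶ G, S.f ≫ φ = ψ := by
  rw [extConn_apply] at h
  obtain ⟨x₂, hx₂⟩ := Ext.contravariant_sequence_exact₁ hS G (Ext.mk₀ ψ)
    (show 1 + 0 = 1 from rfl) h
  refine ⟨Ext.linearEquiv₀ (R := A) x₂, ?_⟩
  apply (Ext.linearEquiv₀ (R := A)).symm.injective
  rw [Ext.linearEquiv₀_symm_apply, Ext.linearEquiv₀_symm_apply, ← Ext.mk₀_comp_mk₀,
    Ext.mk₀_linearEquiv₀_apply]
  exact hx₂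

include hS in
/-- dimension shifting for `Ext`, linearly. -/
theorem nonempty_ext_shift (i : ℕ) (h1 : Subsingleton (Ext S.X₂ G (i + 1)))
    (h2 : Subsingleton (Ext S.X₂ G (i + 2))) :
    Nonempty (Ext S.X₁ G (i + 1) ≃ₗ[A] Ext S.X₃ G (i + 2)) := by
  refine ⟨LinearEquiv.ofBijective
    (hS.extClass.precompOfLinear A G (show 1 + (i + 1) = i + 2 by omega)) ⟨?_, ?_⟩⟩
  · rw [injective_iff_map_eq_zero]
    intro x hx
    obtain ⟨x₂, hx₂⟩ := Ext.contravariant_sequence_exact₁ hS G x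
      (show 1 + (i + 1) = i + 2 by omega) hx
    rw [← hx₂, Subsingleton.elim x₂ 0, Ext.comp_zero]
  · intro x₃
    exact Ext.contravariant_sequence_exact₃ hS G x₃ (Subsingleton.elim _ _)
      (show 1 + (i + 1) = i + 2 by omega)

end ExtSide

end Groth.Agent.LD.XS
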