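import Groth.Agent.Lib.Lead.XS.H0Coker
import Groth.Agent.Lib.Lead.XS.DualRange

/-! # `Ext^i(F, G(d)) ≃ Γ(X, 𝓔xt^i(F, G(d)))` for `d ≫ 0` (Hartshorne III.6.9)

for coherent modules on a closed subscheme of projective space over a Noetherian ring. -/

set_option autoImplicit false
set_option linter.style.haveILetI false
noncomputable section
universe u
open CategoryTheory Limits AlgebraicGeometry TopologicalSpace Opposite Abelian

namespace Groth.Agent.LD.XS.LG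

open Twist Groth.Agent.LD.QC Groth.Agent.LD Groth.Agent.LD.PN Groth.Agent.LD.TW
  Groth.Agent.LD.PD.HA Groth.Agent.LD.XS Groth.Agent.H2.HomSh
  Groth.Agent.LD.RP Groth.Agent.LD.RP.ResDelta

attribute [-instance] Groth.Agent.LD.QC.stalkModule
attribute [local instance] Groth.Agent.LD.MS.hasSheafHom

variable (n : ℕ) (A : Type u) [CommRing A] [IsNoetherianRing A] {X : Scheme.{u}}
  (ι : X ⟶ Proj (CohB1.polyGrading n A)) [IsClosedImmersion ι]

/-- `O_X(d)`. -/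
abbrev OX (d : ℤ) : X.Modules :=
  (Scheme.Modules.pullback ι).obj (twist (CohB1.polyGrading n A) d)

lemma isInvertible_OX (d : ℤ) : PicF.IsInvertible (OX n A ι d) :=
  QC.isInvertible_pullback ι (isInvertible_twist n A d)

/-- `O_X(a) ⊗ O_X(b) ≅ O_X(c)` for `a + b = c`. -/
def OXmul (a b c : ℤ) (h : a + b = c) :
    CohB1.tensorMod (OX n A ι a) (OX n A ι b) ≅ OX n A ι c :=
  haveI := QC.qc_of_isInvertible _ (isInvertible_twist n A a)
  haveI := QC.qc_of_isInvertible _ (isInvertible_twist n A b)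
  haveI := QC.isIso_pbTensorHom ι _ _ (isInvertible_twist n A a) (isInvertible_twist n A b)
  (asIso (QC.pbTensorHom ι (twist (CohB1.polyGrading n A) a)
      (twist (CohB1.polyGrading n A) b))).symm ≪≫
    (Scheme.Modules.pullback ι).mapIso (twistMulIso n A a b c h)

/-- `O_X(a) ⊗ O_X(b) ≅ O_X` for `a + b = 0`. -/
def OXinv (a b : ℤ) (h : a + b = 0) :
    CohB1.tensorMod (OX n A ι a) (OX n A ι b) ≅ QC.unitMod X :=
  OXmul n A ι a b 0 h ≪≫
    (Scheme.Modules.pullback ι).mapIso (twistZeroIso (CohB1.polyGrading n A)) ≪≫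
    QC.pullbackUnitIso ι

/-- `H^j(X, 𝓗om(F', G(d))) = 0` for `j > 0` and `d ≫ 0`. -/
theorem exists_vanish_homSh (F' G : X.Modules) (hF' : Coh.IsCoh F') (hG : Coh.IsCoh G) :
    ∃ d₀ : ℕ, ∀ d : ℕ, d₀ ≤ d → ∀ j : ℕ, 0 < j →
      Subsingleton (Coh.HH X (RefHull.homSh F' (twOn n A ι G (d : ℤ))) j) := by
  haveI : IsLocallyNoetherian X := LocallyOfFiniteType.isLocallyNoetherian ι
  haveI := hF'.1
  obtain ⟨N, hN⟩ := serre_vanishing_on n A ι (RefHull.homSh F' G) (isCoh_homSh hF' hG)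
  refine ⟨N.toNat, fun d hd j hj => ?_⟩
  have h1 := hN (d : ℤ) (by omega) j hj
  exact CL.subsingleton_of_iso (homShTwistIso F' (OX n A ι d) (OX n A ι (-d))
    (OXinv n A ι d (-d) (by ring)) G).symm j h1

/-- `Ext^j(∐ O_X(-m), G(d)) = 0` for `j > 0` and `d ≫ 0`. -/
theorem exists_vanish_ext_sigma [HasExt.{u} X.Modules] (G : X.Modules) (hG : Coh.IsCoh G)
    (m : ℕ) :
    ∃ d₀ : ℕ, ∀ d : ℕ, d₀ ≤ d → ∀ (K : ℕ) (j : ℕ), 0 < j →
      Subsingleton (Ext (∐ fun _ : Fin K => OX n A ι (-(m : ℤ))) (twOn n A ι G (d : ℤ)) j) := by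
  obtain ⟨N, hN⟩ := serre_vanishing_on n A ι G hG
  refine ⟨N.toNat, fun d hd K j hj => ?_⟩
  apply subsingleton_ext_sigma_left
  obtain ⟨ε⟩ := QC.nonempty_ext_invertible_equiv (OX n A ι (-(m : ℤ))) (OX n A ι (m : ℤ))
    (OXinv n A ι (-(m : ℤ)) (m : ℤ) (by ring)) (twOn n A ι G (d : ℤ)) j
  have h1 : Subsingleton (Coh.HH X (twOn n A ι G ((d : ℤ) + m)) j) := hN _ (by omega) j hj
  have e : twOn n A ι G ((d : ℤ) + m) ≅
      CohB1.tensorMod (twOn n A ι G (d : ℤ)) (OX n A ι (m : ℤ)) :=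
    (QC.twFCongr (OXmul n A ι (d : ℤ) (m : ℤ) _ rfl).symm).app G ≪≫
      (QC.twFComp (OX n A ι (d : ℤ)) (OX n A ι (m : ℤ))).app G
  haveI := CL.subsingleton_of_iso e j h1
  exact ε.toEquiv.subsingleton

/-- a coherent module on a closed subscheme of `P^n_A` is a quotient of a finite direct sum of
copies of some `O_X(-m)`. -/
theorem exists_resolution_ring (F : X.Modules) (hF : Coh.IsCoh F) :
    ∃ (m K : ℕ) (p : (∐ fun _ : Fin K => OX n A ι (-(m : ℤ))) ⟶ F), Epi p := by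
  have hP := isCoh_push n A ι F hF
  obtain ⟨m₀, h⟩ := exists_epi_sigma_twist n A _ hP.1 hP.2
  obtain ⟨K, q, hq⟩ := h m₀ le_rfl
  haveI := hq
  have h1 := (Groth.Agent.H7.ClImmMod.main ι _ F q).1
  haveI : PreservesColimitsOfSize.{0, 0} (Scheme.Modules.pullback ι) :=
    (Scheme.Modules.pullbackPushforwardAdjunction ι).leftAdjoint_preservesColimits
  let e : (Scheme.Modules.pullback ι).obj
      (∐ fun _ : Fin K => twist (CohB1.polyGrading n A) (-(m₀ : ℤ))) ≅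
      ∐ fun _ : Fin K => OX n A ι (-(m₀ : ℤ)) :=
    PreservesCoproduct.iso (Scheme.Modules.pullback ι) _
  haveI := h1
  exact ⟨m₀, K, e.inv ≫ ((Scheme.Modules.pullbackPushforwardAdjunction ι).homEquiv _ F).symm q,
    epi_comp _ _⟩

/-- the resolution as a short exact sequence with coherent terms. -/
theorem exists_ses_ring (F : X.Modules) (hF : Coh.IsCoh F) :
    ∃ (m K : ℕ) (R : X.Modules) (f : R ⟶ ∐ fun _ : Fin K => OX n A ι (-(m : ℤ)))
      (g : (∐ fun _ : Fin K => OX n A ι (-(m : ℤ))) ⟶ F) (w : f ≫ g = 0),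
      (ShortComplex.mk f g w).ShortExact ∧ Coh.IsCoh R ∧
      Coh.IsCoh (∐ fun _ : Fin K => OX n A ι (-(m : ℤ))) ∧
      FlatMod.IsFinLocFree (∐ fun _ : Fin K => OX n A ι (-(m : ℤ))) := by
  haveI : IsLocallyNoetherian X := LocallyOfFiniteType.isLocallyNoetherian ι
  obtain ⟨m, K, p, hp⟩ := exists_resolution_ring n A ι F hF
  have hMd := isInvertible_OX n A ι (-(m : ℤ))
  haveI := QC.qc_of_isInvertible _ hMd
  have hEqc : (∐ fun _ : Fin K => OX n A ι (-(m : ℤ))).IsQuasicoherent := QC.qc_sigma_fin _ K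
  have hEft : (∐ fun _ : Fin K => OX n A ι (-(m : ℤ))).IsFiniteType :=
    QC.isFiniteType_sigma_fin _ (QC.isFiniteType_of_isInvertible _ hMd) K
  have hKqc : (kernel p).IsQuasicoherent := QC.qc_kernel p hEqc hF.1
  refine ⟨m, K, kernel p, kernel.ι p, p, kernel.condition p, ?_,
    ⟨hKqc, QC.isFiniteType_of_mono (kernel.ι p) hKqc hEqc hEft⟩, ⟨hEqc, hEft⟩,
    SC.isFinLocFree_sigma_of_isInvertible _ hMd K⟩
  exact { exact := ShortComplex.exact_of_f_is_kernel _ (kernelIsKernel p)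
          mono_f := inferInstanceAs (Mono (kernel.ι p))
          epi_g := hp }

variable [X.Over (Spec (CommRingCat.of A))] [HasExt.{u} X.Modules]
  [HasInjectiveResolutions (ModSite.Mod X.sheaf)]

/-- degree `0`. -/
theorem ext_zero_equiv (F G' : X.Modules) [F.IsQuasicoherent] :
    Nonempty (Ext F G' 0 ≃ₗ[A] Coh.HH X ((ModSite.extSh (O := X.sheaf) F 0).obj G') 0) :=
  ⟨Ext.linearEquiv₀ ≪≫ₗ homHH A F G' ≪≫ₗ CL.HHisoEquiv A (e0 F G') 0⟩

/-- degree `1`, for a presentation. -/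
theorem ext_one_equiv {S : ShortComplex X.Modules} (hS : S.ShortExact) (G' : X.Modules)
    [S.X₁.IsQuasicoherent] [S.X₂.IsQuasicoherent] [S.X₃.IsQuasicoherent]
    (hL : FlatMod.IsFinLocFree S.X₂)
    (hE1 : Subsingleton (Ext S.X₂ G' 1))
    (h01 : Subsingleton (Coh.HH X (RefHull.homSh S.X₃ G') 1))
    (h02 : Subsingleton (Coh.HH X (RefHull.homSh S.X₃ G') 2))
    (h11 : Subsingleton (Coh.HH X (RefHull.homSh S.X₂ G') 1)) :
    Nonempty (Ext S.X₃ G' 1 ≃ₗ[A] Coh.HH X ((ModSite.extSh (O := X.sheaf) S.X₃ 1).obj G') 0) := by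
  have hz : IsZero ((extDelta X.sheaf G').E 1 S.X₂) :=
    EZ.isZero_extSh_of_isFinLocFree S.X₂ hL 0 G'
  obtain ⟨c, hc1, hc2, hc3⟩ := H0_extDelta A G' hS hz
    (CL.subsingleton_of_iso (e0 S.X₃ G') 1 h01) (CL.subsingleton_of_iso (e0 S.X₃ G') 2 h02)
    (CL.subsingleton_of_iso (e0 S.X₂ G') 1 h11)
  refine nonempty_linearEquiv_of_coker (Linear.leftComp A G' S.f) (extConn A hS G')
    (extConn_surjective A hS G' hE1) (fun φ => extConn_comp A hS G' φ)
    (fun ψ hψ => extConn_exact A hS G' ψ hψ)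
    (CL.HHmap A ((extDelta X.sheaf G').map 0 S.f) 0) (CL.HHmap A c 0) hc1 hc3 hc2
    (homHH A S.X₂ G' ≪≫ₗ CL.HHisoEquiv A (e0 S.X₂ G') 0)
    (homHH A S.X₁ G' ≪≫ₗ CL.HHisoEquiv A (e0 S.X₁ G') 0) ?_
  intro φ
  change CL.HHmap A (e0 S.X₁ G').hom 0 (homHH A S.X₁ G' (S.f ≫ φ)) =
    CL.HHmap A ((extDelta X.sheaf G').map 0 S.f) 0
      (CL.HHmap A (e0 S.X₂ G').hom 0 (homHH A S.X₂ G' φ))
  rw [← homHH_natural A S.f φ, ← LinearMap.comp_apply, ← CL.HHmap_comp, ← LinearMap.comp_apply,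
    ← CL.HHmap_comp, e0_natural]

/-- **Hartshorne III.6.9** on a closed subscheme of `P^n_A`. -/
theorem ext_equiv_sections (G : X.Modules) (hG : Coh.IsCoh G) (i : ℕ) :
    ∀ F : X.Modules, Coh.IsCoh F → ∃ d₀ : ℕ, ∀ d : ℕ, d₀ ≤ d →
      Nonempty (Ext F (twOn n A ι G (d : ℤ)) i ≃ₗ[A]
        Coh.HH X ((ModSite.extSh (O := X.sheaf) F i).obj (twOn n A ι G (d : ℤ))) 0) := by
  induction i with
  | zero =>
    intro F hF
    haveI := hF.1
    exact ⟨0, fun d _ => ext_zero_equiv A F _⟩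
  | succ i ih =>
    intro F hF
    obtain ⟨m, K, R, f, g, w, hS, hR, hE, hL⟩ := exists_ses_ring n A ι F hF
    haveI := hF.1
    haveI := hR.1
    haveI := hE.1
    obtain ⟨d₁, hd₁⟩ := exists_vanish_ext_sigma n A ι G hG m
    cases i with
    | zero =>
      obtain ⟨d₂, hd₂⟩ := exists_vanish_homSh n A ι F G hF hG
      obtain ⟨d₃, hd₃⟩ := exists_vanish_homSh n A ι _ G hE hG
      refine ⟨max d₁ (max d₂ d₃), fun d hd => ?_⟩
      have hd1 : d₁ ≤ d := le_trans (le_max_left _ _) hd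
      have hd2 : d₂ ≤ d := le_trans (le_trans (le_max_left _ _) (le_max_right _ _)) hd
      have hd3 : d₃ ≤ d := le_trans (le_trans (le_max_right _ _) (le_max_right _ _)) hd
      exact ext_one_equiv A (S := ShortComplex.mk f g w) hS (twOn n A ι G (d : ℤ)) hL
        (hd₁ d hd1 K 1 Nat.one_pos) (hd₂ d hd2 1 Nat.one_pos) (hd₂ d hd2 2 (by omega))
        (hd₃ d hd3 1 Nat.one_pos)
    | succ i =>
      obtain ⟨d₂, hd₂⟩ := ih R hR
      refine ⟨max d₁ d₂, fun d hd => ?_⟩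
      have hd1 : d₁ ≤ d := le_trans (le_max_left _ _) hd
      have hd2 : d₂ ≤ d := le_trans (le_max_right _ _) hd
      obtain ⟨Θ⟩ := hd₂ d hd2
      obtain ⟨es⟩ := nonempty_shift_iso (S := ShortComplex.mk f g w) hS hL
        (twOn n A ι G (d : ℤ)) i
      obtain ⟨Ψ⟩ := nonempty_ext_shift A (S := ShortComplex.mk f g w) hS
        (twOn n A ι G (d : ℤ)) i (hd₁ d hd1 K (i + 1) (Nat.succ_pos i))
        (hd₁ d hd1 K (i + 2) (Nat.succ_pos _))
      exact ⟨Ψ.symm ≪≫ₗ Θ ≪≫ₗ CL.HHisoEquiv A es 0⟩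

end Groth.Agent.LD.XS.LG
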