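import Mathlib.CategoryTheory.Abelian.Injective.Ext
import Mathlib.CategoryTheory.Abelian.RightDerived
import Mathlib.Algebra.Homology.ShortComplex.HomologicalComplex
import Mathlib.Algebra.Homology.ShortComplex.Exact

/-! # The edge isomorphism of a composite of derived functors, when the lower derived functors vanish

Let `Φ : 𝒜 ⥤ 𝒜` be an additive functor on an abelian category with a natural transformation
`ε : Φ ⟶ 𝟭`, and `P` a class of objects, closed under subobjects, containing all `Φ Y`, such that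
`Hom(G, Φ Y) → Hom(G, Y)` is injective for all `G` and bijective for `G` in `P`
(think of `Φ = 𝓗om(O/I, -)` and `P` the class of modules killed by `I`).
If `RᵠΦ(Z) = 0` for `q < r` then there is a class `u ∈ Extʳ(RʳΦ(Z), Z)` such that
`Hom(G, RʳΦ(Z)) → Extʳ(G, Z)`, `φ ↦ φ^* u`, is bijective for all `G` in `P`. -/

set_option autoImplicit false
noncomputable section
universe w v u
open CategoryTheory Limits Abelian

namespace Groth.Agent.LD.XS.LE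

variable {𝒜 : Type u} [Category.{v} 𝒜] [Abelian 𝒜]

/-- injectivity relative to a class of objects. -/
def SInj (P : 𝒜 → Prop) (W : 𝒜) : Prop :=
  ∀ ⦃G' G : 𝒜⦄ (m : G' ⟶ G), Mono m → P G → ∀ f : G' ⟶ W, ∃ g : G ⟶ W, m ≫ g = f

lemma sInj_of_isZero (P : 𝒜 → Prop) {W : 𝒜} (h : IsZero W) : SInj P W :=
  fun _ _ _ _ _ _ => ⟨0, h.eq_of_tgt _ _⟩

lemma sInj_of_retract (P : 𝒜 → Prop) {V W : 𝒜} (s : W ⟶ V) (p : V ⟶ W) (h : s ≫ p = 𝟙 W)
    (hV : SInj P V) : SInj P W := by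
  intro G' G m hm hG f
  obtain ⟨g, hg⟩ := hV m hm hG (f ≫ s)
  exact ⟨g ≫ p, by rw [← Category.assoc, hg, Category.assoc, h, Category.comp_id]⟩

/-- a map with relatively injective source and kernel splits off its cokernel. -/
theorem exists_splitting (P : 𝒜 → Prop)
    (hsub : ∀ ⦃G' G : 𝒜⦄ (m : G' ⟶ G), Mono m → P G → P G')
    {K V W H : 𝒜} (τ : V ⟶ W) (π : W ⟶ H) (w : τ ≫ π = 0)
    (hπ : IsColimit (CokernelCofork.ofπ π w))
    (i : K ⟶ V) (wi : i ≫ τ = 0) (hi : IsLimit (KernelFork.ofι i wi))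
    (hK : SInj P K) (hV : SInj P V) (PV : P V) (PW : P W) :
    ∃ (s : H ⟶ W) (ℓ : W ⟶ V), s ≫ π = 𝟙 H ∧ π ≫ s + ℓ ≫ τ = 𝟙 W := by
  let e : V ⟶ Abelian.image τ := Abelian.factorThruImage τ
  let m : Abelian.image τ ⟶ W := Abelian.image.ι τ
  have hem : e ≫ m = τ := Abelian.image.fac τ
  haveI : Mono i := mono_of_isLimit_fork hi
  haveI : Epi π := epi_of_isColimit_cofork hπ
  have hie : i ≫ e = 0 := by
    rw [← cancel_mono m, Category.assoc, hem, wi, zero_comp]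
  have hmπ : m ≫ π = 0 := by
    rw [← cancel_epi e, ← Category.assoc, hem, w, comp_zero]
  obtain ⟨ρ, hρ⟩ := hK i inferInstance PV (𝟙 K)
  let S₁ : ShortComplex 𝒜 := ShortComplex.mk i e hie
  have hS₁ : S₁.Exact := ShortComplex.exact_of_f_is_kernel S₁ (isKernelOfComp m τ hi hie hem)
  let sp₁ := ShortComplex.Splitting.ofExactOfRetraction S₁ hS₁ ρ hρ (inferInstance : Epi e)
  have hσ : sp₁.s ≫ e = 𝟙 _ := sp₁.s_g
  have hB : SInj P (Abelian.image τ) := sInj_of_retract P sp₁.s e hσ hV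
  obtain ⟨ρ', hρ'⟩ := hB m inferInstance PW (𝟙 _)
  let S₂ : ShortComplex 𝒜 := ShortComplex.mk m π hmπ
  have hS₂ : S₂.Exact := ShortComplex.exact_of_g_is_cokernel S₂ (isCokernelOfComp e τ hπ hmπ hem)
  let sp₂ := ShortComplex.Splitting.ofExactOfRetraction S₂ hS₂ ρ' hρ' (inferInstance : Epi π)
  refine ⟨sp₂.s, sp₂.r ≫ sp₁.s, sp₂.s_g, ?_⟩
  have h1 : sp₂.r ≫ m + π ≫ sp₂.s = 𝟙 W := sp₂.id
  have h2 : (sp₂.r ≫ sp₁.s) ≫ τ = sp₂.r ≫ m := by
    rw [← hem, Category.assoc, ← Category.assoc sp₁.s e m, hσ, Category.id_comp]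
  rw [h2, add_comm]
  exact h1

section Main

variable (Φ : 𝒜 ⥤ 𝒜) [Φ.Additive] (ε : ∀ Y : 𝒜, Φ.obj Y ⟶ Y) (P : 𝒜 → Prop)

/-- the hypotheses on `(Φ, ε, P)`. -/
structure Hyp : Prop where
  sub : ∀ ⦃G' G : 𝒜⦄ (m : G' ⟶ G), Mono m → P G → P G'
  obj : ∀ Y : 𝒜, P (Φ.obj Y)
  nat : ∀ ⦃Y Y' : 𝒜⦄ (f : Y ⟶ Y'), Φ.map f ≫ ε Y' = ε Y ≫ f
  inj : ∀ (G Y : 𝒜), Function.Injective (fun ψ : G ⟶ Φ.obj Y => ψ ≫ ε Y)
  surj : ∀ (G Y : 𝒜), P G → Function.Surjective (fun ψ : G ⟶ Φ.obj Y => ψ ≫ ε Y)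

variable {Φ ε P}

lemma sInj_obj (h : Hyp Φ ε P) (Y : 𝒜) [Injective Y] : SInj P (Φ.obj Y) := by
  intro G' G m hm hG f
  haveI := hm
  obtain ⟨g, hg⟩ := h.surj G Y hG (Injective.factorThru (f ≫ ε Y) m)
  have hg' : g ≫ ε Y = Injective.factorThru (f ≫ ε Y) m := hg
  refine ⟨g, h.inj G' Y ?_⟩
  change (m ≫ g) ≫ ε Y = f ≫ ε Y
  rw [Category.assoc, hg', Injective.comp_factorThru]

variable {Z : 𝒜} (I : InjectiveResolution Z)

/-- the complex `Φ(I^•)`. -/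
abbrev JJ (Φ : 𝒜 ⥤ 𝒜) [Φ.Additive] {Z : 𝒜} (I : InjectiveResolution Z) : CochainComplex 𝒜 ℕ :=
  (Φ.mapHomologicalComplex (ComplexShape.up ℕ)).obj I.cocomplex

lemma P_X (h : Hyp Φ ε P) (a : ℕ) : P ((JJ Φ I).X a) := h.obj (I.cocomplex.X a)

lemma sInj_X (h : Hyp Φ ε P) (a : ℕ) : SInj P ((JJ Φ I).X a) :=
  sInj_obj h (I.cocomplex.X a)

lemma P_cycles (h : Hyp Φ ε P) (a : ℕ) : P ((JJ Φ I).cycles a) :=
  h.sub ((JJ Φ I).iCycles a) inferInstance (P_X I h a)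

lemma iCycles_toCycles (q : ℕ) : (JJ Φ I).iCycles q ≫ (JJ Φ I).toCycles q (q + 1) = 0 := by
  rw [← cancel_mono ((JJ Φ I).iCycles (q + 1)), Category.assoc, HomologicalComplex.toCycles_i,
    HomologicalComplex.iCycles_d, zero_comp]

/-- the cycles in degree `q` are the kernel of `J^q ⟶ Z^{q+1}`. -/
def kerToCycles (q : ℕ) :
    IsLimit (KernelFork.ofι ((JJ Φ I).iCycles q) (iCycles_toCycles (Φ := Φ) I q)) :=
  isKernelOfComp ((JJ Φ I).iCycles (q + 1)) ((JJ Φ I).d q (q + 1))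
    ((JJ Φ I).cyclesIsKernel q (q + 1) ((ComplexShape.up ℕ).next_eq' rfl))
    (iCycles_toCycles (Φ := Φ) I q) ((JJ Φ I).toCycles_i q (q + 1))

/-- the splitting in degree `q + 1`. -/
lemma exists_splitting_succ (h : Hyp Φ ε P) (q : ℕ) (hq : SInj P ((JJ Φ I).cycles q)) :
    ∃ (s : (JJ Φ I).homology (q + 1) ⟶ (JJ Φ I).cycles (q + 1))
      (ℓ : (JJ Φ I).cycles (q + 1) ⟶ (JJ Φ I).X q),
      s ≫ (JJ Φ I).homologyπ (q + 1) = 𝟙 _ ∧
        (JJ Φ I).homologyπ (q + 1) ≫ s + ℓ ≫ (JJ Φ I).toCycles q (q + 1) = 𝟙 _ :=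
  exists_splitting P h.sub ((JJ Φ I).toCycles q (q + 1)) ((JJ Φ I).homologyπ (q + 1))
    ((JJ Φ I).toCycles_comp_homologyπ q (q + 1))
    ((JJ Φ I).homologyIsCokernel q (q + 1) ((ComplexShape.up ℕ).prev_eq' rfl))
    ((JJ Φ I).iCycles q) (iCycles_toCycles (Φ := Φ) I q) (kerToCycles (Φ := Φ) I q) hq
    (sInj_X I h q) (P_X I h q) (P_cycles I h (q + 1))

lemma sInj_cycles (h : Hyp Φ ε P) (p : ℕ)
    (hvan : ∀ q, q ≤ p → IsZero ((JJ Φ I).homology q)) :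
    ∀ q, q ≤ p → SInj P ((JJ Φ I).cycles q) := by
  intro q
  induction q with
  | zero =>
    intro _
    exact sInj_of_isZero P ((hvan 0 (Nat.zero_le p)).of_iso
      (CochainComplex.isoHomologyπ₀ (JJ Φ I)))
  | succ q ih =>
    intro hq
    obtain ⟨s, ℓ, hs, hsum⟩ := exists_splitting_succ I h q (ih (by omega))
    have hπ0 : (JJ Φ I).homologyπ (q + 1) = 0 := (hvan (q + 1) hq).eq_of_tgt _ _
    rw [hπ0, zero_comp, zero_add] at hsum
    exact sInj_of_retract P ℓ ((JJ Φ I).toCycles q (q + 1)) hsum (sInj_X I h q)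

/-- the comparison `Φ(I^a) ⟶ I^a`. -/
def εJ (ε : ∀ Y : 𝒜, Φ.obj Y ⟶ Y) {Z : 𝒜} (I : InjectiveResolution Z) (a : ℕ) :
    (JJ Φ I).X a ⟶ I.cocomplex.X a := ε (I.cocomplex.X a)

lemma d_comp_eps (h : Hyp Φ ε P) (a b : ℕ) :
    (JJ Φ I).d a b ≫ εJ ε I b = εJ ε I a ≫ I.cocomplex.d a b :=
  h.nat (I.cocomplex.d a b)

lemma inj_J (h : Hyp Φ ε P) (G : 𝒜) (a : ℕ) :
    Function.Injective (fun ψ : G ⟶ (JJ Φ I).X a => ψ ≫ εJ ε I a) :=
  h.inj G (I.cocomplex.X a)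

lemma surj_J (h : Hyp Φ ε P) (G : 𝒜) (hG : P G) (a : ℕ) (g : G ⟶ I.cocomplex.X a) :
    ∃ g' : G ⟶ (JJ Φ I).X a, g' ≫ εJ ε I a = g :=
  h.surj G (I.cocomplex.X a) hG g

variable [HasExt.{w} 𝒜]

theorem exists_edge_succ (h : Hyp Φ ε P) (p : ℕ)
    (hvan : ∀ q, q ≤ p → IsZero ((JJ Φ I).homology q)) :
    ∃ u : Ext.{w} ((JJ Φ I).homology (p + 1)) Z (p + 1), ∀ G : 𝒜, P G →
      Function.Bijective (fun φ : G ⟶ (JJ Φ I).homology (p + 1) =>
        (Ext.mk₀ φ).comp u (zero_add (p + 1))) := by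
  obtain ⟨s, ℓ, hs, hsum⟩ := exists_splitting_succ I h p (sInj_cycles I h p hvan p le_rfl)
  let c : (JJ Φ I).homology (p + 1) ⟶ I.cocomplex.X (p + 1) :=
    s ≫ (JJ Φ I).iCycles (p + 1) ≫ εJ ε I (p + 1)
  have hc : c ≫ I.cocomplex.d (p + 1) (p + 2) = 0 := by
    simp only [c, Category.assoc]
    rw [← d_comp_eps I h (p + 1) (p + 2), HomologicalComplex.iCycles_d_assoc, zero_comp, comp_zero]
  refine ⟨I.extMk c (p + 2) rfl hc, fun G hG => ?_⟩
  have hσ : ∀ φ : G ⟶ (JJ Φ I).homology (p + 1),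
      (Ext.mk₀ φ).comp (I.extMk c (p + 2) rfl hc) (zero_add (p + 1)) =
      I.extMk (φ ≫ c) (p + 2) rfl (by rw [Category.assoc, hc, comp_zero]) :=
    fun φ => I.mk₀_comp_extMk c (p + 2) rfl hc φ
  constructor
  · intro φ φ' hφ
    have hφ' : I.extMk (φ ≫ c) (p + 2) rfl (by rw [Category.assoc, hc, comp_zero]) =
        I.extMk (φ' ≫ c) (p + 2) rfl (by rw [Category.assoc, hc, comp_zero]) := by
      rw [← hσ, ← hσ]; exact hφ
    have h0 := sub_eq_zero.mpr hφ'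
    rw [I.sub_extMk] at h0
    obtain ⟨g, hg⟩ := (I.extMk_eq_zero_iff _ (p + 2) rfl _ p rfl).mp h0
    obtain ⟨g', hg''⟩ := surj_J I h G hG p g
    have key : g' ≫ (JJ Φ I).d p (p + 1) = (φ - φ') ≫ s ≫ (JJ Φ I).iCycles (p + 1) := by
      apply inj_J I h G (p + 1)
      change (g' ≫ (JJ Φ I).d p (p + 1)) ≫ εJ ε I (p + 1) =
        ((φ - φ') ≫ s ≫ (JJ Φ I).iCycles (p + 1)) ≫ εJ ε I (p + 1)
      rw [Category.assoc, d_comp_eps I h, ← Category.assoc, hg'', hg]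
      simp only [c, Preadditive.sub_comp, Category.assoc]
    have key2 : g' ≫ (JJ Φ I).toCycles p (p + 1) = (φ - φ') ≫ s := by
      rw [← cancel_mono ((JJ Φ I).iCycles (p + 1)), Category.assoc,
        HomologicalComplex.toCycles_i, key, Category.assoc]
    have key3 : φ - φ' = 0 := by
      have h3 := congrArg (fun z => z ≫ (JJ Φ I).homologyπ (p + 1)) key2
      simp only [Category.assoc, HomologicalComplex.toCycles_comp_homologyπ, comp_zero, hs,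
        Category.comp_id] at h3
      exact h3.symm
    exact sub_eq_zero.mp key3
  · intro α
    obtain ⟨f, hf, rfl⟩ := I.extMk_surjective α (p + 2) rfl
    obtain ⟨f', hf''⟩ := surj_J I h G hG (p + 1) f
    have hf'd : f' ≫ (JJ Φ I).d (p + 1) (p + 2) = 0 := by
      apply inj_J I h G (p + 2)
      change (f' ≫ (JJ Φ I).d (p + 1) (p + 2)) ≫ εJ ε I (p + 2) = 0 ≫ εJ ε I (p + 2)
      rw [Category.assoc, d_comp_eps I h, ← Category.assoc, hf'', hf, zero_comp]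
    let f'' : G ⟶ (JJ Φ I).cycles (p + 1) :=
      (JJ Φ I).liftCycles f' (p + 2) ((ComplexShape.up ℕ).next_eq' rfl) hf'd
    have hf''i : f'' ≫ (JJ Φ I).iCycles (p + 1) = f' :=
      (JJ Φ I).liftCycles_i f' (p + 2) ((ComplexShape.up ℕ).next_eq' rfl) hf'd
    refine ⟨f'' ≫ (JJ Φ I).homologyπ (p + 1), ?_⟩
    change (Ext.mk₀ (f'' ≫ (JJ Φ I).homologyπ (p + 1))).comp _ (zero_add (p + 1)) = _
    rw [hσ]
    have e2 : (JJ Φ I).homologyπ (p + 1) ≫ s = 𝟙 _ - ℓ ≫ (JJ Φ I).toCycles p (p + 1) := by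
      rw [← hsum, add_sub_cancel_right]
    have e1 : (f'' ≫ (JJ Φ I).homologyπ (p + 1)) ≫ c =
        f - (f'' ≫ ℓ ≫ εJ ε I p) ≫ I.cocomplex.d p (p + 1) := by
      have e3 : (f'' ≫ (JJ Φ I).homologyπ (p + 1)) ≫ c =
          f'' ≫ ((JJ Φ I).homologyπ (p + 1) ≫ s) ≫ (JJ Φ I).iCycles (p + 1) ≫
            εJ ε I (p + 1) := by
        simp only [c, Category.assoc]
      rw [e3, e2, Preadditive.sub_comp, Preadditive.comp_sub, Category.id_comp,
        ← Category.assoc f'' ((JJ Φ I).iCycles (p + 1)), hf''i, hf'']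
      congr 1
      simp only [Category.assoc]
      rw [HomologicalComplex.toCycles_i_assoc, d_comp_eps I h]
    have h0 : I.extMk f (p + 2) rfl hf -
        I.extMk ((f'' ≫ (JJ Φ I).homologyπ (p + 1)) ≫ c) (p + 2) rfl
          (by rw [Category.assoc, hc, comp_zero]) = 0 := by
      rw [I.sub_extMk, I.extMk_eq_zero_iff _ (p + 2) rfl _ p rfl]
      refine ⟨f'' ≫ ℓ ≫ εJ ε I p, ?_⟩
      rw [e1, sub_sub_cancel]
    exact (sub_eq_zero.mp h0).symm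

variable [HasInjectiveResolutions 𝒜]

/-- **the edge isomorphism**: if `RᵠΦ(Z) = 0` for `q < r`, then `Hom(G, RʳΦ(Z)) ≃ Extʳ(G, Z)` for
`G` in `P`, induced by a universal class. -/
theorem exists_edge [PreservesFiniteLimits Φ] (h : Hyp Φ ε P) (Z : 𝒜) (r : ℕ)
    (hvan : ∀ q, q < r → IsZero ((Φ.rightDerived q).obj Z)) :
    ∃ u : Ext.{w} ((Φ.rightDerived r).obj Z) Z r, ∀ G : 𝒜, P G →
      Function.Bijective (fun φ : G ⟶ (Φ.rightDerived r).obj Z =>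
        (Ext.mk₀ φ).comp u (zero_add r)) := by
  cases r with
  | zero =>
    let e₀ : (Φ.rightDerived 0).obj Z ≅ Φ.obj Z := Φ.rightDerivedZeroIsoSelf.app Z
    refine ⟨Ext.mk₀ (e₀.hom ≫ ε Z), fun G hG => ?_⟩
    have hfun : (fun φ : G ⟶ (Φ.rightDerived 0).obj Z =>
        (Ext.mk₀ φ).comp (Ext.mk₀ (e₀.hom ≫ ε Z)) (zero_add 0)) =
        (Ext.mk₀ : (G ⟶ Z) → Ext.{w} G Z 0) ∘ (fun ψ : G ⟶ Φ.obj Z => ψ ≫ ε Z) ∘
          (fun φ : G ⟶ (Φ.rightDerived 0).obj Z => φ ≫ e₀.hom) := by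
      funext φ
      simp only [Function.comp_apply, Ext.mk₀_comp_mk₀, Category.assoc]
    rw [hfun]
    refine (Ext.mk₀_bijective G Z).comp (Function.Bijective.comp ⟨h.inj G Z, h.surj G Z hG⟩ ?_)
    constructor
    · intro φ φ' hφ
      exact (cancel_mono e₀.hom).mp hφ
    · intro ψ
      exact ⟨ψ ≫ e₀.inv, by simp⟩
  | succ p =>
    let I : InjectiveResolution Z := injectiveResolution Z
    have hvan' : ∀ q, q ≤ p → IsZero ((JJ Φ I).homology q) := fun q hq =>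
      (hvan q (by omega)).of_iso (I.isoRightDerivedObj Φ q).symm
    obtain ⟨u, hu⟩ := exists_edge_succ I h p hvan'
    let e : (Φ.rightDerived (p + 1)).obj Z ≅ (JJ Φ I).homology (p + 1) :=
      I.isoRightDerivedObj Φ (p + 1)
    refine ⟨(Ext.mk₀ e.hom).comp u (zero_add (p + 1)), fun G hG => ?_⟩
    have hfun : (fun φ : G ⟶ (Φ.rightDerived (p + 1)).obj Z =>
        (Ext.mk₀ φ).comp ((Ext.mk₀ e.hom).comp u (zero_add (p + 1))) (zero_add (p + 1))) =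
        (fun φ : G ⟶ (JJ Φ I).homology (p + 1) => (Ext.mk₀ φ).comp u (zero_add (p + 1))) ∘
          (fun φ : G ⟶ (Φ.rightDerived (p + 1)).obj Z => φ ≫ e.hom) := by
      funext φ
      simp only [Function.comp_apply, Ext.mk₀_comp_mk₀_assoc]
    rw [hfun]
    refine (hu G hG).comp ?_
    constructor
    · intro φ φ' hφ
      exact (cancel_mono e.hom).mp hφ
    · intro ψ
      exact ⟨ψ ≫ e.inv, by simp⟩

end Main

end Groth.Agent.LD.XS.LE
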