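import Groth.Agent.Lib.Lead.XS.RelDual
import Groth.Agent.Lib.Helper2.RpB6
import Groth.Agent.Lib.Helper2.MumT
import Groth.Agent.Lib.Helper8.TFunFlat
import Groth.Agent.Lib.Helper8.TFunFlatHomology
import Groth.Agent.Lib.Helper8.TFunLocal2

/-! # Projectivity of `H^0` from projectivity of `H^1` on relative curves (via the Mumford
complex) -/

set_option autoImplicit false
set_option linter.style.haveILetI false
noncomputable section
universe u
open CategoryTheory Limits Opposite AlgebraicGeometry TopologicalSpace

namespace Groth.Agent.LD.XS.MP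

open Groth.Agent.LD Groth.Agent.H2.Mum Groth.Agent.H8.TFun

/-- the cokernels of the differentials of a bounded below complex of flat modules with flat
homology in negative degrees are flat (in negative degrees). -/
theorem flat_coker_neg {A : Type u} [CommRing A] (P : ChainComplex (ModuleCat.{u} A) ℤ)
    (hPfl : ∀ i, Module.Flat A (P.X i)) (b : ℤ) (hPz : ∀ i, i < b → IsZero (P.X i))
    (hH : ∀ j : ℤ, j < 0 → Module.Flat A (P.homology j)) :
    ∀ (n : ℕ) (i j : ℤ), j + 1 = i → j < 0 → j < b + n →
      Module.Flat A (P.X j ⧸ LinearMap.range (P.d i j).hom) := by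
  intro n
  induction n with
  | zero =>
    intro i j hij hj hjb
    haveI : Subsingleton (P.X j) :=
      ModuleCat.subsingleton_of_isZero (hPz j (by simpa using hjb))
    haveI : Subsingleton (P.X j ⧸ LinearMap.range (P.d i j).hom) :=
      Function.Surjective.subsingleton (Submodule.mkQ_surjective _)
    infer_instance
  | succ n ih =>
    intro i j hij hj hjb
    by_cases hlt : j < b + n
    · exact ih i j hij hj hlt
    · haveI := hPfl (j - 1)
      haveI : Module.Flat A (P.X (j - 1) ⧸ LinearMap.range (P.d j (j - 1)).hom) :=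
        ih j (j - 1) (by ring) (by omega) (by push_cast at hjb; omega)
      exact (flat_coker_iff_flat_homology' P i j (j - 1) (by simp [← hij]) (by simp)).mpr
        (hH j hj)

/-- **S19060**: for a coherent module flat over a Noetherian ring `R` on a proper `R`-scheme
with fibres of dimension at most one, `H^0` is projective as soon as `H^1` is. -/
theorem projective_HH_zero (R : Type u) [CommRing R] [IsNoetherianRing R]
    (X : Scheme.{u}) [X.Over (Spec (CommRingCat.of R))] [IsProper (X ↘ Spec (CommRingCat.of R))]
    (hdim : ∀ s : Spec (CommRingCat.of R),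
      topologicalKrullDim ↥((X ↘ Spec (CommRingCat.of R)).fiber s) ≤ ((1 : ℕ) : WithBot ℕ∞))
    (F : X.Modules) (hF : Coh.IsCoh F) (hfl : FlatMod.IsFlatOver (X ↘ Spec (CommRingCat.of R)) F)
    (h1 : Module.Projective R (Coh.HH X F 1)) :
    Module.Projective R (Coh.HH X F 0) := by
  obtain ⟨ι, hfin, U, haff, hU, L, v, hL, ⟨b, hb⟩, hv, hq⟩ := exists_resolution' R X F hF hfl
  haveI := hfin
  haveI := hv
  haveI : F.IsQuasicoherent := hF.1
  have hPff : ∀ i, Module.Finite R ((flip L).X i) ∧ Module.Free R ((flip L).X i) :=
    flip_finite_free L hL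
  have hPfl : ∀ i, Module.Flat R ((flip L).X i) := fun i => (flip_finite_flat L hL i).2
  have hPz : ∀ i, i < -b → IsZero ((flip L).X i) := fun i hi =>
    IsZero.of_iso (hb (-i) (by omega)) (flipXIso L i)
  have hT1 : ∀ M : ModuleCat.{u} R, IsZero ((CohIII.TFun (flip L) 1).obj M) := fun M =>
    isZero_TFun_flip_pos R F U L v hq M 1 one_pos
  -- flatness of the homology in negative degrees
  have hHfl : ∀ j : ℤ, j < 0 → Module.Flat R ((flip L).homology j) := by
    intro j hj
    obtain ⟨m, rfl⟩ : ∃ m : ℕ, j = -(m : ℤ) := ⟨(-j).toNat, by omega⟩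
    have e := flipHomologyEquiv R F U L v haff hU m
    by_cases hm1 : m = 1
    · subst hm1
      haveI : Module.Flat R (Coh.HH X F 1) :=
        @Module.Flat.of_projective R (Coh.HH X F 1) _ _ _ h1
      exact Module.Flat.of_linearEquiv e
    · haveI : Subsingleton (Coh.HH X F m) :=
        RD.subsingleton_HH_of_fiber_dim (X ↘ Spec (CommRingCat.of R)) 1 hdim F hF m (by omega)
      haveI : Subsingleton ((flip L).homology (-(m : ℤ))) := e.toEquiv.subsingleton
      infer_instance
  have hW := flat_coker_neg (flip L) hPfl (-b) hPz hHfl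
  -- `W_0` is flat
  have hEpi1 : (CohIII.TFun (flip L) 1).PreservesEpimorphisms :=
    ⟨fun {M N} f _ => ⟨fun g h _ => (hT1 N).eq_of_src _ _⟩⟩
  haveI hW0 : Module.Flat R ((flip L).X 0 ⧸ LinearMap.range ((flip L).d 1 0).hom) :=
    (preservesEpi_iff_flat (flip L) hPfl 1 0 (by norm_num)).mp hEpi1
  haveI := hPfl (-1)
  haveI : Module.Flat R ((flip L).X (-1) ⧸ LinearMap.range ((flip L).d 0 (-1)).hom) :=
    hW (b.toNat + 1) 0 (-1) (by norm_num) (by norm_num) (by
      have := Int.self_le_toNat b
      push_cast
      omega)
  haveI hH0 : Module.Flat R ((flip L).homology 0) :=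
    (flat_coker_iff_flat_homology' (flip L) 1 0 (-1) (by simp) (by simp)).mp hW0
  haveI := (hPff 0).1
  haveI : Module.Finite R ((flip L).homology 0) := finite_homology (flip L) 0
  haveI : Module.FinitePresentation R ((flip L).homology 0) :=
    Module.finitePresentation_of_finite R _
  have hpr : Module.Projective R ((flip L).homology 0) :=
    Module.Flat.projective_of_finitePresentation
  have e0 := flipHomologyEquiv R F U L v haff hU 0
  have hz : (-((0 : ℕ) : ℤ)) = 0 := by simp
  rw [hz] at e0
  haveI := hpr
  exact Module.Projective.of_equiv e0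

end Groth.Agent.LD.XS.MP
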