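import Mathlib
import Groth.Agent.Lib.Helper5.RelC.J
import Groth.Agent.Lib.Helper5.Deg.Deg4

/-!
# Normally generated ample invertible modules are very ample (over an affine Noetherian base).
-/

set_option autoImplicit false
set_option linter.style.haveILetI false
universe u
open CategoryTheory CategoryTheory.Limits AlgebraicGeometry TopologicalSpace Opposite

namespace Groth.Agent.LD.XS.NG

open Groth.Agent.LD Groth.Agent.LD.QC Groth.Agent.LD.CL Groth.Agent.H5.SD Groth.Agent.H5.VAmple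

variable {X : Scheme.{u}}

lemma sectionOfHom_eq_val {M : X.Modules} (τ : unitMod X ⟶ M) :
    sectionOfHom τ = SecTwist.val τ ⊤ := by
  have h := val_homOfSection M (sectionOfHom τ) ⊤
  rw [homOfSection_sectionOfHom, res_self] at h
  exact h.symm

lemma homOfSection_tmul (M N : X.Modules) (a : Γ(M, ⊤)) (b : Γ(N, ⊤)) :
    homOfSection (CohB1.tensorMod M N) (SecTwist.tmul M N ⊤ a b) =
      SecTwist.tmulHom (homOfSection M a) (homOfSection N b) := by
  rw [← homOfSection_sectionOfHom (SecTwist.tmulHom (homOfSection M a) (homOfSection N b))]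
  congr 1
  rw [sectionOfHom_eq_val, SecTwist.val_tmulHom, ← sectionOfHom_eq_val, ← sectionOfHom_eq_val,
    sectionOfHom_homOfSection, sectionOfHom_homOfSection]

/-- restriction maps spans into spans. -/
lemma res_mem_span (M : X.Modules) {U : X.Opens} {T : Type*} (t : T → Γ(M, ⊤)) (y : Γ(M, ⊤))
    (hy : y ∈ Submodule.span Γ(X, ⊤) (Set.range t)) :
    M.presheaf.map (homOfLE (le_top : U ≤ ⊤)).op y ∈ Submodule.span Γ(X, U)
      (Set.range fun i => M.presheaf.map (homOfLE (le_top : U ≤ ⊤)).op (t i)) := by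
  induction hy using Submodule.span_induction with
  | mem y hy =>
    obtain ⟨p, rfl⟩ := hy
    exact Submodule.subset_span ⟨p, rfl⟩
  | zero => rw [map_zero]; exact Submodule.zero_mem _
  | add y z _ _ hy hz => rw [map_add]; exact Submodule.add_mem _ hy hz
  | smul a y _ hy => rw [smul_res]; exact Submodule.smul_mem _ _ hy

/-- if the sections of `M ⊗ N` are spanned by products and some section of `M ⊗ N` generates at
`x`, then some section of `N` generates at `x`. -/
lemma exists_mem_genLocus_right {M N : X.Modules} (hM : PicF.IsInvertible M)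
    (hN : PicF.IsInvertible N) (hspan : SpanAt M N) (σ : unitMod X ⟶ CohB1.tensorMod M N) (x : X)
    (hx : x ∈ CohB1.genLocus _ σ) : ∃ τ : unitMod X ⟶ N, x ∈ CohB1.genLocus N τ := by
  have he : IsBasisOver (CohB1.tensorMod M N) (CohB1.genLocus _ σ)
      (SecTwist.val σ (CohB1.genLocus _ σ)) := (le_genLocus_iff_isBasisOver _ σ _).mp le_rfl
  have h2 : SecTwist.val σ (CohB1.genLocus _ σ) =
      (CohB1.tensorMod M N).presheaf.map (homOfLE (le_top : CohB1.genLocus _ σ ≤ ⊤)).op
        (sectionOfHom σ) := by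
    rw [← val_homOfSection, homOfSection_sectionOfHom]
  have hmem : sectionOfHom σ ∈ Submodule.span Γ(X, ⊤) (Set.range
      (fun p : Γ(M, ⊤) × Γ(N, ⊤) => SecTwist.tmul M N ⊤ p.1 p.2)) := by
    rw [show Submodule.span Γ(X, ⊤) (Set.range
      (fun p : Γ(M, ⊤) × Γ(N, ⊤) => SecTwist.tmul M N ⊤ p.1 p.2)) = ⊤ from hspan]
    trivial
  obtain ⟨p, hp⟩ := exists_mem_genLocus_of_span (CohB1.tensorMod M N) x hx _ he
    (fun p : Γ(M, ⊤) × Γ(N, ⊤) => SecTwist.tmul M N ⊤ p.1 p.2)
    (by rw [h2]; exact res_mem_span _ _ _ hmem)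
  have hp' : x ∈ CohB1.genLocus (CohB1.tensorMod M N)
      (SecTwist.tmulHom (homOfSection M p.1) (homOfSection N p.2)) := by
    rw [← homOfSection_tmul]; exact hp
  rw [genLocus_tmulHom hM hN] at hp'
  exact ⟨_, hp'.2⟩

section main

variable (A : Type u) [CommRing A] [IsNoetherianRing A]
  (f : X ⟶ Spec (CommRingCat.of A)) [IsProper f]

/-- **normally generated ample ⇒ very ample** for proper `X` over a Noetherian ring. -/
theorem isRelVeryAmplePn_of_normallyGenerated (L : X.Modules) (hA : CohB1.IsAmple L)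
    (hng : ∀ n : ℕ, 1 ≤ n → AddSubgroup.closure {t | ∃ (m : (CohB1.tensorPow L n).val.obj (op ⊤))
      (s : L.val.obj (op ⊤)), t = SecTwist.tmul (CohB1.tensorPow L n) L ⊤ m s} = ⊤) :
    RelAmple.IsRelVeryAmplePn f L := by
  classical
  letI : X.Over (Spec (CommRingCat.of A)) := ⟨f⟩
  haveI : IsProper (X ↘ Spec (CommRingCat.of A)) := ‹IsProper f›
  have hL := hA.1
  haveI : CompactSpace X := hA.2.1
  haveI : L.IsQuasicoherent := qc_of_isInvertible _ hL
  have hLc : Coh.IsCoh L := Groth.Agent.H5.Curve2.isCoh_of_isInvertible hL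
  have hfin : Module.Finite A (Coh.HH X L 0) := Groth.Agent.S0002.result A X L hLc 0
  obtain ⟨b, σ₀, hσ₀⟩ := hfin.exists_fin
  let s : Fin (b + 1) → ProjUP.Γm L := Fin.cons 0 (fun j => HH0Equiv L (σ₀ j))
  have H1 : ∀ t : ProjUP.Γm L, ∃ c : Fin (b + 1) → Γ(X, ⊤),
      (∀ l, c l ∈ Set.range f.appTop.hom) ∧ t = ∑ l, c l • s l := by
    intro t
    have hx : (HH0Equiv L).symm t ∈ Submodule.span A (Set.range σ₀) := by rw [hσ₀]; trivial
    obtain ⟨c, hc⟩ := (Submodule.mem_span_range_iff_exists_fun A).1 hx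
    refine ⟨Fin.cons 0 (fun j => (show Γ(X, ⊤) from Coh.toGlobal f (c j))), ?_, ?_⟩
    · intro l
      refine Fin.cases ?_ (fun j => ?_) l
      · exact ⟨0, map_zero _⟩
      · exact ⟨(Scheme.ΓSpecIso (CommRingCat.of A)).inv.hom (c j), rfl⟩
    · rw [Fin.sum_univ_succ]
      simp only [Fin.cons_zero, Fin.cons_succ, s]
      rw [zero_smul, zero_add]
      have h1 : t = HH0Equiv L (∑ j, c j • σ₀ j) := by rw [hc, AddEquiv.apply_symm_apply]
      rw [h1, map_sum]
      refine Finset.sum_congr rfl (fun j _ => ?_)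
      exact HH0Equiv_smul L (Coh.toGlobal f (c j)) (σ₀ j)
  have H2 : ∀ N : ℕ, Submodule.span Γ(X, ⊤)
      (Set.range (fun p : Γ(CohB1.tensorPow L N, ⊤) × Γ(L, ⊤) =>
        SecTwist.tmul (CohB1.tensorPow L N) L ⊤ p.1 p.2)) = ⊤ := by
    intro N
    rcases Nat.eq_zero_or_pos N with rfl | hN
    · exact spanAt_unit L
    · have hle : AddSubgroup.closure {t | ∃ (m : (CohB1.tensorPow L N).val.obj (op ⊤))
          (s : L.val.obj (op ⊤)), t = SecTwist.tmul (CohB1.tensorPow L N) L ⊤ m s} ≤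
          (Submodule.span Γ(X, ⊤) (Set.range (fun p : Γ(CohB1.tensorPow L N, ⊤) × Γ(L, ⊤) =>
            SecTwist.tmul (CohB1.tensorPow L N) L ⊤ p.1 p.2))).toAddSubgroup := by
        rw [AddSubgroup.closure_le]
        rintro t ⟨m, s', rfl⟩
        exact Submodule.subset_span ⟨(m, s'), rfl⟩
      rw [hng N hN] at hle
      rw [eq_top_iff]
      intro t _
      exact hle (AddSubgroup.mem_top t)
  have hpt : ∀ x : X, ∃ τ : unitMod X ⟶ L, x ∈ CohB1.genLocus L τ := by
    intro x
    obtain ⟨m, σ, hm, hx⟩ := Groth.Agent.H5.Deg.exists_section_mem_genLocus L hA x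
    obtain ⟨n, rfl⟩ : ∃ n, m = n + 1 := ⟨m - 1, by omega⟩
    exact exists_mem_genLocus_right (isInvertible_tensorPow hL n) hL (H2 n) σ x hx
  have hgen : ∀ x : X, ∃ l, x ∈ CohB1.genLocus L (homOfSection L (s l)) := by
    intro x
    obtain ⟨τ, hk⟩ := hpt x
    have he : IsBasisOver L (CohB1.genLocus L τ) (SecTwist.val τ (CohB1.genLocus L τ)) :=
      (le_genLocus_iff_isBasisOver L τ _).mp le_rfl
    apply exists_mem_genLocus_of_span L x hk _ he s
    obtain ⟨c, -, hc⟩ := H1 (sectionOfHom τ)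
    have h2 : SecTwist.val τ (CohB1.genLocus L τ) =
        L.presheaf.map (homOfLE (le_top : CohB1.genLocus L τ ≤ ⊤)).op (sectionOfHom τ) := by
      rw [← val_homOfSection, homOfSection_sectionOfHom]
    rw [h2, hc, map_sum]
    refine Submodule.sum_mem _ (fun l _ => ?_)
    rw [smul_res]
    exact Submodule.smul_mem _ _ (Submodule.subset_span ⟨l, rfl⟩)
  have hs : ProjUP.GeneratedBy L s := generatedBy_of_forall_mem_genLocus L s hgen
  have himm := isImmersion_toPn_of_generated f L hA s hs H1 H2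
  exact ⟨b, toPn f L hL s hs, himm, toPn_toBase f L hL s hs, nonempty_iso_toPn f L hL s hs⟩

end main

end Groth.Agent.LD.XS.NG
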