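import Groth.Agent.Lib.Lead.FPExt.Filt
import Groth.Agent.Lib.Lead.Colim.Main
import Groth.Agent.Lib.Lead.Colim.Top
import Groth.Agent.Lib.Lead.SC.Global
import Groth.Agent.Lib.Lead.SC.CohDim
import Groth.Agent.Lib.Lead.CohLES.Dual
import Groth.Agent.Lib.Lead.XS.DualTrace
import Groth.Agent.Lib.Lead.PN.Dual2
import Groth.Agent.Lib.Lead.PN.Finite
import Groth.Agent.Lib.Lead.QC.SerreSupp
import Groth.Agent.Lib.Lead.RR.OmegaInv
import Groth.Prelude.Def_Canon

/-! # Dualizing pairs: from finitely presented modules to all quasi-coherent modules -/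

set_option autoImplicit false
set_option linter.style.haveILetI false
noncomputable section
universe u
open CategoryTheory Limits Opposite Abelian AlgebraicGeometry TopologicalSpace

namespace Groth.Agent.LD.XS.QD

open Groth.Agent.LD

variable {X : Scheme.{u}}

/-- naturality of the comparison between global cohomology and cohomology over `⊤`. -/
lemma HEquiv_map {F G : Sheaf (SC.JX X) AddCommGrpCat.{u}} (f : F ⟶ G) (n : ℕ)
    (z : Sheaf.H F n) :
    SC.HEquiv (T := (⊤ : X.Opens)) Limits.isTerminalTop G n (Sheaf.H.map f n z) =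
      Colim.pc f (SC.HEquiv (T := (⊤ : X.Opens)) Limits.isTerminalTop F n z) := by
  change (Ext.mk₀ _).comp (Sheaf.H.map f n z) (zero_add n) =
    ((Ext.mk₀ _).comp z (zero_add n)).comp (Ext.mk₀ f) (add_zero n)
  rw [Sheaf.H.map_apply]
  exact (Ext.comp_assoc_of_third_deg_zero _ _ _ (zero_add n)).symm

lemma pc_id' {F : Sheaf (SC.JX X) AddCommGrpCat.{u}} {Z : Sheaf (SC.JX X) AddCommGrpCat.{u}}
    {q : ℕ} (x : Ext Z F q) : Colim.pc (𝟙 F) x = x := by
  unfold Colim.pc
  exact Ext.comp_mk₀_id x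

/-- **every class in `H^n` of a filtered colimit of modules on a qcqs scheme comes from a
stage.** -/
theorem HH_jointly_surjective [CompactSpace X] [QuasiSeparatedSpace X]
    {I : Type u} [SmallCategory I] [IsFiltered I] {D : I ⥤ X.Modules} {c : Cocone D}
    (hc : IsColimit c) (n : ℕ) (x : Coh.HH X c.pt n) :
    ∃ (i : I) (y : Coh.HH X (D.obj i) n),
      Sheaf.H.map ((SheafOfModules.toSheaf X.ringCatSheaf).map (c.ι.app i)) n y = x := by
  have hc' := isColimitOfPreserves (SheafOfModules.toSheaf X.ringCatSheaf) hc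
  let D' := D ⋙ SheafOfModules.toSheaf X.ringCatSheaf
  let e := hc'.coconePointUniqueUpToIso (colimit.isColimit D')
  have he : ∀ i, (SheafOfModules.toSheaf X.ringCatSheaf).map (c.ι.app i) ≫ e.hom =
      colimit.ι D' i := fun i => hc'.comp_coconePointUniqueUpToIso_hom _ i
  have hS := (Colim.surjP_injP Colim.basis_qc (U := (⊤ : X.Opens))
    ⟨isCompact_univ, IsQuasiSeparated.of_quasiSeparatedSpace _⟩ n D').1
  let x1 := SC.HEquiv (T := (⊤ : X.Opens)) Limits.isTerminalTop
    ((SheafOfModules.toSheaf X.ringCatSheaf).obj c.pt) n x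
  obtain ⟨i, y, hy⟩ := hS (Colim.pc e.hom x1)
  refine ⟨i, (SC.HEquiv (T := (⊤ : X.Opens)) Limits.isTerminalTop
    ((SheafOfModules.toSheaf X.ringCatSheaf).obj (D.obj i)) n).symm y, ?_⟩
  apply (SC.HEquiv (T := (⊤ : X.Opens)) Limits.isTerminalTop
    ((SheafOfModules.toSheaf X.ringCatSheaf).obj c.pt) n).injective
  rw [HEquiv_map, AddEquiv.apply_symm_apply]
  have h1 : Colim.pc e.hom
      (Colim.pc ((SheafOfModules.toSheaf X.ringCatSheaf).map (c.ι.app i)) y) =
      Colim.pc e.hom x1 := by
    rw [Colim.pc_comp, he i]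
    exact hy
  have h2 := congrArg (Colim.pc e.inv) h1
  have h3 : ∀ w : Abelian.Ext (SC.ZU (Opens.grothendieckTopology X) (⊤ : X.Opens))
      ((SheafOfModules.toSheaf X.ringCatSheaf).obj c.pt) n,
      Colim.pc e.inv (Colim.pc e.hom w) = w := fun w => by
    rw [Colim.pc_comp, e.hom_inv_id]
    exact pc_id' w
  rw [h3, h3] at h2
  exact h2

/-- **dualizing for finitely presented modules implies dualizing for all quasi-coherent
modules** (qcqs scheme over an affine base). -/
theorem isDualFor_of_fp (A : Type u) [CommRing A] [X.Over (Spec (CommRingCat.of A))]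
    [CompactSpace X] [QuasiSeparatedSpace X] (n : ℕ) (ω : X.Modules)
    (t : Coh.HH X ω n →ₗ[A] A)
    (h : ∀ F : X.Modules, F.IsFinitePresentation → CL.IsDualFor A n ω t F)
    (F : X.Modules) [F.IsQuasicoherent] : CL.IsDualFor A n ω t F := by
  obtain ⟨I, _, _, D, c, hc, hfp, rfl⟩ := FPExt.exists_filtered_colimit_fp F
  have hi := fun i => (CL.isDualFor_iff A n ω t (D.obj i)).mp (h _ (hfp i))
  rw [CL.isDualFor_iff]
  constructor
  · intro φ φ' hφ
    apply hc.hom_ext
    intro i
    apply (hi i).1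
    rw [CL.Θ_comp, CL.Θ_comp, hφ]
  · intro ψ
    choose φi hφi using fun i => (hi i).2 (ψ.comp (CL.HHmap A (c.ι.app i) n))
    let s : Cocone D :=
      { pt := ω
        ι :=
          { app := φi
            naturality := by
              intro i j u
              simp only [Functor.const_obj_obj, Functor.const_obj_map, Category.comp_id]
              apply (hi i).1
              rw [CL.Θ_comp, hφi j, hφi i, LinearMap.comp_assoc, ← CL.HHmap_comp, c.w u] } }
    refine ⟨hc.desc s, ?_⟩
    apply LinearMap.ext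
    intro x
    obtain ⟨i, y, rfl⟩ := HH_jointly_surjective hc n x
    have h1 : CL.Θ A n t (c.ι.app i ≫ hc.desc s) = ψ.comp (CL.HHmap A (c.ι.app i) n) := by
      rw [hc.fac]
      exact hφi i
    rw [CL.Θ_comp] at h1
    exact LinearMap.congr_fun h1 y

/-- the bridge to `Canon.IsRDualOver`. -/
theorem isRDualOver_of_fp (A : Type u) [CommRing A] [X.Over (Spec (CommRingCat.of A))]
    [CompactSpace X] [QuasiSeparatedSpace X] (n : ℕ) (ω : X.Modules) (hω : ω.IsQuasicoherent)
    (t : Coh.HH X ω n →ₗ[A] A)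
    (h : ∀ F : X.Modules, F.IsFinitePresentation → CL.IsDualFor A n ω t F) :
    Canon.IsRDualOver A X n ω t := by
  refine ⟨hω, fun F hF => ?_⟩
  haveI : F.IsQuasicoherent := hF
  exact (CL.isDualFor_iff A n ω t F).mp (isDualFor_of_fp A n ω t h F)

open scoped ZeroObject in
/-- **existence of a coherent `r`-dualizing pair on a closed subscheme of `P^n_k` of dimension
at most `r`** (for all quasi-coherent modules). -/
theorem exists_rdual (n : ℕ) (k : Type u) [Field k] [X.Over (Spec (CommRingCat.of k))]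
    (ι : X ⟶ Proj (CohB1.polyGrading n k)) [IsClosedImmersion ι]
    (hι : ι ≫ CohB1.ProjSpace.toSpec n k = X ↘ Spec (CommRingCat.of k)) (r : ℕ)
    (hdim : topologicalKrullDim X ≤ (r : WithBot ℕ∞)) :
    ∃ (ω : X.Modules) (tr : Coh.HH X ω r →ₗ[k] k),
      Coh.IsCoh ω ∧ Canon.IsRDualOver k X r ω tr := by
  haveI : CompactSpace X := QuasiCompact.compactSpace_of_compactSpace ι
  haveI : IsLocallyNoetherian X := LocallyOfFiniteType.isLocallyNoetherian ι
  haveI : QuasiSeparatedSpace X := inferInstance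
  by_cases hrn : r ≤ n
  · haveI hinjres : HasInjectiveResolutions (ModSite.Mod (Proj (CohB1.polyGrading n k)).sheaf) :=
      Groth.Agent.LD.QCQS.hasInjRes (Proj (CohB1.polyGrading n k))
    have hd' : topologicalKrullDim X + ((n - r : ℕ) : WithBot ℕ∞) ≤ (n : WithBot ℕ∞) := by
      have h1 : ((r : ℕ) : WithBot ℕ∞) + ((n - r : ℕ) : WithBot ℕ∞) = (n : WithBot ℕ∞) := by
        rw [← Nat.cast_add, Nat.add_sub_cancel' hrn]
      exact (add_le_add_left hdim _).trans h1.le
    obtain ⟨ω₀, hω₀c, ⟨e₀⟩⟩ := DT.exists_dualizing_module n k ι r hd'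
    obtain ⟨t₀, ht₀⟩ := DZ.exists_dualizing' n k ι hι r hrn hdim ω₀ ⟨e₀⟩
    refine ⟨ω₀, t₀, hω₀c, isRDualOver_of_fp k r ω₀ hω₀c.1 t₀ (fun F hF => ht₀ F ?_)⟩
    haveI := hF
    exact ⟨inferInstance, inferInstance⟩
  · push Not at hrn
    have hZ : IsZero (0 : X.Modules) := isZero_zero _
    have hc : Coh.IsCoh (0 : X.Modules) := QC.isCoh_of_isZero (PF.isCoh_unitMod X) hZ
    refine ⟨0, 0, hc, hc.1, fun F hF => ?_⟩
    haveI : F.IsQuasicoherent := hF
    haveI : ((Scheme.Modules.pushforward ι).obj F).IsQuasicoherent := QC.qc_pushforward ι F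
    have hsub : Subsingleton (Coh.HH X F r) := by
      rw [← CL.subsingleton_HH_push_iff ι F r]
      exact PN.subsingleton_HH_of_lt n k _ r hrn
    constructor
    · intro φ φ' _
      exact hZ.eq_of_tgt _ _
    · intro ψ
      refine ⟨0, ?_⟩
      apply LinearMap.ext
      intro x
      rw [Subsingleton.elim x 0]
      simp

end Groth.Agent.LD.XS.QD
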