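import Groth.Agent.Lib.Lead.XS.Vanish
import Groth.Agent.Lib.Lead.XS.H0Coker
import Groth.Agent.Lib.Helper2.HomSh4
import Groth.Agent.Lib.Helper1.CohLen
import Groth.Agent.H4.FAmp8
import Mathlib.Algebra.Homology.DerivedCategory.Ext.Linear

/-!
# The stalks of the local Ext sheaves

On a locally Noetherian scheme with enough finite locally free modules, for `F` coherent and `G`
arbitrary: `𝓔xt^i(F, G)_x ≃ Ext^i_{O_x}(F_x, G_x)`, linearly over the local ring.
-/

set_option autoImplicit false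
set_option linter.style.haveILetI false
noncomputable section
universe u
open CategoryTheory Limits AlgebraicGeometry TopologicalSpace Opposite Abelian

attribute [-instance] Groth.Agent.LD.QC.stalkModule
attribute [local instance] Groth.Agent.LD.MS.hasSheafHom

namespace Groth.Agent.LD.XS.StalkExt

open Groth.Agent.H2.HomSh Groth.Agent.LD Groth.Agent.LD.PD.HA Groth.Agent.H1.CohLen
  Groth.Agent.H1.SchFlat

section ExtSide

universe w v' u'
variable {C : Type u'} [Category.{v'} C] [Abelian C] (A : Type*) [CommRing A] [Linear A C]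
  [HasExt.{w} C] {S : ShortComplex C} (hS : S.ShortExact) (G : C)

/-- the connecting map `Hom(S.X₁, G) → Ext¹(S.X₃, G)`. -/
def extConn : (S.X₁ ⟶ G) →ₗ[A] Ext S.X₃ G 1 :=
  (hS.extClass.precompOfLinear A G (show 1 + 0 = 1 from rfl)).comp
    (Ext.linearEquiv₀ (R := A)).symm.toLinearMap

lemma extConn_apply (ψ : S.X₁ ⟶ G) :
    extConn A hS G ψ = hS.extClass.comp (Ext.mk₀ ψ) (show 1 + 0 = 1 from rfl) := by
  change hS.extClass.comp ((Ext.linearEquiv₀ (R := A)).symm ψ) (show 1 + 0 = 1 from rfl) = _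
  rw [Ext.linearEquiv₀_symm_apply]

lemma extConn_surjective (hE1 : Subsingleton (Ext S.X₂ G 1)) :
    Function.Surjective (extConn A hS G) := by
  intro x₃
  obtain ⟨x₁, hx₁⟩ := Ext.contravariant_sequence_exact₃ hS G x₃ (Subsingleton.elim _ _)
    (show 1 + 0 = 1 from rfl)
  refine ⟨Ext.linearEquiv₀ (R := A) x₁, ?_⟩
  rw [extConn_apply, Ext.mk₀_linearEquiv₀_apply]
  exact hx₁

lemma extConn_comp (φ : S.X₂ ⟶ G) : extConn A hS G (S.f ≫ φ) = 0 := by
  rw [extConn_apply, ← Ext.mk₀_comp_mk₀, ← Ext.comp_assoc_of_second_deg_zero, hS.extClass_comp,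
    Ext.zero_comp]

lemma extConn_exact (ψ : S.X₁ ⟶ G) (h : extConn A hS G ψ = 0) :
    ∃ φ : S.X₂ ⟶ G, S.f ≫ φ = ψ := by
  rw [extConn_apply] at h
  obtain ⟨x₂, hx₂⟩ := Ext.contravariant_sequence_exact₁ hS G (Ext.mk₀ ψ)
    (show 1 + 0 = 1 from rfl) h
  refine ⟨Ext.linearEquiv₀ (R := A) x₂, ?_⟩
  apply (Ext.linearEquiv₀ (R := A)).symm.injective
  rw [Ext.linearEquiv₀_symm_apply, Ext.linearEquiv₀_symm_apply, ← Ext.mk₀_comp_mk₀,
    Ext.mk₀_linearEquiv₀_apply]
  exact hx₂

include hS in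
/-- dimension shifting for `Ext`, linearly. -/
theorem nonempty_ext_shift (i : ℕ) (h1 : Subsingleton (Ext S.X₂ G (i + 1)))
    (h2 : Subsingleton (Ext S.X₂ G (i + 2))) :
    Nonempty (Ext S.X₁ G (i + 1) ≃ₗ[A] Ext S.X₃ G (i + 2)) := by
  refine ⟨LinearEquiv.ofBijective
    (hS.extClass.precompOfLinear A G (show 1 + (i + 1) = i + 2 by omega)) ⟨?_, ?_⟩⟩
  · rw [injective_iff_map_eq_zero]
    intro x hx
    obtain ⟨x₂, hx₂⟩ := Ext.contravariant_sequence_exact₁ hS G x
      (show 1 + (i + 1) = i + 2 by omega) hx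
    rw [← hx₂, Subsingleton.elim x₂ 0, Ext.comp_zero]
  · intro x₃
    exact Ext.contravariant_sequence_exact₃ hS G x₃ (Subsingleton.elim _ _)
      (show 1 + (i + 1) = i + 2 by omega)

end ExtSide

section Hom

variable {R : Type u} [CommRing R]

/-- morphisms in `ModuleCat` as linear maps, linearly (for the `Linear` structure). -/
def homEquivLin (M N : ModuleCat.{u} R) : (M ⟶ N) ≃ₗ[R] (M →ₗ[R] N) where
  toFun f := f.hom
  invFun g := ModuleCat.ofHom g
  map_add' _ _ := rfl
  map_smul' _ _ := rfl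
  left_inv _ := rfl
  right_inv _ := rfl

end Hom

variable {X : Scheme.{u}}

lemma stalkFun_comp {A B C : X.Modules} (u : A ⟶ B) (v : B ⟶ C) (x : X)
    (m : A.presheaf.stalk x) : stalkFun (u ≫ v) x m = stalkFun v x (stalkFun u x m) := by
  obtain ⟨U, hxU, s, rfl⟩ := TopCat.Presheaf.exists_germ_eq A.presheaf m
  rw [stalkFun_germ, stalkFun_germ, stalkFun_germ]
  rfl

/-- exactness of the stalks of a cokernel presentation. -/
theorem stalk_cokernel_exact {A B : X.Modules} (f : A ⟶ B) (x : X) :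
    Function.Surjective (stalkFun (cokernel.π f) x) ∧
    (∀ a, stalkFun (cokernel.π f) x (stalkFun f x a) = 0) ∧
    ∀ b, stalkFun (cokernel.π f) x b = 0 → ∃ a, stalkFun f x a = b := by
  refine ⟨stalkFun_surjective_of_epi _ x,
    fun a => stalkFun_comp_eq_zero f _ (cokernel.condition f) x a, ?_⟩
  intro b hb
  let T : ShortComplex X.Modules :=
    ShortComplex.mk (kernel.ι (cokernel.π f)) (cokernel.π f) (kernel.condition _)
  have hT : T.ShortExact :=
    { exact := ShortComplex.exact_of_f_is_kernel _ (kernelIsKernel _)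
      mono_f := inferInstanceAs (Mono (kernel.ι (cokernel.π f)))
      epi_g := inferInstanceAs (Epi (cokernel.π f)) }
  obtain ⟨κ, hκ⟩ := (stalkFun_exact T hT x b).mp hb
  let S3 : ShortComplex X.Modules := ShortComplex.mk f (cokernel.π f) (cokernel.condition f)
  have hS3 : S3.Exact := ShortComplex.exact_of_g_is_cokernel _ (cokernelIsCokernel f)
  haveI : Epi (kernel.lift (cokernel.π f) f (cokernel.condition f)) :=
    S3.exact_iff_epi_kernel_lift.mp hS3
  obtain ⟨a, ha⟩ := stalkFun_surjective_of_epi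
    (kernel.lift (cokernel.π f) f (cokernel.condition f)) x κ
  refine ⟨a, ?_⟩
  have h1 : kernel.lift (cokernel.π f) f (cokernel.condition f) ≫ kernel.ι (cokernel.π f) = f :=
    kernel.lift_ι _ _ _
  calc stalkFun f x a
      = stalkFun (kernel.lift (cokernel.π f) f (cokernel.condition f) ≫
          kernel.ι (cokernel.π f)) x a := by rw [h1]
    _ = stalkFun (kernel.ι (cokernel.π f)) x (stalkFun
          (kernel.lift (cokernel.π f) f (cokernel.condition f)) x a) := stalkFun_comp _ _ x a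
    _ = b := by rw [ha]; exact hκ

/-- the linear equivalence of stalks induced by an isomorphism. -/
def stalkEquivOfIso {M N : X.Modules} (e : M ≅ N) (x : X) :
    M.presheaf.stalk x ≃ₗ[X.presheaf.stalk x] N.presheaf.stalk x :=
  ((DerSch.stalkFunctor X x).mapIso e).toLinearEquiv

variable [HasInjectiveResolutions (ModSite.Mod X.sheaf)]

/-- degree one. -/
theorem nonempty_stalk_ext_one [IsLocallyNoetherian X] {S : ShortComplex X.Modules}
    (hS : S.ShortExact) (hL : FlatMod.IsFinLocFree S.X₂)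
    (hK : Coh.IsCoh S.X₁) (hLc : Coh.IsCoh S.X₂) (G : X.Modules) (x : X) :
    Nonempty (((DerSch.stalkFunctor X x).obj ((ModSite.extSh (O := X.sheaf) S.X₃ 1).obj G))
      ≃ₗ[X.presheaf.stalk x]
      Ext (ModuleCat.of (X.presheaf.stalk x) (S.X₃.presheaf.stalk x))
        (ModuleCat.of (X.presheaf.stalk x) (G.presheaf.stalk x)) 1) := by
  haveI := hK.1
  haveI := hLc.1
  haveI := hS.mono_f
  haveI := hS.epi_g
  have hfpK := QC.isFinitePresentation_of_qc_ft S.X₁ hK.1 hK.2
  have hfpL := QC.isFinitePresentation_of_qc_ft S.X₂ hLc.1 hLc.2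
  obtain ⟨ec⟩ := Groth.Agent.LD.XS.nonempty_cokernel_iso hS hL G
  obtain ⟨h1, h2, h3⟩ := stalk_cokernel_exact (preHom S.f G) x
  -- the short exact sequence of stalks
  let Sx : ShortComplex (ModuleCat.{u} (X.presheaf.stalk x)) :=
    ShortComplex.moduleCatMk (stalkLin S.f x) (stalkLin S.g x)
      (LinearMap.ext fun m => stalkFun_comp_eq_zero S.f S.g S.zero x m)
  have hSx : Sx.ShortExact :=
    ModuleCat.shortComplex_shortExact Sx (stalkFun_exact S hS x)
      (stalkFun_injective_of_mono S.f x) (stalkFun_surjective_of_epi S.g x)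
  obtain ⟨hfree, hfin⟩ := Groth.Agent.H4.FAmp8.free_finite_stalk_of_lfAt S.X₂ x (hL x)
  haveI : Module.Free (X.presheaf.stalk x) (S.X₂.presheaf.stalk x) := hfree
  haveI hproj : Projective (ModuleCat.of (X.presheaf.stalk x) (S.X₂.presheaf.stalk x)) :=
    (IsProjective.iff_projective _).mp inferInstance
  haveI : Projective Sx.X₂ := hproj
  have hE1 : Subsingleton (Ext Sx.X₂ (ModuleCat.of (X.presheaf.stalk x) (G.presheaf.stalk x)) 1) :=
    Ext.subsingleton_of_projective _ _ 0
  let Gx : ModuleCat.{u} (X.presheaf.stalk x) :=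
    ModuleCat.of (X.presheaf.stalk x) (G.presheaf.stalk x)
  let τ₁ : (RefHull.homSh S.X₂ G).presheaf.stalk x ≃ₗ[X.presheaf.stalk x] (Sx.X₂ ⟶ Gx) :=
    (LinearEquiv.ofBijective (RefHull.evalStalk S.X₂ G x) (evalStalk_bijective hfpL x)) ≪≫ₗ
      (homEquivLin Sx.X₂ Gx).symm
  let τ₂ : (RefHull.homSh S.X₁ G).presheaf.stalk x ≃ₗ[X.presheaf.stalk x] (Sx.X₁ ⟶ Gx) :=
    (LinearEquiv.ofBijective (RefHull.evalStalk S.X₁ G x) (evalStalk_bijective hfpK x)) ≪≫ₗ
      (homEquivLin Sx.X₁ Gx).symm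
  obtain ⟨Θ⟩ := Groth.Agent.LD.XS.nonempty_linearEquiv_of_coker
    (stalkLin (preHom S.f G) x) (stalkLin (cokernel.π (preHom S.f G)) x) h1 h2 h3
    (Linear.leftComp (X.presheaf.stalk x) Gx Sx.f)
    (extConn (X.presheaf.stalk x) hSx Gx)
    (extConn_surjective (X.presheaf.stalk x) hSx Gx hE1)
    (fun φ => extConn_comp (X.presheaf.stalk x) hSx Gx φ)
    (fun ψ hψ => extConn_exact (X.presheaf.stalk x) hSx Gx ψ hψ)
    τ₁ τ₂ (by
      intro y
      change ModuleCat.ofHom (RefHull.evalStalk S.X₁ G x (RefHull.stalkMapₗ (preHom S.f G) x y)) =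
        ModuleCat.ofHom (stalkLin S.f x) ≫ ModuleCat.ofHom (RefHull.evalStalk S.X₂ G x y)
      rw [evalStalk_preHom]
      rfl)
  exact ⟨(stalkEquivOfIso ec x).symm ≪≫ₗ Θ⟩

/-- **the stalks of the local Ext sheaves.** -/
theorem nonempty_stalk_extSh_equiv [IsLocallyNoetherian X] (hX : HasRes X) (x : X) :
    ∀ (i : ℕ) (F : X.Modules), Coh.IsCoh F → ∀ (G : X.Modules),
      Nonempty (((DerSch.stalkFunctor X x).obj ((ModSite.extSh (O := X.sheaf) F i).obj G))
        ≃ₗ[X.presheaf.stalk x]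
        Ext (ModuleCat.of (X.presheaf.stalk x) (F.presheaf.stalk x))
          (ModuleCat.of (X.presheaf.stalk x) (G.presheaf.stalk x)) i) := by
  intro i
  induction i with
  | zero =>
    intro F hF G
    haveI := hF.1
    have hfp := QC.isFinitePresentation_of_qc_ft F hF.1 hF.2
    obtain ⟨e⟩ := Groth.Agent.LD.XS.nonempty_zero_iso F G
    let Fx : ModuleCat.{u} (X.presheaf.stalk x) :=
      ModuleCat.of (X.presheaf.stalk x) (F.presheaf.stalk x)
    let Gx : ModuleCat.{u} (X.presheaf.stalk x) :=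
      ModuleCat.of (X.presheaf.stalk x) (G.presheaf.stalk x)
    exact ⟨(stalkEquivOfIso e x).symm ≪≫ₗ
      (LinearEquiv.ofBijective (RefHull.evalStalk F G x) (evalStalk_bijective hfp x)) ≪≫ₗ
      (homEquivLin Fx Gx).symm ≪≫ₗ (Ext.linearEquiv₀ (R := X.presheaf.stalk x)).symm⟩
  | succ i ih =>
    intro F hF G
    obtain ⟨K, L, ι, π, w, hS, hL, hK⟩ := Groth.Agent.LD.XS.exists_ses hX F hF
    have hLc : Coh.IsCoh L :=
      ⟨QC.qc_of_isFinLocFree L hL,
        haveI := QC.isFinitePresentation_of_isFinLocFree L hL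
        inferInstance⟩
    cases i with
    | zero => exact nonempty_stalk_ext_one (S := ShortComplex.mk ι π w) hS hL hK hLc G x
    | succ i =>
      obtain ⟨Θ⟩ := ih K hK G
      obtain ⟨es⟩ := Groth.Agent.LD.XS.nonempty_shift_iso (S := ShortComplex.mk ι π w) hS hL G i
      haveI := hS.mono_f
      haveI := hS.epi_g
      let Sx : ShortComplex (ModuleCat.{u} (X.presheaf.stalk x)) :=
        ShortComplex.moduleCatMk (stalkLin ι x) (stalkLin π x)
          (LinearMap.ext fun m => stalkFun_comp_eq_zero ι π w x m)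
      have hSx : Sx.ShortExact :=
        ModuleCat.shortComplex_shortExact Sx (stalkFun_exact (ShortComplex.mk ι π w) hS x)
          (stalkFun_injective_of_mono ι x) (stalkFun_surjective_of_epi π x)
      obtain ⟨hfree, hfin⟩ := Groth.Agent.H4.FAmp8.free_finite_stalk_of_lfAt L x (hL x)
      haveI : Module.Free (X.presheaf.stalk x) (L.presheaf.stalk x) := hfree
      haveI hproj : Projective (ModuleCat.of (X.presheaf.stalk x) (L.presheaf.stalk x)) :=
        (IsProjective.iff_projective _).mp inferInstance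
      haveI : Projective Sx.X₂ := hproj
      let Gx : ModuleCat.{u} (X.presheaf.stalk x) :=
        ModuleCat.of (X.presheaf.stalk x) (G.presheaf.stalk x)
      obtain ⟨Ψ⟩ := nonempty_ext_shift (X.presheaf.stalk x) hSx Gx i
        (Ext.subsingleton_of_projective _ _ i) (Ext.subsingleton_of_projective _ _ (i + 1))
      exact ⟨(stalkEquivOfIso es x).symm ≪≫ₗ Θ ≪≫ₗ Ψ⟩

end Groth.Agent.LD.XS.StalkExt
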